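import Cfsg.Agent.ZN.ChoiceSit

/-!
# TORUS (the last exception of TEXT LL, `q = 2`): (Sig) of helper607 #23961

`K` acts on `V` (order `16`) as `SL₂(4)`, `V1` a line, `B0` the root group of `V1`. `S1` is a 2-group which normalises `B0`,
`B`, `V`, `V1` and centralises `z ∈ V1`; `B ≤ S1` normalises `K`, moves `V1`, and is a Sylow 2-subgroup of `⟨K, K^s, B⟩`.

* `N4` : the literal data; `M4` : what is used;
* `M4.full`, `M4.spread`, `M4.root` ;
* `N4.sig` : **`S1` permutes the lines `V1^k`, `k ∈ K`** (`B` permutes the lines: hypothesis; `B ≤ N(K)`: `PL.of_norm`).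
-/

set_option autoImplicit false
set_option linter.unusedSectionVars false
set_option linter.unusedVariables false
set_option linter.unusedSimpArgs false

namespace Cfsg.Agent.Omega.OM.Lev.Low.TorusK.Sig

open Subgroup Cfsg Cfsg.Agent.ZN.ChoiceBase Cfsg.Agent.ZN.ChoiceSit

universe u

variable {G : Type u} [Group G]

/-- `u • w` -/
def cn (u w : G) : G := u * w * u⁻¹

theorem cn_cn (u v w : G) : cn (u * v) w = cn u (cn v w) := by simp only [cn]; group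

theorem cn_mul (u v w : G) : cn u (v * w) = cn u v * cn u w := by simp only [cn]; group

theorem cn_inv (u v : G) : cn u v⁻¹ = (cn u v)⁻¹ := by simp only [cn]; group

theorem cn_one (w : G) : cn 1 w = w := by simp [cn]

theorem cn_inv_cn (u w : G) : cn u⁻¹ (cn u w) = w := by rw [← cn_cn, inv_mul_cancel, cn_one]

theorem cn_cn_inv (u w : G) : cn u (cn u⁻¹ w) = w := by rw [← cn_cn, mul_inv_cancel, cn_one]

theorem cn_eq_self {u w : G} : cn u w = w ↔ u * w = w * u := by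
  unfold cn
  rw [mul_inv_eq_iff_eq_mul]

theorem cn_inj {u v w : G} : cn u v = cn u w ↔ v = w :=
  ⟨fun h => by rw [← cn_inv_cn u v, h, cn_inv_cn], fun h => by rw [h]⟩

theorem mem_cj' {u w : G} {H : Subgroup G} (h : w ∈ H) : cn u w ∈ cj u H := ⟨w, h, rfl⟩

theorem cn_inv_eq {u w w' : G} : cn u⁻¹ w = w' ↔ w = cn u w' :=
  ⟨fun h => by rw [← h, cn_cn_inv], fun h => by rw [h, cn_inv_cn]⟩

theorem mem_of_norm {u w : G} {H : Subgroup G} (hu : u ∈ normalizer (H : Set G)) (h : w ∈ H) : cn u w ∈ H :=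
  (mem_normalizer_iff.1 hu w).1 h

theorem comm_of_sq {H : Subgroup G} (sq : ∀ x ∈ H, x * x = 1) {x y : G} (hx : x ∈ H) (hy : y ∈ H) : x * y = y * x := by
  have h1 := sq _ (mul_mem hx hy)
  have h2 : x⁻¹ = x := inv_eq_of_mul_eq_one_left (sq x hx)
  have h3 : y⁻¹ = y := inv_eq_of_mul_eq_one_left (sq y hy)
  have h4 : (x * y)⁻¹ = x * y := inv_eq_of_mul_eq_one_left h1
  rw [← h4, mul_inv_rev, h2, h3]

/-- four elements -/
theorem four_cases {Q : Type*} (h4 : Nat.card Q = 4) {p q r s : Q} (h1 : p ≠ q) (h2 : p ≠ r) (h3 : p ≠ s) (h5 : q ≠ r)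
    (h6 : q ≠ s) (h7 : r ≠ s) (t : Q) : t = p ∨ t = q ∨ t = r ∨ t = s := by
  classical
  have hf : Finite Q := Nat.finite_of_card_ne_zero (by omega)
  have := Fintype.ofFinite Q
  rw [Nat.card_eq_fintype_card] at h4
  have h8 : ({p, q, r, s} : Finset Q).card = 4 := by
    rw [Finset.card_insert_of_notMem, Finset.card_insert_of_notMem, Finset.card_insert_of_notMem, Finset.card_singleton]
    · simpa using h7
    · simp [h5, h6]
    · simp [h1, h2, h3]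
  have h9 : ({p, q, r, s} : Finset Q) = Finset.univ := Finset.eq_univ_of_card _ (by rw [h8, h4])
  have h10 : t ∈ ({p, q, r, s} : Finset Q) := by rw [h9]; exact Finset.mem_univ t
  simpa using h10

/-- four elements of a four-group -/
theorem four_sub {H : Subgroup G} (h4 : Nat.card H = 4) (sq : ∀ x ∈ H, x * x = 1) {x y : G} (hx : x ∈ H) (hy : y ∈ H)
    (h1 : x ≠ 1) (h2 : y ≠ 1) (h3 : x ≠ y) {t : G} (ht : t ∈ H) : t = 1 ∨ t = x ∨ t = y ∨ t = x * y := by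
  have hxy : x * y ≠ 1 := fun e => h3 (by
    have := mul_left_cancel (e.trans (sq x hx).symm)
    exact this.symm)
  rcases four_cases h4 (p := (1 : H)) (q := ⟨x, hx⟩) (r := ⟨y, hy⟩) (s := ⟨x * y, mul_mem hx hy⟩)
    (fun e => h1 (congrArg Subtype.val e).symm) (fun e => h2 (congrArg Subtype.val e).symm)
    (fun e => hxy (congrArg Subtype.val e).symm) (fun e => h3 (congrArg Subtype.val e))
    (fun e => h2 (by have := congrArg Subtype.val e; simpa using this))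
    (fun e => h1 (by have := congrArg Subtype.val e; simpa using this)) ⟨t, ht⟩ with h | h | h | h
  · exact Or.inl (congrArg Subtype.val h)
  · exact Or.inr (Or.inl (congrArg Subtype.val h))
  · exact Or.inr (Or.inr (Or.inl (congrArg Subtype.val h)))
  · exact Or.inr (Or.inr (Or.inr (congrArg Subtype.val h)))

/-- A Sylow group covers a 2-quotient. -/
theorem exists_of_syl [Finite G] {T R C : Subgroup G} (hT : Syl T R) (hC : C ≤ R)
    (hn : ∀ r ∈ R, ∀ c ∈ C, r * c * r⁻¹ ∈ C) (sq : ∀ r ∈ R, ∃ n : ℕ, r ^ 2 ^ n ∈ C) {r : G} (hr : r ∈ R) :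
    ∃ t ∈ T, t⁻¹ * r ∈ C := by
  have hN : (C.subgroupOf R).Normal := ⟨fun n hn' g => by
    rw [mem_subgroupOf] at hn' ⊢
    exact hn g g.2 n hn'⟩
  have h2 : IsPGroup 2 (R ⧸ C.subgroupOf R) := by
    intro q
    obtain ⟨x, rfl⟩ := QuotientGroup.mk_surjective q
    obtain ⟨n, h⟩ := sq x x.2
    refine ⟨n, ?_⟩
    rw [← QuotientGroup.mk_pow, QuotientGroup.eq_one_iff, mem_subgroupOf]
    exact h
  have : Fact (Nat.Prime 2) := ⟨Nat.prime_two⟩
  obtain ⟨n, hn2⟩ := IsPGroup.iff_card.1 h2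
  have h3 : (C ⊔ T).relIndex R ∣ 2 ^ n := by
    rw [← hn2]
    exact relIndex_dvd_of_le_left R le_sup_left
  have h4 : (C ⊔ T).relIndex R ∣ T.relIndex R := relIndex_dvd_of_le_left R le_sup_right
  have h5 : (C ⊔ T).relIndex R = 1 := by
    obtain ⟨m, hm, e⟩ := (Nat.dvd_prime_pow Nat.prime_two).1 h3
    rcases Nat.eq_zero_or_pos m with rfl | hm'
    · rw [e, pow_zero]
    · exact absurd ((dvd_pow_self 2 (by omega)).trans (e ▸ h4)) (syl_not_dvd hT)
  have h6 : R ≤ C ⊔ T := relIndex_eq_one.1 h5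
  let Q : Subgroup G :=
    { carrier := {g | ∃ t ∈ T, t⁻¹ * g ∈ C}
      one_mem' := ⟨1, one_mem _, by simp⟩
      mul_mem' := by
        rintro a b ⟨s, hs, ha⟩ ⟨t, ht, hb⟩
        refine ⟨s * t, mul_mem hs ht, ?_⟩
        have e : (s * t)⁻¹ * (a * b) = t⁻¹ * (s⁻¹ * a) * t⁻¹⁻¹ * (t⁻¹ * b) := by group
        rw [e]
        exact mul_mem (hn _ (inv_mem (hT.1 ht)) _ ha) hb
      inv_mem' := by
        rintro a ⟨s, hs, ha⟩
        refine ⟨s⁻¹, inv_mem hs, ?_⟩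
        have e : s⁻¹⁻¹ * a⁻¹ = s * (s⁻¹ * a)⁻¹ * s⁻¹ := by group
        rw [e]
        exact hn _ (hT.1 hs) _ (inv_mem ha) }
  have h7 : C ⊔ T ≤ Q := sup_le (fun c hc => ⟨1, one_mem _, by simpa using hc⟩)
    fun t ht => ⟨t, ht, by rw [inv_mul_cancel]; exact one_mem _⟩
  exact h7 (h6 hr)

/-- What is used of `N4`. -/
structure M4 (B0 K V V1 : Subgroup G) : Prop where
  sq : ∀ v ∈ V, v * v = 1
  card : Nat.card V = 16
  V1V : V1 ≤ V
  card1 : Nat.card V1 = 4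
  BK : B0 ≤ K
  KV : K ≤ normalizer (V : Set G)
  c1 : ∀ b ∈ B0, ∀ v ∈ V1, cn b v = v
  quad : ∀ b ∈ B0, ∀ v ∈ V, cn b v * v⁻¹ ∈ V1
  cent : ∀ b ∈ B0, (∃ v ∈ V, cn b v ≠ v) → ∀ v ∈ V, cn b v = v → v ∈ V1
  cardB : Nat.card B0 = Nat.card ↥(B0 ⊓ centralizer (V : Set G)) * 4
  opp : ∀ l ∈ K, cj l V1 ≠ V1 → ∀ v ∈ V1, cn l v ∈ V1 → v = 1

/-- The literal data of helper607. -/
structure N4 (B0 K V V1 : Subgroup G) : Prop where
  el : IsElementaryAbelian 2 V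
  card : Nat.card V = 16
  V1V : V1 ≤ V
  card1 : Nat.card V1 = 4
  BK : B0 ≤ K
  KV : K ≤ normalizer (V : Set G)
  c1 : ∀ b ∈ B0, ∀ v ∈ V1, b * v = v * b
  quad : ∀ b ∈ B0, ∀ v ∈ V, b * v * b⁻¹ * v⁻¹ ∈ V1
  cent : ∀ b ∈ B0, (∃ v ∈ V, b * v ≠ v * b) → ∀ v ∈ V, b * v = v * b → v ∈ V1
  cardB : Nat.card B0 = Nat.card ↥(B0 ⊓ centralizer (V : Set G)) * 4
  opp : ∀ l ∈ K, (∃ v ∈ V1, l * v * l⁻¹ ∉ V1) → ∀ v ∈ V1, l * v * l⁻¹ ∈ V1 → v = 1
  mv : ∃ l ∈ K, ∃ v ∈ V1, l * v * l⁻¹ ∉ V1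

theorem N4.toM4 {B0 K V V1 : Subgroup G} (h : N4 B0 K V V1) : M4 B0 K V V1 where
  sq v hv := by rw [← pow_two]; exact h.el.2 v hv
  card := h.card
  V1V := h.V1V
  card1 := h.card1
  BK := h.BK
  KV := h.KV
  c1 b hb v hv := cn_eq_self.2 (h.c1 b hb v hv)
  quad := h.quad
  cent b hb := by
    rintro ⟨v, hv, hne⟩ w hw e
    exact h.cent b hb ⟨v, hv, fun e => hne (cn_eq_self.2 e)⟩ w hw (cn_eq_self.1 e)
  cardB := h.cardB
  opp l hl hne := by
    refine h.opp l hl ?_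
    by_contra hcon
    push Not at hcon
    have hf : Finite V1 := Nat.finite_of_card_ne_zero (by rw [h.card1]; omega)
    apply hne
    refine Subgroup.eq_of_le_of_card_ge ?_ (by rw [card_cj])
    rintro _ ⟨v, hv, rfl⟩
    exact hcon v hv

namespace M4

variable {B0 K V V1 : Subgroup G} (h : M4 B0 K V V1)
include h

theorem fin : Finite V := Nat.finite_of_card_ne_zero (by rw [h.card]; omega)

theorem comm {u v : G} (hu : u ∈ V) (hv : v ∈ V) : u * v = v * u := comm_of_sq h.sq hu hv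

theorem inv' {u : G} (hu : u ∈ V) : u⁻¹ = u := inv_eq_of_mul_eq_one_left (h.sq u hu)

theorem conj {l : G} (hl : l ∈ K) : M4 (cj l B0) K V (cj l V1) := by
  have hV : cj l V = V := mem_normalizer_iff_cj.1 (h.KV hl)
  have hK : ∀ {k : G}, k ∈ K → cn l⁻¹ k ∈ K := fun hk => mul_mem (mul_mem (inv_mem hl) hk) (inv_mem (inv_mem hl))
  have hvl : ∀ {v : G}, v ∈ V → cn l⁻¹ v ∈ V := fun hv => mem_of_norm (h.KV (inv_mem hl)) hv
  have key : ∀ g v : G, cn (cn l⁻¹ g) (cn l⁻¹ v) = cn l⁻¹ (cn g v) := fun g v => by simp only [cn]; group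
  exact
    { sq := h.sq
      card := h.card
      V1V := by rw [← hV]; exact cj_mono l h.V1V
      card1 := by rw [card_cj, h.card1]
      BK := by
        rintro _ ⟨b, hb, rfl⟩
        exact mul_mem (mul_mem hl (h.BK hb)) (inv_mem hl)
      KV := h.KV
      c1 := by
        rintro _ ⟨b, hb, rfl⟩ _ ⟨v, hv, rfl⟩
        show cn (cn l b) (cn l v) = cn l v
        have : cn (cn l b) (cn l v) = cn l (cn b v) := by simp only [cn]; group
        rw [this, h.c1 b hb v hv]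
      quad := by
        rintro _ ⟨b, hb, rfl⟩ v hv
        show cn (cn l b) v * v⁻¹ ∈ _
        have := h.quad b hb _ (hvl hv)
        refine ⟨_, this, ?_⟩
        show cn l _ = _
        simp only [cn]; group
      cent := by
        rintro _ ⟨b, hb, rfl⟩ ⟨v, hv, hne⟩ w hw e
        change cn (cn l b) v ≠ v at hne
        change cn (cn l b) w = w at e
        have h1 : ∀ v, cn l⁻¹ (cn (cn l b) v) = cn b (cn l⁻¹ v) := fun v => by simp only [cn]; group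
        have h2 := h.cent b hb ⟨cn l⁻¹ v, hvl hv, fun e' => hne (by rw [← h1, cn_inj] at e'; exact e')⟩ (cn l⁻¹ w)
          (hvl hw) (by rw [← h1, e])
        exact ⟨_, h2, cn_cn_inv l w⟩
      cardB := by
        have h1 : cj l (B0 ⊓ centralizer (V : Set G)) = cj l B0 ⊓ centralizer (V : Set G) := by
          rw [cj_inf, cj_centralizer, hV]
        rw [← h1, card_cj, card_cj, h.cardB]
      opp := by
        intro k hk hne v hv hkv
        obtain ⟨v, hv, rfl⟩ := hv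
        change cn k (cn l v) ∈ _ at hkv
        rw [mem_cj] at hkv
        have h1 : cn (cn l⁻¹ k) v ∈ V1 := by
          have e : cn (cn l⁻¹ k) v = l⁻¹ * cn k (cn l v) * l := by simp only [cn]; group
          rw [e]; exact hkv
        have h2 : cj (cn l⁻¹ k) V1 ≠ V1 := by
          intro e
          apply hne
          have := congrArg (cj l) e
          rw [cj_cj] at this
          rw [cj_cj, ← this]
          congr 1
          simp only [cn]; group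
        have h3 := h.opp _ (hK hk) h2 v hv h1
        rw [h3]
        show cn l 1 = 1
        simp [cn] }

/-- two lines with a common element `≠ 1` are equal -/
theorem spread {k k' v : G} (hk : k ∈ K) (hk' : k' ∈ K) (h1 : v ∈ cj k V1) (h2 : v ∈ cj k' V1) (hv : v ≠ 1) :
    cj k V1 = cj k' V1 := by
  by_contra hne
  rw [mem_cj] at h1 h2
  have h3 : cj (k'⁻¹ * k) V1 ≠ V1 := by
    intro e
    apply hne
    have := congrArg (cj k') e
    rw [cj_cj] at this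
    rw [← this]
    congr 1
    group
  have h4 := h.opp _ (mul_mem (inv_mem hk') hk) h3 _ h1 (by
    have e : cn (k'⁻¹ * k) (k⁻¹ * v * k) = k'⁻¹ * v * k' := by simp only [cn]; group
    rw [e]; exact h2)
  apply hv
  calc v = k * (k⁻¹ * v * k) * k⁻¹ := by group
    _ = 1 := by rw [h4]; group

theorem inf_bot {k v : G} (hk : k ∈ K) (hne : cj k V1 ≠ V1) (h1 : v ∈ V1) (h2 : v ∈ cj k V1) : v = 1 := by
  by_contra hv
  apply hne
  have := h.spread hk (one_mem K) h2 (by rwa [cj_one]) hv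
  rwa [cj_one] at this

/-- an element of `B0` which fixes `v ∈ V`, `v ∉ V1`, centralises `V` -/
theorem triv {b v : G} (hb : b ∈ B0) (hv : v ∈ V) (hv1 : v ∉ V1) (e : cn b v = v) : ∀ w ∈ V, cn b w = w := by
  intro w hw
  by_contra hne
  exact hv1 (h.cent b hb ⟨w, hw, hne⟩ v hv e)

theorem eq_of_one {b b' v : G} (hb : b ∈ B0) (hb' : b' ∈ B0) (hv : v ∈ V) (hv1 : v ∉ V1) (e : cn b v = cn b' v) :
    ∀ w ∈ V, cn b w = cn b' w := by
  intro w hw
  have h1 := h.triv (mul_mem (inv_mem hb') hb) hv hv1 (by rw [cn_cn, e, cn_inv_cn]) w hw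
  rw [cn_cn, cn_inv_eq] at h1
  exact h1

/-- `b ↦ [b, v]` is onto `V1` -/
theorem full [Finite G] {v x : G} (hv : v ∈ V) (hv1 : v ∉ V1) (hx : x ∈ V1) : ∃ b ∈ B0, cn b v = x * v := by
  let f : B0 →* V1 :=
    { toFun := fun b => ⟨cn (b : G) v * v⁻¹, h.quad b b.2 v hv⟩
      map_one' := by
        apply Subtype.ext
        simp [cn]
      map_mul' := by
        intro b b'
        apply Subtype.ext
        show cn ((b : G) * (b' : G)) v * v⁻¹ = cn (b : G) v * v⁻¹ * (cn (b' : G) v * v⁻¹)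
        have h1 := h.c1 b b.2 _ (h.quad b' b'.2 v hv)
        have h2 : cn ((b : G) * (b' : G)) v * v⁻¹ = cn (b : G) (cn (b' : G) v * v⁻¹) * (cn (b : G) v * v⁻¹) := by
          simp only [cn]; group
        rw [h2, h1]
        exact comm_of_sq (fun x hx => h.sq x (h.V1V hx)) (h.quad b' b'.2 v hv) (h.quad b b.2 v hv) }
  have hker : f.ker = (B0 ⊓ centralizer (V : Set G)).subgroupOf B0 := by
    ext b
    rw [MonoidHom.mem_ker, mem_subgroupOf]
    constructor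
    · intro e
      have e1 : cn (b : G) v = v := by
        have := congrArg Subtype.val e
        change cn (b : G) v * v⁻¹ = 1 at this
        rwa [mul_inv_eq_one] at this
      refine mem_inf.2 ⟨b.2, mem_centralizer_iff.2 ?_⟩
      intro w hw
      exact (cn_eq_self.1 (h.triv b.2 hv hv1 e1 w hw)).symm
    · rintro ⟨-, hb⟩
      apply Subtype.ext
      show cn (b : G) v * v⁻¹ = 1
      rw [mul_inv_eq_one, cn_eq_self]
      exact (mem_centralizer_iff.1 hb v hv).symm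
  have hfV : Finite V1 := Nat.finite_of_card_ne_zero (by rw [h.card1]; omega)
  have h1 : Nat.card f.range = 4 := by
    rw [← Subgroup.index_ker, hker]
    have h2 := Subgroup.relIndex_mul_relIndex ⊥ (B0 ⊓ centralizer (V : Set G)) B0 bot_le inf_le_left
    rw [relIndex_bot_left, relIndex_bot_left, h.cardB] at h2
    exact Nat.eq_of_mul_eq_mul_left Nat.card_pos h2
  have h6 : f.range = ⊤ := Subgroup.eq_top_of_card_eq _ (by rw [h1, h.card1])
  obtain ⟨b, hb⟩ := (MonoidHom.range_eq_top.1 h6) ⟨x, hx⟩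
  refine ⟨b, b.2, ?_⟩
  have := congrArg Subtype.val hb
  change cn (b : G) v * v⁻¹ = x at this
  rw [← this]; group

theorem lineV {k : G} (hk : k ∈ K) : cj k V1 ≤ V := by
  rw [← mem_normalizer_iff_cj.1 (h.KV hk)]
  exact cj_mono k h.V1V

theorem compl {k v : G} (hk : k ∈ K) (hne : cj k V1 ≠ V1) (hv : v ∈ V) : ∃ p ∈ V1, ∃ q ∈ cj k V1, v = p * q := by
  have hf := h.fin
  have hf1 : Finite V1 := Nat.finite_of_card_ne_zero (by rw [h.card1]; omega)
  have hc2 : Nat.card (cj k V1) = 4 := by rw [card_cj, h.card1]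
  have hf2 : Finite (cj k V1) := Nat.finite_of_card_ne_zero (by rw [hc2]; omega)
  let f : V1 × cj k V1 → V := fun x => ⟨(x.1 : G) * x.2, mul_mem (h.V1V x.1.2) (h.lineV hk x.2.2)⟩
  have hinj : Function.Injective f := by
    rintro ⟨p, q⟩ ⟨p', q'⟩ e
    have e1 : (p : G) * q = p' * q' := congrArg Subtype.val e
    have e2 : (p' : G)⁻¹ * p = q' * (q : G)⁻¹ := by
      rw [inv_mul_eq_iff_eq_mul, ← mul_assoc, ← e1]; group
    have e3 : (p' : G)⁻¹ * p = 1 := h.inf_bot hk hne (mul_mem (inv_mem p'.2) p.2)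
      (e2 ▸ mul_mem q'.2 (inv_mem q.2))
    have e4 : (q' : G) * (q : G)⁻¹ = 1 := e2 ▸ e3
    have e5 : (p' : G) = p := inv_mul_eq_one.1 e3
    have e6 : (q' : G) = q := mul_inv_eq_one.1 e4
    rw [Prod.mk.injEq]
    exact ⟨Subtype.ext e5.symm, Subtype.ext e6.symm⟩
  have hcard : Nat.card (V1 × cj k V1) = Nat.card V := by rw [Nat.card_prod, h.card1, hc2, h.card]
  have hsurj : Function.Surjective f := ((Nat.bijective_iff_injective_and_card f).2 ⟨hinj, hcard⟩).2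
  obtain ⟨⟨p, q⟩, e⟩ := hsurj ⟨v, hv⟩
  exact ⟨p, p.2, q, q.2, (congrArg Subtype.val e).symm⟩

theorem exists_ne (k : G) : ∃ q ∈ cj k V1, q ≠ 1 := by
  by_contra hcon
  push Not at hcon
  have h1 : cj k V1 = ⊥ := (Subgroup.eq_bot_iff_forall _).2 hcon
  have h2 : Nat.card (cj k V1) = 4 := by rw [card_cj, h.card1]
  rw [h1, Subgroup.card_bot] at h2
  omega

end M4

/-- `g` permutes the lines -/
def PL (K V1 : Subgroup G) (g : G) : Prop := ∀ k ∈ K, ∃ k' ∈ K, cj g (cj k V1) = cj k' V1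

theorem PL.mul {K V1 : Subgroup G} {g g' : G} (h : PL K V1 g) (h' : PL K V1 g') : PL K V1 (g * g') := by
  intro k hk
  obtain ⟨k1, hk1, e1⟩ := h' k hk
  obtain ⟨k2, hk2, e2⟩ := h k1 hk1
  exact ⟨k2, hk2, by rw [← cj_cj, e1, e2]⟩

theorem PL.of_mem {K V1 : Subgroup G} {g : G} (h : g ∈ K) : PL K V1 g := fun k hk => ⟨g * k, mul_mem h hk, cj_cj _ _ _⟩

theorem PL.of_norm {K V1 : Subgroup G} {g : G} (h : g ∈ normalizer (K : Set G)) (h' : g ∈ normalizer (V1 : Set G)) :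
    PL K V1 g := by
  intro k hk
  refine ⟨g * k * g⁻¹, (mem_normalizer_iff.1 h k).1 hk, ?_⟩
  rw [← cj_cj, ← cj_cj, mem_normalizer_iff_cj.1 (inv_mem h')]

theorem PL.conj {K V1 : Subgroup G} {g l : G} (hl : l ∈ K) (h : PL K V1 g) : PL K (cj l V1) g := by
  intro k hk
  obtain ⟨k', hk', e⟩ := h (k * l) (mul_mem hk hl)
  refine ⟨k' * l⁻¹, mul_mem hk' (inv_mem hl), ?_⟩
  rw [cj_cj k, e, cj_cj]
  congr 1
  group

theorem PL.congr {K V V1 : Subgroup G} {g g' : G} (hV : ∀ k ∈ K, cj k V1 ≤ V) (e : ∀ v ∈ V, cn g v = cn g' v)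
    (h : PL K V1 g) : PL K V1 g' := by
  intro k hk
  obtain ⟨k', hk', e'⟩ := h k hk
  refine ⟨k', hk', ?_⟩
  rw [← e']
  apply le_antisymm
  · rintro _ ⟨v, hv, rfl⟩
    exact ⟨v, hv, e v (hV k hk hv)⟩
  · rintro _ ⟨v, hv, rfl⟩
    exact ⟨v, hv, (e v (hV k hk hv)).symm⟩

namespace M4

variable {B0 K V V1 : Subgroup G} (h : M4 B0 K V V1)
include h

/-- **ROOT**: what acts trivially on `V1` and on `V/V1` and permutes the lines, acts as an element of `B0`. -/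
theorem root [Finite G] {g k : G} (hk : k ∈ K) (hne : cj k V1 ≠ V1) (hg : PL K V1 g) (g1 : ∀ v ∈ V1, cn g v = v)
    (g2 : ∀ v ∈ V, cn g v * v⁻¹ ∈ V1) : ∃ b ∈ B0, ∀ v ∈ V, cn g v = cn b v := by
  obtain ⟨q0, hq0, hq1⟩ := h.exists_ne k
  have hqV : q0 ∈ V := h.lineV hk hq0
  have hqn : q0 ∉ V1 := fun e => hq1 (h.inf_bot hk hne e hq0)
  obtain ⟨b, hb, e⟩ := h.full hqV hqn (g2 q0 hqV)
  have e1 : cn b q0 = cn g q0 := by rw [e]; group
  refine ⟨b, hb, ?_⟩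
  obtain ⟨k', hk', ek⟩ := hg k hk
  have hbk := mul_mem (h.BK hb) hk
  have h1 : cj k' V1 = cj (b * k) V1 := by
    refine h.spread hk' hbk (v := cn g q0) ?_ ?_ ?_
    · rw [← ek]; exact mem_cj' hq0
    · rw [← e1, ← cj_cj]; exact mem_cj' hq0
    · intro e'
      apply hq1
      rw [← cn_inv_cn g q0, e']
      simp [cn]
  have h2 : cj (b * k) V1 ≠ V1 := by
    intro e'
    apply hne
    have hbn : cj b V1 = V1 := by
      have hf1 : Finite V1 := Nat.finite_of_card_ne_zero (by rw [h.card1]; omega)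
      refine Subgroup.eq_of_le_of_card_ge ?_ (by rw [card_cj])
      rintro _ ⟨v, hv, rfl⟩
      show cn b v ∈ V1
      rw [h.c1 b hb v hv]
      exact hv
    rw [← cj_cj] at e'
    have := congrArg (cj b⁻¹) e'
    rw [cj_inv_cj] at this
    rw [this]
    nth_rewrite 1 [← hbn]
    rw [cj_inv_cj]
  have h3 : ∀ q ∈ cj k V1, cn g q = cn b q := by
    intro q hq
    have h4 : cn g q ∈ cj (b * k) V1 := by rw [← h1, ← ek]; exact mem_cj' hq
    have h5 : cn b q ∈ cj (b * k) V1 := by rw [← cj_cj]; exact mem_cj' hq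
    have h6 : cn g q * (cn b q)⁻¹ ∈ V1 := by
      have e2 : cn g q * (cn b q)⁻¹ = (cn g q * q⁻¹) * (cn b q * q⁻¹)⁻¹ := by group
      rw [e2]
      exact mul_mem (g2 q (h.lineV hk hq)) (inv_mem (h.quad b hb q (h.lineV hk hq)))
    exact mul_inv_eq_one.1 (h.inf_bot hbk h2 h6 (mul_mem h4 (inv_mem h5)))
  intro v hv
  obtain ⟨p, hp, q, hq, rfl⟩ := h.compl hk hne hv
  rw [cn_mul, cn_mul, g1 p hp, h.c1 b hb p hp, h3 q hq]

/-- `B0` is transitive on the lines `≠ V1`. -/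
theorem trans [Finite G] {k k' : G} (hk : k ∈ K) (hne : cj k V1 ≠ V1) (hk' : k' ∈ K) (hne' : cj k' V1 ≠ V1) :
    ∃ b ∈ B0, cj b (cj k V1) = cj k' V1 := by
  obtain ⟨q0, hq0, hq1⟩ := h.exists_ne k
  have hqV : q0 ∈ V := h.lineV hk hq0
  have hqn : q0 ∉ V1 := fun e => hq1 (h.inf_bot hk hne e hq0)
  obtain ⟨p, hp, q, hq, e⟩ := h.compl hk' hne' hqV
  obtain ⟨b, hb, eb⟩ := h.full hqV hqn hp
  have e1 : cn b q0 = q := by
    rw [eb, e, ← mul_assoc, h.sq p (h.V1V hp), one_mul]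
  refine ⟨b, hb, ?_⟩
  rw [cj_cj]
  refine h.spread (mul_mem (h.BK hb) hk) hk' (v := q) ?_ hq ?_
  · rw [← e1, ← cj_cj]; exact mem_cj' hq0
  · rintro rfl
    rw [mul_one] at e
    exact hqn (e ▸ hp)

end M4

/-- a 2-element which fixes `x` under its cube fixes `x` -/
theorem fix_of_cube {g x : G} (h2 : ∃ n : ℕ, g ^ 2 ^ n = 1) (h3 : cn (g * (g * g)) x = x) : cn g x = x := by
  obtain ⟨n, hn⟩ := h2
  have h4 : Nat.Coprime (orderOf g) 3 := by
    have h5 : orderOf g ∣ 2 ^ n := orderOf_dvd_of_pow_eq_one hn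
    exact Nat.Coprime.coprime_dvd_left h5 (Nat.Coprime.pow_left n (by decide))
  obtain ⟨m, hm⟩ := exists_pow_eq_self_of_coprime h4.symm
  have h6 : ∀ m : ℕ, cn ((g ^ 3) ^ m) x = x := by
    intro m
    induction m with
    | zero => rw [pow_zero, cn_one]
    | succ m ih =>
      rw [pow_succ, cn_cn]
      have e : g ^ 3 = g * (g * g) := by rw [pow_succ, pow_two, mul_assoc]
      rw [e, h3, ← e, ih]
  have := h6 m
  rwa [hm] at this

/-- a 2-element on a four-group which it does not centralise -/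
theorem two_on_four {g : G} {H : Subgroup G} (h4 : Nat.card H = 4) (sq : ∀ x ∈ H, x * x = 1)
    (h2 : ∃ n : ℕ, g ^ 2 ^ n = 1) (hn : ∀ x ∈ H, cn g x ∈ H) (hne : ∃ x ∈ H, cn g x ≠ x) :
    ∃ c ∈ H, ∃ d ∈ H, c ≠ 1 ∧ d ≠ 1 ∧ c ≠ d ∧ cn g c = c ∧ cn g d = c * d := by
  obtain ⟨x, hx, hne⟩ := hne
  have h1 : ∀ {y : G}, cn g y = 1 → y = 1 := by
    intro y e
    rw [← cn_inv_cn g y, e]
    simp [cn]
  have hx1 : x ≠ 1 := by
    rintro rfl
    exact hne (by simp [cn])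
  have hy := hn x hx
  have hy1 : cn g x ≠ 1 := fun e => hx1 (h1 e)
  have hxy : x * cn g x ≠ 1 := by
    intro e
    have := mul_left_cancel (e.trans (sq x hx).symm)
    exact hne this
  rcases four_sub h4 sq hx hy hx1 hy1 (fun e => hne e.symm) (hn _ hy) with h | h | h | h
  · exact absurd (h1 h) hy1
  · refine ⟨x * cn g x, mul_mem hx hy, x, hx, hxy, hx1, ?_, ?_, ?_⟩
    · intro e
      apply hy1
      exact mul_left_cancel (e.trans (mul_one x).symm)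
    · rw [cn_mul, h]
      exact comm_of_sq sq hy hx
    · rw [mul_assoc, comm_of_sq sq hy hx, ← mul_assoc, sq x hx, one_mul]
  · exact absurd (cn_inj.1 h) hne
  · exfalso
    apply hne
    apply fix_of_cube h2
    rw [cn_cn, cn_cn, h, cn_mul, h, comm_of_sq sq hx hy, ← mul_assoc, sq _ hy, one_mul]

/-- the fixed points of `t` on a four-group: `1, a` -/
theorem fix_four {t a b y : G} {H : Subgroup G} (h4 : Nat.card H = 4) (sq : ∀ x ∈ H, x * x = 1) (ha : a ∈ H)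
    (hb : b ∈ H) (a1 : a ≠ 1) (b1 : b ≠ 1) (ab : a ≠ b) (ta : cn t a = a) (tb : cn t b ≠ b) (hy : y ∈ H)
    (ty : cn t y = y) : y = 1 ∨ y = a := by
  rcases four_sub h4 sq ha hb a1 b1 ab hy with h | h | h | h
  · exact Or.inl h
  · exact Or.inr h
  · exact absurd (h ▸ ty) tb
  · exfalso
    apply tb
    rw [h, cn_mul, ta] at ty
    exact mul_left_cancel ty

/-- The basis `a, b` of `V1`, `c, d` of a second line. -/
structure Dat (B0 K V V1 L0 : Subgroup G) (a b c d t α w : G) : Prop where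
  ha : a ∈ V1
  hb : b ∈ V1
  a1 : a ≠ 1
  b1 : b ≠ 1
  ab : a ≠ b
  line : ∃ l ∈ K, L0 = cj l V1
  ne : L0 ≠ V1
  hc : c ∈ L0
  hd : d ∈ L0
  c1 : c ≠ 1
  d1 : d ≠ 1
  cd : c ≠ d
  hα : α ∈ B0
  αc : cn α c = a * c
  αd : cn α d = b * d
  ta : cn t a = a
  tb : cn t b = a * b
  tc : cn t c = c
  td : cn t d = c * d
  hw : w ∈ K
  wa : cn w a = c
  wb : cn w b = d
  wc : cn w c = a
  wd : cn w d = b

namespace M4

variable {B0 K V V1 : Subgroup G} (h : M4 B0 K V V1)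
include h

/-- conjugation of `b ∈ B0` by `g` which normalises `B0`, fixes `c ∉ V1` and `[b, c]`, does not change the action of `b`. -/
theorem conj_same {g b c : G} (gV : ∀ v ∈ V, cn g v ∈ V) (hgB : cn g b ∈ B0) (hb : b ∈ B0) (hc : c ∈ V)
    (hc1 : c ∉ V1) (gc : cn g c = c) (gx : cn g (cn b c) = cn b c) : ∀ v ∈ V, cn b (cn g v) = cn g (cn b v) := by
  have key : ∀ v, cn (cn g b) (cn g v) = cn g (cn b v) := fun v => by simp only [cn]; group
  have h1 : cn (cn g b) c = cn b c := by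
    have := key c
    rw [gc, gx] at this
    exact this
  have h2 := h.eq_of_one hgB hb hc hc1 h1
  intro v hv
  rw [← key, h2 _ (gV v hv)]

/-- rewriting rules for four elements of `V` -/
theorem rules {a b c d : G} (ha : a ∈ V) (hb : b ∈ V) (hc : c ∈ V) (hd : d ∈ V) :
    (b * a = a * b ∧ c * a = a * c ∧ d * a = a * d ∧ c * b = b * c ∧ d * b = b * d ∧ d * c = c * d) ∧
    ((∀ x, b * (a * x) = a * (b * x)) ∧ (∀ x, c * (a * x) = a * (c * x)) ∧ (∀ x, d * (a * x) = a * (d * x)) ∧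
      (∀ x, c * (b * x) = b * (c * x)) ∧ (∀ x, d * (b * x) = b * (d * x)) ∧ (∀ x, d * (c * x) = c * (d * x))) ∧
    (a * a = 1 ∧ b * b = 1 ∧ c * c = 1 ∧ d * d = 1) ∧
    ((∀ x, a * (a * x) = x) ∧ (∀ x, b * (b * x) = x) ∧ (∀ x, c * (c * x) = x) ∧ (∀ x, d * (d * x) = x)) := by
  have cm : ∀ {x y : G}, x ∈ V → y ∈ V → ∀ z : G, x * (y * z) = y * (x * z) := fun hx hy z => by
    rw [← mul_assoc, h.comm hx hy, mul_assoc]
  have sm : ∀ {x : G}, x ∈ V → ∀ z : G, x * (x * z) = z := fun hx z => by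
    rw [← mul_assoc, h.sq _ hx, one_mul]
  exact ⟨⟨h.comm hb ha, h.comm hc ha, h.comm hd ha, h.comm hc hb, h.comm hd hb, h.comm hd hc⟩,
    ⟨cm hb ha, cm hc ha, cm hd ha, cm hc hb, cm hd hb, cm hd hc⟩, ⟨h.sq a ha, h.sq b hb, h.sq c hc, h.sq d hd⟩,
    ⟨sm ha, sm hb, sm hc, sm hd⟩⟩

end M4

theorem exists_third {H : Subgroup G} (h4 : Nat.card H = 4) (c : G) : ∃ d ∈ H, d ≠ 1 ∧ d ≠ c := by
  by_contra hcon
  push Not at hcon
  have h1 : (H : Set G) ⊆ {1, c} := by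
    intro x hx
    by_cases h : x = 1
    · exact Or.inl h
    · exact Or.inr (hcon x hx h)
  have h2 := Set.ncard_le_ncard h1 (Set.toFinite _)
  have h3 : ({1, c} : Set G).ncard ≤ 2 := by
    have := Set.ncard_insert_le (1 : G) {c}
    rw [Set.ncard_singleton] at this
    exact this
  have h5 : (H : Set G).ncard = 4 := by rw [← h4]; rfl
  omega

namespace M4

variable {B0 K V V1 : Subgroup G} (h : M4 B0 K V V1)
include h

set_option maxHeartbeats 1000000 in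
theorem exists_dat [Finite G] {B : Subgroup G} (hB2 : IsPGroup 2 B) (hB0 : B0 ≤ B)
    (hBB0 : B ≤ normalizer (B0 : Set G)) (hBV : B ≤ normalizer (V : Set G)) (hBV1 : B ≤ normalizer (V1 : Set G))
    (hPL : ∀ b ∈ B, PL K V1 b) {z : G} (hz : z ∈ V1) (hz1 : z ≠ 1) (hBz : ∀ b ∈ B, cn b z = z) {t0 : G}
    (ht0 : t0 ∈ B) (hmv : ∃ v ∈ V1, cn t0 v ≠ v) {l0 : G} (hl0 : l0 ∈ K) (hne : cj l0 V1 ≠ V1) :
    ∃ t ∈ B, ∃ b c d α w, Dat B0 K V V1 (cj l0 V1) z b c d t α w := by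
  obtain ⟨k1, hk1, ek1⟩ := hPL t0 ht0 l0 hl0
  obtain ⟨b1, hb1, eb1⟩ := h.trans hk1 (by
    rw [← ek1]
    intro e
    apply hne
    have e1 : cj t0 V1 = V1 := mem_normalizer_iff_cj.1 (hBV1 ht0)
    rw [← cj_inv_cj t0 (cj l0 V1), e, ← e1, cj_inv_cj, e1]) hl0 hne
  have ht : b1 * t0 ∈ B := mul_mem (hB0 hb1) ht0
  have tL : cj (b1 * t0) (cj l0 V1) = cj l0 V1 := by rw [← cj_cj b1, ek1, eb1]
  have tmv : ∃ v ∈ V1, cn (b1 * t0) v ≠ v := by
    obtain ⟨v, hv, e⟩ := hmv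
    refine ⟨v, hv, ?_⟩
    rw [cn_cn, h.c1 b1 hb1 _ (mem_of_norm (hBV1 ht0) hv)]
    exact e
  have tz := hBz _ ht
  generalize b1 * t0 = t at ht tL tmv tz
  clear eb1 hb1 ek1 hk1
  have t2 : ∃ n : ℕ, t ^ 2 ^ n = 1 := by
    obtain ⟨n, hn⟩ := hB2 ⟨t, ht⟩
    exact ⟨n, congrArg Subtype.val hn⟩
  have tn : ∀ q ∈ cj l0 V1, cn t q ∈ cj l0 V1 := fun q hq => by
    have := mem_cj' (u := t) hq
    rwa [tL] at this
  have tni : ∀ q ∈ cj l0 V1, cn t⁻¹ q ∈ cj l0 V1 := fun q hq => by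
    have := mem_cj' (u := t⁻¹) hq
    rwa [mem_normalizer_iff_cj.1 (inv_mem (mem_normalizer_iff_cj.2 tL))] at this
  have tV : ∀ v ∈ V, cn t v ∈ V := fun v hv => mem_of_norm (hBV ht) hv
  have tVi : ∀ v ∈ V, cn t⁻¹ v ∈ V := fun v hv => mem_of_norm (inv_mem (hBV ht)) hv
  have LV : cj l0 V1 ≤ V := h.lineV hl0
  have c4 : Nat.card (cj l0 V1) = 4 := by rw [card_cj, h.card1]
  have out : ∀ q ∈ cj l0 V1, q ≠ 1 → q ∉ V1 := fun q hq hq1 hq2 => hq1 (h.inf_bot hl0 hne hq2 hq)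
  have sq1 : ∀ x ∈ V1, x * x = 1 := fun x hx => h.sq x (h.V1V hx)
  have sqL : ∀ x ∈ cj l0 V1, x * x = 1 := fun x hx => h.sq x (LV hx)
  obtain ⟨v0, hv0, ev0⟩ := tmv
  have v01 : v0 ≠ 1 := by
    rintro rfl
    exact ev0 (by simp [cn])
  have v0z : z ≠ v0 := by
    rintro rfl
    exact ev0 tz
  -- what an element of `B0` with `[α, c] = z` does
  have hA : ∀ c ∈ cj l0 V1, c ≠ 1 → ∀ d ∈ cj l0 V1, d ≠ 1 → c ≠ d → ∀ α ∈ B0, cn α c = z * c →
      cn α d * d⁻¹ ≠ 1 ∧ z ≠ cn α d * d⁻¹ := by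
    intro c hc c1 d hd d1 cd α hα αc
    have hno : ∀ q ∈ cj l0 V1, q ≠ 1 → cn α q ≠ q := by
      intro q hq q1 e
      have := h.triv hα (LV hq) (out q hq q1) e c (LV hc)
      rw [αc] at this
      exact hz1 (mul_eq_right.1 this)
    constructor
    · intro e
      exact hno d hd d1 (mul_inv_eq_one.1 e)
    · intro e
      apply hno (c * d) (mul_mem hc hd)
      · intro e'
        exact cd (by rw [← h.inv' (LV hd)]; exact eq_inv_of_mul_eq_one_left e')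
      · have e2 : cn α d = z * d := by rw [e]; group
        rw [cn_mul, αc, e2, h.comm (h.V1V hz) (LV hc), mul_assoc, ← mul_assoc z z d, sq1 z hz, one_mul]
  have tLmv : ∃ q ∈ cj l0 V1, cn t q ≠ q := by
    by_contra hcon
    push Not at hcon
    obtain ⟨c, hc, c1⟩ := h.exists_ne l0
    obtain ⟨d, hd, d1, dc⟩ := exists_third c4 c
    obtain ⟨α, hα, αc⟩ := h.full (LV hc) (out c hc c1) hz
    obtain ⟨h1, h2⟩ := hA c hc c1 d hd d1 (Ne.symm dc) α hα αc
    have h3 := h.conj_same tV ((mem_normalizer_iff.1 (hBB0 ht) α).1 hα) hα (LV hc) (out c hc c1) (hcon c hc)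
      (by rw [αc, cn_mul, tz, hcon c hc])
    have h4 := fix_four h.card1 sq1 hz hv0 hz1 v01 v0z tz ev0 (h.quad α hα d (LV hd))
      (by
        show cn t (cn α d * d⁻¹) = cn α d * d⁻¹
        rw [cn_mul, ← h3 d (LV hd), cn_inv, hcon d hd])
    rcases h4 with h4 | h4
    · exact h1 h4
    · exact h2 h4.symm
  obtain ⟨c, hc, d, hd, c1, d1, cd, tc, td⟩ := two_on_four c4 sqL t2 tn tLmv
  obtain ⟨α, hα, αc⟩ := h.full (LV hc) (out c hc c1) hz
  obtain ⟨b1, zb⟩ := hA c hc c1 d hd d1 cd α hα αc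
  have tα := h.conj_same tV ((mem_normalizer_iff.1 (hBB0 ht) α).1 hα) hα (LV hc) (out c hc c1) tc
      (by rw [αc, cn_mul, tz, tc])
  have hb : cn α d * d⁻¹ ∈ V1 := h.quad α hα d (LV hd)
  have αd : cn α d = cn α d * d⁻¹ * d := by group
  generalize cn α d * d⁻¹ = b at hb αd b1 zb
  have zV := h.V1V hz
  have bV := h.V1V hb
  have cV := LV hc
  have dV := LV hd
  obtain ⟨⟨r1, r2, r3, r4, r5, r6⟩, ⟨s1, s2, s3, s4, s5, s6⟩, ⟨q1, q2, q3, q4⟩, ⟨p1, p2, p3, p4⟩⟩ :=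
    h.rules zV bV cV dV
  have tb : cn t b = z * b := by
    have e := tα d dV
    rw [td, cn_mul, αc, αd, cn_mul, td] at e
    have e2 : z * b * (c * d) = cn t b * (c * d) := by
      rw [← e]
      simp only [mul_assoc, s4]
    exact (mul_right_cancel e2).symm
  -- `β`
  have h' := h.conj hl0
  have zL : z ∉ cj l0 V1 := fun e => out z e hz1 hz
  obtain ⟨β, hβ, βz⟩ := h'.full zV zL hc
  have tβ : ∀ v ∈ V, cn t (cn β v) = cn β (cn t v) := by
    have key : ∀ v, cn (cn t β) (cn t v) = cn t (cn β v) := fun v => by simp only [cn]; group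
    have hnek : cj l0⁻¹ (cj l0 V1) ≠ cj l0 V1 := by rw [cj_inv_cj]; exact Ne.symm hne
    obtain ⟨β2, hβ2, eβ⟩ := h'.root (g := cn t β) (inv_mem hl0) hnek
      (PL.conj hl0 (PL.mul (PL.mul (hPL t ht) (PL.of_mem (h'.BK hβ))) (hPL _ (inv_mem ht))))
      (by
        intro v hv
        have e := key (cn t⁻¹ v)
        rw [cn_cn_inv] at e
        rw [e, h'.c1 β hβ _ (tni v hv), cn_cn_inv])
      (by
        intro v hv
        have e := key (cn t⁻¹ v)
        rw [cn_cn_inv] at e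
        have e2 := tn _ (h'.quad β hβ _ (tVi v hv))
        rw [cn_mul, cn_inv, cn_cn_inv, ← e] at e2
        exact e2)
    have e3 : cn β2 z = cn β z := by
      rw [← eβ z zV]
      have e := key z
      rw [tz] at e
      rw [e, βz, cn_mul, tc, tz]
    have e4 := h'.eq_of_one hβ2 hβ zV zL e3
    intro v hv
    rw [← key, eβ _ (tV v hv), e4 _ (tV v hv)]
  have he : cn β b * b⁻¹ ∈ cj l0 V1 := h'.quad β hβ b bV
  have βb : cn β b = cn β b * b⁻¹ * b := by group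
  generalize cn β b * b⁻¹ = e at he βb
  have hline : cj β V1 = cj (α * l0) V1 := by
    refine h.spread (h'.BK hβ) (mul_mem (h.BK hα) hl0) (v := c * z) ?_ ?_ ?_
    · rw [← βz]; exact mem_cj' hz
    · rw [h.comm cV zV, ← αc, ← cj_cj]; exact mem_cj' hc
    · intro e'
      apply out c hc c1
      rw [eq_inv_of_mul_eq_one_left e']
      exact inv_mem hz
  have hed : e = d := by
    have h1 : cn β b ∈ cj β V1 := mem_cj' hb
    rw [hline, ← cj_cj] at h1
    obtain ⟨q, hq, eq⟩ := h1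
    change cn α q = cn β b at eq
    rw [βb] at eq
    have h2 := h.quad α hα q (LV hq)
    change cn α q * q⁻¹ ∈ V1 at h2
    have eV := LV he
    have qV := LV hq
    have h3 : cn α q * q⁻¹ * b⁻¹ = e * q⁻¹ := by
      rw [eq, mul_assoc, mul_assoc, h.comm bV (mul_mem (inv_mem qV) (inv_mem bV))]
      group
    have h4 : e * q⁻¹ = 1 := h.inf_bot hl0 hne (h3 ▸ mul_mem h2 (inv_mem hb)) (mul_mem he (inv_mem hq))
    have h5 : e = q := mul_inv_eq_one.1 h4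
    subst h5
    by_contra hne'
    have h6 : cn α (e * d) = e * d := by
      rw [cn_mul, eq, αd, mul_assoc, p2]
    have h7 : e * d ≠ 1 := fun e' => hne' (by rw [← h.inv' dV]; exact eq_inv_of_mul_eq_one_left e')
    have h8 := h.triv hα (mul_mem eV dV) (out _ (mul_mem he hd) h7) h6 c cV
    rw [αc] at h8
    exact hz1 (mul_eq_right.1 h8)
  subst hed
  have αz : cn α z = z := h.c1 α hα z hz
  have αb : cn α b = b := h.c1 α hα b hb
  have βc : cn β c = c := h'.c1 β hβ c hc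
  have βe : cn β e = e := h'.c1 β hβ e hd
  refine ⟨t, ht, b, c, e, α, α * (β * α), ?_⟩
  exact
    { ha := hz
      hb := hb
      a1 := hz1
      b1 := b1
      ab := zb
      line := ⟨l0, hl0, rfl⟩
      ne := hne
      hc := hc
      hd := hd
      c1 := c1
      d1 := d1
      cd := cd
      hα := hα
      αc := αc
      αd := αd
      ta := tz
      tb := tb
      tc := tc
      td := td
      hw := mul_mem (h.BK hα) (mul_mem (h'.BK hβ) (h.BK hα))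
      wa := by
        simp only [cn_cn, cn_mul, αz, βz, αc, mul_assoc, r1, r2, r3, r4, r5, r6, s1, s2, s3, s4, s5, s6, q1, q2, q3, q4,
          p1, p2, p3, p4, mul_one, one_mul]
      wb := by
        simp only [cn_cn, cn_mul, αb, αd, βb, mul_assoc, r1, r2, r3, r4, r5, r6, s1, s2, s3, s4, s5, s6, q1, q2, q3, q4,
          p1, p2, p3, p4, mul_one, one_mul]
      wc := by
        simp only [cn_cn, cn_mul, αz, αc, βz, βc, mul_assoc, r1, r2, r3, r4, r5, r6, s1, s2, s3, s4, s5, s6, q1, q2, q3,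
          q4, p1, p2, p3, p4, mul_one, one_mul]
      wd := by
        simp only [cn_cn, cn_mul, αb, αd, βb, βe, mul_assoc, r1, r2, r3, r4, r5, r6, s1, s2, s3, s4, s5, s6, q1, q2, q3,
          q4, p1, p2, p3, p4, mul_one, one_mul] }

end M4

/-- trivial on `V1` and on `V/V1` -/
def Tr (V V1 : Subgroup G) (g : G) : Prop := (∀ v ∈ V1, cn g v = v) ∧ ∀ v ∈ V, cn g v * v⁻¹ ∈ V1

theorem Tr.mul {V V1 : Subgroup G} {g g' : G} (h : Tr V V1 g) (h' : Tr V V1 g') (hV : ∀ v ∈ V, cn g' v ∈ V) :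
    Tr V V1 (g * g') := by
  refine ⟨fun v hv => by rw [cn_cn, h'.1 v hv, h.1 v hv], fun v hv => ?_⟩
  have e : cn (g * g') v * v⁻¹ = cn g (cn g' v) * (cn g' v)⁻¹ * (cn g' v * v⁻¹) := by
    rw [cn_cn]; group
  rw [e]
  exact mul_mem (h.2 _ (hV v hv)) (h'.2 v hv)

theorem Tr.inv {V V1 : Subgroup G} {g : G} (h : Tr V V1 g) (hV : ∀ v ∈ V, cn g⁻¹ v ∈ V) :
    Tr V V1 g⁻¹ := by
  refine ⟨fun v hv => by rw [cn_inv_eq, h.1 v hv], fun v hv => ?_⟩
  have h1 := h.2 _ (hV v hv)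
  rw [cn_cn_inv] at h1
  have e : cn g⁻¹ v * v⁻¹ = (v * (cn g⁻¹ v)⁻¹)⁻¹ := by group
  rw [e]
  exact inv_mem h1

theorem Tr.conj {V V1 : Subgroup G} {g t : G} (h : Tr V V1 g) (htV : ∀ v ∈ V, cn t⁻¹ v ∈ V)
    (ht1 : ∀ v ∈ V1, cn t⁻¹ v ∈ V1) (ht2 : ∀ v ∈ V1, cn t v ∈ V1) : Tr V V1 (t * g * t⁻¹) := by
  refine ⟨fun v hv => ?_, fun v hv => ?_⟩
  · rw [cn_cn, cn_cn, h.1 _ (ht1 v hv), cn_cn_inv]
  · have h1 := ht2 _ (h.2 _ (htV v hv))
    rw [cn_mul, cn_inv, cn_cn_inv] at h1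
    rw [cn_cn, cn_cn]
    exact h1

theorem Tr.congr {V V1 : Subgroup G} {g g' : G} (h : Tr V V1 g) (h1V : V1 ≤ V) (e : ∀ v ∈ V, cn g' v = cn g v) :
    Tr V V1 g' := by
  refine ⟨fun v hv => ?_, fun v hv => ?_⟩
  · rw [e v (h1V hv), h.1 v hv]
  · rw [e v hv]
    exact h.2 v hv

namespace M4

variable {B0 K V V1 : Subgroup G} (h : M4 B0 K V V1)
include h

theorem tr {b : G} (hb : b ∈ B0) : Tr V V1 b := ⟨h.c1 b hb, h.quad b hb⟩

theorem ext4 {L0 : Subgroup G} {a b c d t α w : G} (D : Dat B0 K V V1 L0 a b c d t α w) {f g : G}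
    (ea : cn f a = cn g a) (eb : cn f b = cn g b) (ec : cn f c = cn g c) (ed : cn f d = cn g d) :
    ∀ v ∈ V, cn f v = cn g v := by
  obtain ⟨l0, hl0, rfl⟩ := D.line
  intro v hv
  have c4 : Nat.card (cj l0 V1) = 4 := by rw [card_cj, h.card1]
  have sqL : ∀ x ∈ cj l0 V1, x * x = 1 := fun x hx => h.sq x (h.lineV hl0 hx)
  have sq1 : ∀ x ∈ V1, x * x = 1 := fun x hx => h.sq x (h.V1V hx)
  have e1 : ∀ g : G, cn g 1 = 1 := fun g => by simp [cn]
  obtain ⟨p, hp, q, hq, rfl⟩ := h.compl hl0 D.ne hv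
  have h1 : cn f p = cn g p := by
    rcases four_sub h.card1 sq1 D.ha D.hb D.a1 D.b1 D.ab hp with h | h | h | h
    · rw [h, e1, e1]
    · rw [h, ea]
    · rw [h, eb]
    · rw [h, cn_mul, cn_mul, ea, eb]
  have h2 : cn f q = cn g q := by
    rcases four_sub c4 sqL D.hc D.hd D.c1 D.d1 D.cd hq with h | h | h | h
    · rw [h, e1, e1]
    · rw [h, ec]
    · rw [h, ed]
    · rw [h, cn_mul, cn_mul, ec, ed]
  rw [cn_mul, cn_mul, h1, h2]

/-- a 2-element which centralises `V1` and normalises `V`, `B0` is trivial on `V/V1` -/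
theorem tr_of_cent {L0 : Subgroup G} {a b c d t α w : G} (D : Dat B0 K V V1 L0 a b c d t α w) {s : G}
    (s2 : ∃ n : ℕ, s ^ 2 ^ n = 1) (sV : ∀ v ∈ V, cn s v ∈ V) (sB : ∀ b ∈ B0, cn s b ∈ B0)
    (s1 : ∀ v ∈ V1, cn s v = v) : Tr V V1 s := by
  obtain ⟨l0, hl0, rfl⟩ := D.line
  have hne := D.ne
  have hc := D.hc
  have LV : cj l0 V1 ≤ V := h.lineV hl0
  have c4 : Nat.card (cj l0 V1) = 4 := by rw [card_cj, h.card1]
  have out : ∀ q ∈ cj l0 V1, q ≠ 1 → q ∉ V1 := fun q hq hq1 hq2 => hq1 (h.inf_bot hl0 hne hq2 hq)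
  have sqL : ∀ x ∈ cj l0 V1, x * x = 1 := fun x hx => h.sq x (LV hx)
  have i1 : ∃ x ∈ cj l0 V1, x ≠ 1 ∧ cn s x * x⁻¹ ∈ V1 := by
    by_contra hcon
    push Not at hcon
    have key : ∀ x ∈ cj l0 V1, x ≠ 1 → ∀ p ∈ V1, cn s x ≠ p * x := by
      intro x hx x1 p hp e
      apply hcon x hx x1
      rw [e]
      simpa using hp
    have key2 : ∀ x ∈ cj l0 V1, x ≠ 1 → ∀ p ∈ V1, cn s x ≠ p := by
      intro x hx x1 p hp e
      apply out x hx x1
      rw [← s1 p hp, cn_inj] at e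
      exact e ▸ hp
    obtain ⟨p1, hp1, x1, hx1, e1⟩ := h.compl hl0 hne (sV c (LV hc))
    obtain ⟨p2, hp2, x2, hx2, e2⟩ := h.compl hl0 hne (sV x1 (LV hx1))
    have x11 : x1 ≠ 1 := by
      rintro rfl
      exact key2 c hc D.c1 p1 hp1 (by rw [e1, mul_one])
    have cx : c ≠ x1 := by
      rintro rfl
      exact key c hc D.c1 p1 hp1 e1
    obtain ⟨⟨r1, r2, r3, r4, r5, r6⟩, ⟨u1, u2, u3, u4, u5, u6⟩, ⟨q1, q2, q3, q4⟩, ⟨v1, v2, v3, v4⟩⟩ :=
      h.rules (h.V1V hp1) (h.V1V hp2) (LV hc) (LV hx1)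
    rcases four_sub c4 sqL hc hx1 D.c1 x11 cx hx2 with h3 | h3 | h3 | h3
    · exact key2 x1 hx1 x11 p2 hp2 (by rw [e2, h3, mul_one])
    · refine key (c * x1) (mul_mem hc hx1) ?_ (p1 * p2) (mul_mem hp1 hp2) ?_
      · intro e'
        exact cx (by rw [← h.inv' (LV hx1)]; exact eq_inv_of_mul_eq_one_left e')
      · rw [cn_mul, e1, e2, h3]
        simp only [mul_assoc, r1, r2, r3, r4, r5, r6, u1, u2, u3, u4, u5, u6]
    · exact key x1 hx1 x11 p2 hp2 (by rw [e2, h3])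
    · have h5 : cn s c = c := by
        apply fix_of_cube s2
        rw [cn_cn, cn_cn, e1, cn_mul, s1 p1 hp1, e2, h3, cn_mul, cn_mul, cn_mul, s1 p1 hp1, s1 p2 hp2, e1, e2, h3]
        simp only [mul_assoc, r1, r2, r3, r4, r5, r6, u1, u2, u3, u4, u5, u6, q1, q2, q3, q4, v1, v2, v3, v4, mul_one,
          one_mul]
      exact key c hc D.c1 1 (one_mem _) (by rw [h5, one_mul])
  obtain ⟨x, hx, x1, hp⟩ := i1
  have xV := LV hx
  have hα := D.hα
  have sα : ∀ v ∈ V, cn α (cn s v) = cn s (cn α v) := by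
    have key : ∀ v, cn (cn s α) (cn s v) = cn s (cn α v) := fun v => by simp only [cn]; group
    have hy := h.quad α hα x xV
    have ey : cn α x = cn α x * x⁻¹ * x := by group
    have ep : cn s x = cn s x * x⁻¹ * x := by group
    change cn α x * x⁻¹ ∈ V1 at hy
    have h1 := key x
    rw [ey, ep] at h1
    generalize cn α x * x⁻¹ = y at hy ey h1
    generalize cn s x * x⁻¹ = p at hp ep h1
    rw [cn_mul, h.c1 _ (sB α hα) p hp, cn_mul, s1 y hy, ep, ← mul_assoc, h.comm (h.V1V hy) (h.V1V hp), mul_assoc] at h1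
    have h2 : cn (cn s α) x = cn α x := by
      rw [mul_left_cancel h1, ey]
    have h3 := h.eq_of_one (sB α hα) hα xV (out x hx x1) h2
    intro v hv
    rw [← key, h3 _ (sV v hv)]
  refine ⟨s1, fun v hv => ?_⟩
  by_contra hcon
  have hy := h.quad α hα v hv
  have ey : cn α v = cn α v * v⁻¹ * v := by group
  change cn α v * v⁻¹ ∈ V1 at hy
  have h4 := sα v hv
  rw [ey] at h4
  generalize cn α v * v⁻¹ = y at hy ey h4
  rw [cn_mul, s1 y hy] at h4
  have h5 : cn α (cn s v * v⁻¹) = cn s v * v⁻¹ := by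
    rw [cn_mul, cn_inv, h4, ey, mul_inv_rev]
    have h6 : y * cn s v * (v⁻¹ * y⁻¹) = y * (cn s v * v⁻¹) * y⁻¹ := by group
    rw [h6, h.comm (h.V1V hy) (mul_mem (sV v hv) (inv_mem hv))]
    group
  have h7 := h.triv hα (mul_mem (sV v hv) (inv_mem hv)) hcon h5 c (LV hc)
  rw [D.αc] at h7
  exact D.a1 (mul_eq_right.1 h7)

set_option maxHeartbeats 1000000 in
/-- **(Sig)** for the elements which centralise `V1`. -/
theorem sig_cent [Finite G] {L0 B S1 : Subgroup G} (hS2 : IsPGroup 2 S1) (hBS : B ≤ S1) (hB0 : B0 ≤ B)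
    (hSB : S1 ≤ normalizer (B : Set G)) (hSB0 : S1 ≤ normalizer (B0 : Set G)) (hSV : S1 ≤ normalizer (V : Set G))
    (hSV1 : S1 ≤ normalizer (V1 : Set G)) (hPL : ∀ b ∈ B, PL K V1 b) {a b c d t α w : G}
    (D : Dat B0 K V V1 L0 a b c d t α w) (ht : t ∈ B) {s : G} (hs : s ∈ S1) (s1 : ∀ v ∈ V1, cn s v = v)
    (hsyl : ∀ T : Subgroup G, IsPGroup 2 T → B ≤ T → T ≤ K ⊔ cj s K ⊔ B → T ≤ B) : PL K V1 s := by
  obtain ⟨l0, hl0, rfl⟩ := D.line
  have hne := D.ne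
  have hc := D.hc
  have hd := D.hd
  have LV : cj l0 V1 ≤ V := h.lineV hl0
  have c4 : Nat.card (cj l0 V1) = 4 := by rw [card_cj, h.card1]
  have out : ∀ q ∈ cj l0 V1, q ≠ 1 → q ∉ V1 := fun q hq hq1 hq2 => hq1 (h.inf_bot hl0 hne hq2 hq)
  have sq1 : ∀ x ∈ V1, x * x = 1 := fun x hx => h.sq x (h.V1V hx)
  have sqL : ∀ x ∈ cj l0 V1, x * x = 1 := fun x hx => h.sq x (LV hx)
  have aV := h.V1V D.ha
  have bV := h.V1V D.hb
  have cV := LV hc
  have dV := LV hd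
  have two : ∀ {g : G}, g ∈ S1 → ∃ n : ℕ, g ^ 2 ^ n = 1 := by
    intro g hg
    obtain ⟨n, hn⟩ := hS2 ⟨g, hg⟩
    exact ⟨n, congrArg Subtype.val hn⟩
  have nV : ∀ {g : G}, g ∈ S1 → ∀ v ∈ V, cn g v ∈ V := fun hg v hv => mem_of_norm (hSV hg) hv
  have nV1 : ∀ {g : G}, g ∈ S1 → ∀ v ∈ V1, cn g v ∈ V1 := fun hg v hv => mem_of_norm (hSV1 hg) hv
  have nB0 : ∀ {g : G}, g ∈ S1 → ∀ v ∈ B0, cn g v ∈ B0 := fun hg v hv => mem_of_norm (hSB0 hg) hv
  have tb : cn t b ≠ b := by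
    rw [D.tb]
    exact fun e => D.a1 (mul_eq_right.1 e)
  -- `s` is trivial on `V/V1`
  have hs' := h.tr_of_cent D (two hs) (nV hs) (nB0 hs) s1
  obtain ⟨α0, hα0, e0⟩ := h.full cV (out c hc D.c1) (hs'.2 c cV)
  have e0' : cn α0 c = cn s c := by rw [e0]; group
  have hα0S : α0 ∈ S1 := hBS (hB0 hα0)
  have s'S : α0⁻¹ * s ∈ S1 := mul_mem (inv_mem hα0S) hs
  have s'Tr : Tr V V1 (α0⁻¹ * s) := ((h.tr hα0).inv (nV (inv_mem hα0S))).mul hs' (nV hs)
  have s'c : cn (α0⁻¹ * s) c = c := by rw [cn_cn, ← e0', cn_inv_cn]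
  have hs0 : s = α0 * (α0⁻¹ * s) := by group
  have hr : α0⁻¹ * s = α0⁻¹ * s := rfl
  generalize hs'def : α0⁻¹ * s = s' at s'S s'Tr s'c hs0
  have hy : cn s' d * d⁻¹ ∈ V1 := s'Tr.2 d dV
  have s'd : cn s' d = cn s' d * d⁻¹ * d := by group
  generalize cn s' d * d⁻¹ = y at hy s'd
  have yV := h.V1V hy
  -- `κ = [s', t]`
  have hκ : ∀ v ∈ V, cn s' (cn t v) = cn t (cn s' v) := by
    have htS := hBS ht
    have hκB : s' * (t * s'⁻¹ * t⁻¹) ∈ B := by
      have e : s' * (t * s'⁻¹ * t⁻¹) = s' * t * s'⁻¹ * t⁻¹ := by group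
      rw [e]
      exact mul_mem ((mem_normalizer_iff.1 (hSB s'S) t).1 ht) (inv_mem ht)
    have hκT : Tr V V1 (s' * (t * s'⁻¹ * t⁻¹)) :=
      s'Tr.mul ((s'Tr.inv (nV (inv_mem s'S))).conj (nV (inv_mem htS)) (nV1 (inv_mem htS)) (nV1 htS))
        (nV (mul_mem (mul_mem htS (inv_mem s'S)) (inv_mem htS)))
    obtain ⟨b0, hb0, e1⟩ := h.root hl0 hne (hPL _ hκB) hκT.1 hκT.2
    have e2 : cn b0 c = c := by
      rw [← e1 c cV, cn_cn, cn_cn, cn_cn]
      have e3 : cn t⁻¹ c = c := cn_inv_eq.2 D.tc.symm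
      have e4 : cn s'⁻¹ c = c := cn_inv_eq.2 s'c.symm
      rw [e3, e4, D.tc, s'c]
    have e5 := h.triv hb0 cV (out c hc D.c1) e2
    intro v hv
    have e6 := e1 (cn t (cn s' v)) (nV htS _ (nV s'S v hv))
    rw [e5 _ (nV htS _ (nV s'S v hv)), ← cn_cn, ← cn_cn] at e6
    have e7 : s' * (t * s'⁻¹ * t⁻¹) * t * s' = s' * t := by group
    rw [e7, cn_cn] at e6
    exact e6
  obtain ⟨⟨r1, r2, r3, r4, r5, r6⟩, ⟨u1, u2, u3, u4, u5, u6⟩, ⟨q1, q2, q3, q4⟩, ⟨p1, p2, p3, p4⟩⟩ :=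
    h.rules aV bV cV dV
  have ty : cn t y = y := by
    have e := hκ d dV
    rw [D.td, cn_mul, s'c, s'd, cn_mul, D.td, ← mul_assoc, h.comm cV yV, mul_assoc] at e
    exact (mul_right_cancel e).symm
  rcases fix_four h.card1 sq1 D.ha D.hb D.a1 D.b1 D.ab D.ta tb hy ty with rfl | rfl
  · -- `s` acts as `α0`
    rw [one_mul] at s'd
    have e1 : ∀ v ∈ V, cn s' v = cn 1 v := h.ext4 D (by rw [cn_one, s'Tr.1 _ D.ha]) (by rw [cn_one, s'Tr.1 _ D.hb])
      (by rw [cn_one, s'c]) (by rw [cn_one, s'd])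
    refine PL.congr (g := α0) (V := V) (fun k hk => h.lineV hk) ?_ (PL.of_mem (h.BK hα0))
    intro v hv
    rw [hs0, cn_cn, e1 v hv, cn_one]
  · exfalso
    -- `s'' = α s'`
    have hαS : α ∈ S1 := hBS (hB0 D.hα)
    have ssS : α * s' ∈ S1 := mul_mem hαS s'S
    have ssT : Tr V V1 (α * s') := (h.tr D.hα).mul s'Tr (nV s'S)
    have ssa : cn (α * s') y = y := ssT.1 y D.ha
    have ssb : cn (α * s') b = b := ssT.1 b D.hb
    have ssc : cn (α * s') c = y * c := by rw [cn_cn, s'c, D.αc]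
    have ssd : cn (α * s') d = y * (b * d) := by rw [cn_cn, s'd, cn_mul, D.αd, h.c1 α D.hα y D.ha]
    have hmem : ∀ g ∈ K, (α * s') * g * (α * s')⁻¹ ∈ K ⊔ cj s K ⊔ B := by
      intro g hg
      have e : (α * s') * g * (α * s')⁻¹ = (α * α0⁻¹) * (s * g * s⁻¹) * (α * α0⁻¹)⁻¹ := by
        rw [← hs'def]; group
      rw [e]
      have h1 : α * α0⁻¹ ∈ K ⊔ cj s K ⊔ B :=
        le_sup_left (a := K ⊔ cj s K) (le_sup_left (a := K) (mul_mem (h.BK D.hα) (inv_mem (h.BK hα0))))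
      have h2 : s * g * s⁻¹ ∈ K ⊔ cj s K ⊔ B :=
        le_sup_left (a := K ⊔ cj s K) (le_sup_right (a := K) (mem_cj' hg))
      exact mul_mem (mul_mem h1 h2) (inv_mem h1)
    generalize α * s' = ss at ssS ssT ssa ssb ssc ssd hmem
    have isa : cn ss⁻¹ y = y := cn_inv_eq.2 ssa.symm
    have isb : cn ss⁻¹ b = b := cn_inv_eq.2 ssb.symm
    have isc : cn ss⁻¹ c = y * c := cn_inv_eq.2 (by rw [cn_mul, ssa, ssc, p1])
    have isd : cn ss⁻¹ d = y * (b * d) := cn_inv_eq.2 (by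
      rw [cn_mul, cn_mul, ssa, ssb, ssd, u1, p1, p2])
    have hwX : w ∈ K ⊔ cj s K ⊔ B := le_sup_left (a := K ⊔ cj s K) (le_sup_left (a := K) D.hw)
    have htX : t ∈ K ⊔ cj s K ⊔ B := le_sup_right (a := K ⊔ cj s K) ht
    have fX : w * (ss * w * ss⁻¹) * t * w ∈ K ⊔ cj s K ⊔ B :=
      mul_mem (mul_mem (mul_mem hwX (hmem w D.hw)) htX) hwX
    have fa : cn (w * (ss * w * ss⁻¹) * t * w) y = cn ss y := by
      simp only [cn_cn, cn_mul, D.ta, D.tb, D.tc, D.td, D.wa, D.wb, D.wc, D.wd, isa, isb, isc, isd, ssa, ssb, ssc, ssd,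
        mul_assoc, r1, r2, r3, r4, r5, r6, u1, u2, u3, u4, u5, u6, q1, q2, q3, q4, p1, p2, p3, p4, mul_one, one_mul]
    have fb : cn (w * (ss * w * ss⁻¹) * t * w) b = cn ss b := by
      simp only [cn_cn, cn_mul, D.ta, D.tb, D.tc, D.td, D.wa, D.wb, D.wc, D.wd, isa, isb, isc, isd, ssa, ssb, ssc, ssd,
        mul_assoc, r1, r2, r3, r4, r5, r6, u1, u2, u3, u4, u5, u6, q1, q2, q3, q4, p1, p2, p3, p4, mul_one, one_mul]
    have fc : cn (w * (ss * w * ss⁻¹) * t * w) c = cn ss c := by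
      simp only [cn_cn, cn_mul, D.ta, D.tb, D.tc, D.td, D.wa, D.wb, D.wc, D.wd, isa, isb, isc, isd, ssa, ssb, ssc, ssd,
        mul_assoc, r1, r2, r3, r4, r5, r6, u1, u2, u3, u4, u5, u6, q1, q2, q3, q4, p1, p2, p3, p4, mul_one, one_mul]
    have fd : cn (w * (ss * w * ss⁻¹) * t * w) d = cn ss d := by
      simp only [cn_cn, cn_mul, D.ta, D.tb, D.tc, D.td, D.wa, D.wb, D.wc, D.wd, isa, isb, isc, isd, ssa, ssb, ssc, ssd,
        mul_assoc, r1, r2, r3, r4, r5, r6, u1, u2, u3, u4, u5, u6, q1, q2, q3, q4, p1, p2, p3, p4, mul_one, one_mul]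
    have hf := h.ext4 D fa fb fc fd
    generalize w * (ss * w * ss⁻¹) * t * w = f at fX hf
    clear fa fb fc fd
    generalize hXdef : K ⊔ cj s K ⊔ B = X at *
    have hXV : X ≤ normalizer (V : Set G) := by
      rw [← hXdef]
      refine sup_le (sup_le h.KV ?_) (hBS.trans hSV)
      rintro _ ⟨k, hk, rfl⟩
      exact mul_mem (mul_mem (hSV hs) (h.KV hk)) (inv_mem (hSV hs))
    have hBX : B ≤ X := by rw [← hXdef]; exact le_sup_right
    have xV : ∀ {g : G}, g ∈ X → ∀ v ∈ V, cn g v ∈ V := fun hg v hv => mem_of_norm (hXV hg) hv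
    let Y : Subgroup G :=
      { carrier := {g | g ∈ X ∧ ∃ y ∈ S1, ∀ v ∈ V, cn g v = cn y v}
        one_mem' := ⟨one_mem _, 1, one_mem _, fun v _ => rfl⟩
        mul_mem' := by
          rintro g g' ⟨hg, y, hy, e⟩ ⟨hg', y', hy', e'⟩
          refine ⟨mul_mem hg hg', y * y', mul_mem hy hy', fun v hv => ?_⟩
          rw [cn_cn, cn_cn, e' v hv, e _ (nV hy' v hv)]
        inv_mem' := by
          rintro g ⟨hg, y, hy, e⟩
          refine ⟨inv_mem hg, y⁻¹, inv_mem hy, fun v hv => ?_⟩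
          have h1 := e _ (nV (inv_mem hy) v hv)
          rw [cn_cn_inv] at h1
          rw [cn_inv_eq, h1] }
    have hYX : Y ≤ X := fun g hg => hg.1
    have hBY : B ≤ Y := fun g hg => ⟨hBX hg, g, hBS hg, fun v _ => rfl⟩
    have hfY : f ∈ Y := ⟨fX, ss, ssS, hf⟩
    have hsylY : Syl B Y := ⟨hBY, hS2.to_le hBS, fun Q hQ hQ2 hBQ => le_antisymm (hsyl Q hQ2 hBQ (hQ.trans hYX)) hBQ⟩
    have hCY : X ⊓ centralizer (V : Set G) ≤ Y := by
      rintro g ⟨hg, hgc⟩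
      refine ⟨hg, 1, one_mem _, fun v hv => ?_⟩
      rw [cn_one, cn_eq_self]
      exact (mem_centralizer_iff.1 hgc v hv).symm
    have memC : ∀ {g : G}, g ∈ X → (∀ v ∈ V, cn g v = v) → g ∈ X ⊓ centralizer (V : Set G) := by
      intro g hg e
      exact mem_inf.2 ⟨hg, mem_centralizer_iff.2 fun v hv => (cn_eq_self.1 (e v hv)).symm⟩
    have Cmem : ∀ {g : G}, g ∈ X ⊓ centralizer (V : Set G) → ∀ v ∈ V, cn g v = v := by
      rintro g ⟨hg, hgc⟩ v hv
      exact cn_eq_self.2 (mem_centralizer_iff.1 hgc v hv).symm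
    obtain ⟨t1, ht1, hC⟩ := exists_of_syl hsylY hCY
      (by
        intro r hr c' hc'
        apply memC (mul_mem (mul_mem (hYX hr) hc'.1) (inv_mem (hYX hr)))
        intro v hv
        rw [cn_cn, cn_cn, Cmem hc' _ (xV (inv_mem (hYX hr)) v hv), cn_cn_inv])
      (by
        intro r hr
        obtain ⟨hrX, y', hy', e⟩ := hr
        obtain ⟨n, hn⟩ := two hy'
        refine ⟨n, memC (pow_mem hrX _) ?_⟩
        have h1 : ∀ m : ℕ, ∀ v ∈ V, cn (r ^ m) v = cn (y' ^ m) v := by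
          intro m
          induction m with
          | zero => intro v _; rw [pow_zero, pow_zero]
          | succ m ih =>
            intro v hv
            rw [pow_succ, pow_succ, cn_cn, cn_cn, e v hv, ih _ (nV hy' v hv)]
        intro v hv
        rw [h1 _ v hv, hn, cn_one])
      hfY
    have h1 : ∀ v ∈ V, cn t1 v = cn ss v := by
      intro v hv
      have h2 := Cmem hC v hv
      rw [cn_cn, cn_inv_eq] at h2
      rw [← h2, hf v hv]
    have h3 := ssT.congr h.V1V h1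
    obtain ⟨b0, hb0, e1⟩ := h.root hl0 hne (hPL _ ht1) h3.1 h3.2
    have h4 := h.eq_of_one hb0 D.hα cV (out c hc D.c1) (by rw [← e1 c cV, h1 c cV, ssc, D.αc]) d dV
    rw [← e1 d dV, h1 d dV, ssd, D.αd] at h4
    exact D.a1 (mul_eq_right.1 h4)

end M4

/-- **(Sig)**: `S1` permutes the lines. (Not used of the literal data of `N4`: `cor`, `gen`, `tor`.) -/
theorem N4.sig [Finite G] {B0 K V V1 B S1 : Subgroup G} (h : N4 B0 K V V1) (hS2 : IsPGroup 2 S1) (hBS : B ≤ S1)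
    (hB0 : B0 ≤ B) (hSB : S1 ≤ normalizer (B : Set G)) (hSB0 : S1 ≤ normalizer (B0 : Set G))
    (hSV : S1 ≤ normalizer (V : Set G)) (hSV1 : S1 ≤ normalizer (V1 : Set G))
    (hPL : ∀ b ∈ B, ∀ k ∈ K, ∃ k' ∈ K, cj b (cj k V1) = cj k' V1) {z : G}
    (hz : z ∈ V1) (hz1 : z ≠ 1) (hSz : ∀ s ∈ S1, s * z = z * s) {t : G} (ht : t ∈ B) (hmv : ∃ v ∈ V1, t * v ≠ v * t)
    (hsyl : ∀ s ∈ S1, ∀ T : Subgroup G, IsPGroup 2 T → B ≤ T → T ≤ K ⊔ cj s K ⊔ B → T ≤ B) :
    ∀ s ∈ S1, ∀ k ∈ K, ∃ k' ∈ K, cj s (cj k V1) = cj k' V1 := by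
  have h4 := h.toM4
  have hmv' : ∃ v ∈ V1, cn t v ≠ v := by
    obtain ⟨v, hv, e⟩ := hmv
    exact ⟨v, hv, fun e' => e (cn_eq_self.1 e')⟩
  have hSz' : ∀ s ∈ S1, cn s z = z := fun s hs => cn_eq_self.2 (hSz s hs)
  obtain ⟨l0, hl0, v0, hv0, hl⟩ := h.mv
  have hne : cj l0 V1 ≠ V1 := by
    intro e
    apply hl
    rw [← e]
    exact mem_cj' hv0
  obtain ⟨t', ht', b, c, d, α, w, D⟩ := h4.exists_dat (hS2.to_le hBS) hB0 (hBS.trans hSB0) (hBS.trans hSV)
    (hBS.trans hSV1) hPL hz hz1 (fun b hb => hSz' b (hBS hb)) ht hmv' hl0 hne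
  have sq1 : ∀ x ∈ V1, x * x = 1 := fun x hx => h4.sq x (h4.V1V hx)
  intro s hs
  by_cases hc : ∀ v ∈ V1, cn s v = v
  · exact h4.sig_cent hS2 hBS hB0 hSB hSB0 hSV hSV1 hPL D ht' hs hc (hsyl s hs)
  · push Not at hc
    obtain ⟨v, hv, ev⟩ := hc
    have key : ∀ {g : G}, g ∈ S1 → (∃ v ∈ V1, cn g v ≠ v) → cn g b = z * b := by
      intro g hg hmv
      have hgb : cn g b ∈ V1 := mem_of_norm (hSV1 hg) D.hb
      rcases four_sub h.card1 sq1 D.ha D.hb D.a1 D.b1 D.ab hgb with h1 | h1 | h1 | h1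
      · exact absurd (by rw [← cn_inv_cn g b, h1]; simp [cn]) D.b1
      · rw [← hSz' g hg, cn_inj] at h1
        exact absurd h1.symm D.ab
      · exfalso
        obtain ⟨v, hv, ev⟩ := hmv
        apply ev
        rcases four_sub h.card1 sq1 D.ha D.hb D.a1 D.b1 D.ab hv with h2 | h2 | h2 | h2
        · rw [h2]; simp [cn]
        · rw [h2, hSz' g hg]
        · rw [h2, h1]
        · rw [h2, cn_mul, hSz' g hg, h1]
      · exact h1
    have hts : t'⁻¹ * s ∈ S1 := mul_mem (inv_mem (hBS ht')) hs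
    have h1 : cn (t'⁻¹ * s) b = b := by
      rw [cn_cn, key hs ⟨v, hv, ev⟩, ← D.tb, cn_inv_cn]
    have h2 : ∀ v ∈ V1, cn (t'⁻¹ * s) v = v := by
      intro v hv
      rcases four_sub h.card1 sq1 D.ha D.hb D.a1 D.b1 D.ab hv with h2 | h2 | h2 | h2
      · rw [h2]; simp [cn]
      · rw [h2, hSz' _ hts]
      · rw [h2, h1]
      · rw [h2, cn_mul, hSz' _ hts, h1]
    have h3 := h4.sig_cent hS2 hBS hB0 hSB hSB0 hSV hSV1 hPL D ht' hts h2 (hsyl _ hts)
    have h5 := PL.mul (hPL t' ht') h3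
    rw [mul_inv_cancel_left] at h5
    exact h5

end Cfsg.Agent.Omega.OM.Lev.Low.TorusK.Sig
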