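import Cfsg.Agent.Omega.OM.Lev.Low.TorusK.Frame
import Cfsg.Agent.Omega.OM.Lev.Low.TorusK.Sig

/-!
# TORUS, `k ≥ 4`: (Sig) for the literal `N4` of `Frame.lean` and for a block `BK`

`sig` : `S1` permutes the lines `V1^k`, `k ∈ K`.
-/

set_option autoImplicit false

namespace Cfsg.Agent.Omega.OM.Lev.Low.TorusK.SigN4

open Subgroup Cfsg Cfsg.Agent.ZN Cfsg.Agent.ZN.ChoiceBase

universe u

variable {G : Type u} [Group G]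

theorem toSig {B0 K V V1 : Subgroup G} (h : TorusK.N4 B0 K V V1) : Sig.N4 B0 K V V1 where
  el := h.el
  card := h.card
  V1V := h.V1V
  card1 := h.card1
  BK := h.BK
  KV := h.KV
  c1 := h.c1
  quad := h.quad
  cent := h.cent
  cardB := h.cardB
  opp := h.opp
  mv := h.mv

/-- **(Sig)** for helper607's `N4`; `B` permutes the lines. -/
theorem sig' [Finite G] {B0 K V V1 B S1 : Subgroup G} (h : TorusK.N4 B0 K V V1) (hS2 : IsPGroup 2 S1) (hBS : B ≤ S1)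
    (hB0 : B0 ≤ B) (hSB : S1 ≤ normalizer (B : Set G)) (hSB0 : S1 ≤ normalizer (B0 : Set G))
    (hSV : S1 ≤ normalizer (V : Set G)) (hSV1 : S1 ≤ normalizer (V1 : Set G))
    (hPL : ∀ b ∈ B, ∀ k ∈ K, ∃ k' ∈ K, cj b (cj k V1) = cj k' V1) {z : G}
    (hz : z ∈ V1) (hz1 : z ≠ 1) (hSz : ∀ s ∈ S1, s * z = z * s) {t : G} (ht : t ∈ B) (hmv : ∃ v ∈ V1, t * v ≠ v * t)
    (hsyl : ∀ s ∈ S1, ∀ T : Subgroup G, IsPGroup 2 T → B ≤ T → T ≤ K ⊔ cj s K ⊔ B → T ≤ B) :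
    ∀ s ∈ S1, ∀ k ∈ K, ∃ k' ∈ K, cj s (cj k V1) = cj k' V1 :=
  (toSig h).sig hS2 hBS hB0 hSB hSB0 hSV hSV1 hPL hz hz1 hSz ht hmv hsyl

/-- **(Sig)** for helper607's `N4`; `B ≤ N(K)`. -/
theorem sig [Finite G] {B0 K V V1 B S1 : Subgroup G} (h : TorusK.N4 B0 K V V1) (hS2 : IsPGroup 2 S1) (hBS : B ≤ S1)
    (hB0 : B0 ≤ B) (hSB : S1 ≤ normalizer (B : Set G)) (hSB0 : S1 ≤ normalizer (B0 : Set G))
    (hSV : S1 ≤ normalizer (V : Set G)) (hSV1 : S1 ≤ normalizer (V1 : Set G)) (hBK : B ≤ normalizer (K : Set G)) {z : G}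
    (hz : z ∈ V1) (hz1 : z ≠ 1) (hSz : ∀ s ∈ S1, s * z = z * s) {t : G} (ht : t ∈ B) (hmv : ∃ v ∈ V1, t * v ≠ v * t)
    (hsyl : ∀ s ∈ S1, ∀ T : Subgroup G, IsPGroup 2 T → B ≤ T → T ≤ K ⊔ cj s K ⊔ B → T ≤ B) :
    ∀ s ∈ S1, ∀ k ∈ K, ∃ k' ∈ K, cj s (cj k V1) = cj k' V1 :=
  sig' h hS2 hBS hB0 hSB hSB0 hSV hSV1 (fun b hb => Sig.PL.of_norm (hBK hb) (hSV1 (hBS hb))) hz hz1 hSz ht hmv hsyl

end Cfsg.Agent.Omega.OM.Lev.Low.TorusK.SigN4
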