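import Cfsg.Agent.Omega.OM.Lev.Low.TorusK.EndTK
import Cfsg.Agent.Omega.OM.Lev.Low.TorusK.Fam

/-!
# TORUS, `k ≥ 3` (helper607 #23961): the last page over `TK` and `Fam`

* `Fam.false_of` : a frame `TK`, a family `Fam` and (theta) are a contradiction.
-/

set_option autoImplicit false
set_option linter.unusedSectionVars false
set_option linter.unusedVariables false

namespace Cfsg.Agent.Omega.OM.Lev.Low.TorusK.EndFam

open Subgroup Cfsg Cfsg.Agent.ZN Cfsg.Agent.ZN.ChoiceBase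
open Cfsg.Agent.Omega.OM.Lev.Low

universe u

variable {G : Type u} [Group G]

variable {ι : Type} {S B Q V Xn ZJ B0 X M0 Y0 : Subgroup G} {L W Z C A : ι → Subgroup G} {z : G}

/-- **The last page.** -/
theorem false_of [Finite G] [Finite ι] [Nonempty ι] (h : TK S B Q V Xn ZJ B0 X M0 Y0 L W Z C A z)
    {K N N1 N0 : ι → Subgroup G} (f : Fam S B B0 X M0 Y0 W K N N1 N0)
    (theta : ∀ m, ∃ R ≤ K m, K m ≤ normalizer (R : Set G) ∧ K m ≤ R ⊔ B0 ∧
      ∀ l, l ≠ m → R ≤ centralizer ((⁅N l, K l⁆ : Subgroup G) : Set G)) : False := by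
  obtain ⟨i0⟩ := (inferInstance : Nonempty ι)
  refine EndTK.false_BL h (i0 := i0) f.bk (fun m => (f.bk m).n4 h) (fun m => (f.bk m).inf_X h) f.chi ?_ theta
    ((f.na i0).lines h (f.bk i0))
  intro m
  obtain ⟨s, hs, e, e'⟩ := f.conj i0 m
  exact ⟨s, hs, e', e⟩

/-- **One block.** -/
theorem false_one [Finite G] [Finite ι] (h : TK S B Q V Xn ZJ B0 X M0 Y0 L W Z C A z) {l : ι}
    {K N N1 N0 : Subgroup G} (k : BK B B0 X M0 Y0 W l K N N1 N0) (a : NA B K N)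
    (theta : ∀ K N N1 N0 : ι → Subgroup G, Fam S B B0 X M0 Y0 W K N N1 N0 → ∀ m,
      ∃ R ≤ K m, K m ≤ normalizer (R : Set G) ∧ K m ≤ R ⊔ B0 ∧
        ∀ l, l ≠ m → R ≤ centralizer ((⁅N l, K l⁆ : Subgroup G) : Set G)) : False := by
  have : Nonempty ι := ⟨l⟩
  obtain ⟨K, N, N1, N0, f⟩ := exists_fam h k a
  exact false_of h f (theta K N N1 N0 f)

end Cfsg.Agent.Omega.OM.Lev.Low.TorusK.EndFam
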