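import Cfsg.Agent.Omega.OM.Lev.Low.TorusK.SplitTwo

/-!
# TORUS, `k ≥ 4`: the module of a block is natural of order 16

* `BK.ch_W` : `[[N, K], B₀] = W l`; `BK.exists_gen` : `[N, K] = W l × W l^x`;
* `BK.n4` : **`N4 B₀ K [N, K] (W l)`**; `BK.inf_X` : `[N, K] ∩ X = W l`; `BK.inf_N0` : `[N, K] ∩ N₀ = 1`.
-/

set_option autoImplicit false
set_option linter.unusedSectionVars false

namespace Cfsg.Agent.Omega.OM.Lev.Low.TorusK

open Subgroup Cfsg Cfsg.Agent.ZN Cfsg.Agent.ZN.ChoiceBase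
open Cfsg.Agent.Omega.SQ1.Bau (mem_sup_comm card_sup_comm elem_comm elem_sq)
open Cfsg.Agent.Omega.NO3S.Level.Claim (Fm Bl cB mem_cB cB_le)
open Cfsg.Agent.Omega.OM.Lev.Uni (FrL)
open Cfsg.Agent.Omega.OM.Lev.Low.TorusK.PBC
open scoped commutatorElement

universe u

variable {G : Type u} [Group G] {ι : Type} {S B Q V Xn ZJ B0 X M0 Y0 : Subgroup G} {L W Z C A : ι → Subgroup G} {z : G}
  {l : ι} {K N N1 N0 : Subgroup G}

/-- an injective endomorphism of a finite group in the form used below -/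
theorem W_comm [Finite G] {W0 : Subgroup G} {t : G} (hab : ∀ a ∈ W0, ∀ b ∈ W0, a * b = b * a)
    (htW : ∀ w ∈ W0, t * w * t⁻¹ ∈ W0) (htf : ∀ w ∈ W0, t * w * t⁻¹ = w → w = 1) {w : G} (hw : w ∈ W0) :
    ∃ u ∈ W0, w = t * u * t⁻¹ * u⁻¹ := by
  let f : W0 → W0 := fun u => ⟨t * u * t⁻¹ * (u : G)⁻¹, mul_mem (htW u u.2) (inv_mem u.2)⟩
  have hinj : Function.Injective f := by
    intro a b hab'
    have e : t * (a : G) * t⁻¹ * (a : G)⁻¹ = t * (b : G) * t⁻¹ * (b : G)⁻¹ := congrArg Subtype.val hab'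
    have h1 := htf ((b : G)⁻¹ * a) (mul_mem (inv_mem b.2) a.2) (by
      have h2 : t * (b : G) * t⁻¹ * (b : G)⁻¹ = (b : G)⁻¹ * (t * b * t⁻¹) := hab _ (htW b b.2) _ (inv_mem b.2)
      have h3 : t * (a : G) * t⁻¹ * (a : G)⁻¹ = (a : G)⁻¹ * (t * a * t⁻¹) := hab _ (htW a a.2) _ (inv_mem a.2)
      have h4 : (a : G)⁻¹ * (t * a * t⁻¹) = (b : G)⁻¹ * (t * b * t⁻¹) := by rw [← h3, ← h2, e]
      have h5 : t * ((b : G)⁻¹ * a) * t⁻¹ = (t * b * t⁻¹)⁻¹ * (t * a * t⁻¹) := by group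
      have h6 : t * (a : G) * t⁻¹ = a * ((b : G)⁻¹ * (t * b * t⁻¹)) := by rw [← h4]; group
      have h7 : (b : G)⁻¹ * (t * b * t⁻¹) = (t * b * t⁻¹) * (b : G)⁻¹ := (hab _ (htW b b.2) _ (inv_mem b.2)).symm
      have h8 : (a : G) * ((t * b * t⁻¹) * (b : G)⁻¹) = ((t * b * t⁻¹) * (b : G)⁻¹) * a :=
        hab _ a.2 _ (mul_mem (htW b b.2) (inv_mem b.2))
      rw [h5, h6, h7, h8]
      group)
    apply Subtype.ext
    have h9 : (a : G) = b * ((b : G)⁻¹ * a) := by group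
    rw [h9, h1, mul_one]
  obtain ⟨u, hu⟩ := (Finite.injective_iff_surjective.1 hinj) ⟨w, hw⟩
  exact ⟨u, u.2, (congrArg Subtype.val hu).symm⟩

namespace BK

/-- `W l ≤ [[N, K], B₀]` and equality -/
theorem ch_W [Finite G] [Finite ι] (h : TK S B Q V Xn ZJ B0 X M0 Y0 L W Z C A z)
    (k : BK B B0 X M0 Y0 W l K N N1 N0) : ⁅⁅N, K⁆, B0⁆ = W l := by
  have hcen := k.ch_cen h
  have hW : W l ≤ ⁅⁅N, K⁆, B0⁆ := by
    intro w hw
    obtain ⟨t, ht, htB, htW, htf⟩ := k.tor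
    obtain ⟨u, hu, rfl⟩ := W_comm (fun a ha b hb => h.Xc (h.WX l ha) (h.WX l hb)) htW htf hw
    -- `u = y n`, `y ∈ [[N, K], B₀]`
    obtain ⟨v, hv, hv1⟩ := k.pb.exists_v
    obtain ⟨y, hy, n, hn, rfl⟩ := k.pb.exists_V hv
    have hy1 : y ∉ N1 := fun h1 => hv1 (mul_mem h1 (k.pb.N01 hn))
    obtain ⟨b, hb, n0, hn0, e⟩ := k.pb.line (k.pb.VN hy) hy1 (k.WN hu)
    have hc : b * y * b⁻¹ * y⁻¹ ∈ (⁅⁅N, K⁆, B0⁆ : Subgroup G) := by
      have h1 := inv_mem (commutator_mem_commutator hy hb)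
      have e1 : (⁅y, b⁆)⁻¹ = b * y * b⁻¹ * y⁻¹ := by rw [commutatorElement_def]; group
      rwa [e1] at h1
    set c := b * y * b⁻¹ * y⁻¹ with hcd
    have htc : t * c * t⁻¹ ∈ (⁅⁅N, K⁆, B0⁆ : Subgroup G) := by
      have h1 : ChoiceBase.cj t ⁅⁅N, K⁆, B0⁆ = ⁅⁅N, K⁆, B0⁆ := by
        rw [← comm_cjj t ⁅N, K⁆ B0, cj_eq_of_mem_normalizer htB, cj_eq_of_mem_normalizer (k.pb.LV ht)]
      have h2 := cj_mem (g := t) hc
      rwa [h1] at h2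
    have h3 := k.pb.N0c t ht n0 hn0
    have e2 : t * u * t⁻¹ * u⁻¹ = t * c * t⁻¹ * c⁻¹ := by
      rw [e]
      calc t * (c * n0) * t⁻¹ * (c * n0)⁻¹ = t * c * (t⁻¹ * (t * n0) * t⁻¹) * n0⁻¹ * c⁻¹ := by group
        _ = t * c * (t⁻¹ * (n0 * t) * t⁻¹) * n0⁻¹ * c⁻¹ := by rw [h3]
        _ = _ := by group
    rw [e2]
    exact mul_mem htc (inv_mem hc)
  refine le_antisymm ?_ hW
  intro y hy
  obtain ⟨w, hw, n, hn, rfl⟩ := k.split1 h (k.ch_le hy)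
  have h1 : n ∈ ⁅⁅N, K⁆, B0⁆ ⊓ centralizer (K : Set G) := by
    refine mem_inf.2 ⟨?_, (k.N0X h hn).2⟩
    have h2 := mul_mem (inv_mem (hW hw)) hy
    rwa [inv_mul_cancel_left] at h2
  rw [hcen, mem_bot] at h1
  rw [h1, mul_one]
  exact hw

theorem W_le [Finite G] [Finite ι] (h : TK S B Q V Xn ZJ B0 X M0 Y0 L W Z C A z)
    (k : BK B B0 X M0 Y0 W l K N N1 N0) : W l ≤ ⁅N, K⁆ := by
  rw [← k.ch_W h, Subgroup.commutator_le]
  intro v hv b hb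
  have h1 := (mem_normalizer_iff.1 (k.pb.LV (k.pb.BL hb)) v⁻¹).1 (inv_mem hv)
  have e : ⁅v, b⁆ = v * (b * v⁻¹ * b⁻¹) := by rw [commutatorElement_def]; group
  rw [e]
  exact mul_mem hv h1

/-- `[N, K] = W l W l^x` -/
theorem exists_gen [Finite G] [Finite ι] (h : TK S B Q V Xn ZJ B0 X M0 Y0 L W Z C A z)
    (k : BK B B0 X M0 Y0 W l K N N1 N0) {x : G} (hx : x ∈ K) (hm : SQ1.Bau.Mv N1 x) :
    ⁅N, K⁆ = W l ⊔ ChoiceBase.cj x (W l) := by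
  have hWV := k.W_le h
  have hcV : ChoiceBase.cj x (W l) ≤ ⁅N, K⁆ := by
    have h1 := cj_mono x hWV
    rwa [cj_eq_of_mem_normalizer (k.pb.LV hx)] at h1
  have hle : W l ⊔ ChoiceBase.cj x (W l) ≤ ⁅N, K⁆ := sup_le hWV hcV
  refine le_antisymm ?_ hle
  obtain ⟨w, hw, hw1⟩ : ∃ w ∈ W l, w ≠ 1 := by
    obtain ⟨y, hy, hy1⟩ := h.exists_Z l
    exact ⟨y, h.ZW l hy, hy1⟩
  have hcm : ∀ b ∈ B0, ∀ v ∈ (⁅N, K⁆ : Subgroup G), b * v * b⁻¹ * v⁻¹ ∈ W l := by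
    intro b hb v hv
    rw [← k.ch_W h]
    have h1 := inv_mem (commutator_mem_commutator hv hb)
    have e1 : (⁅v, b⁆)⁻¹ = b * v * b⁻¹ * v⁻¹ := by rw [commutatorElement_def]; group
    rwa [e1] at h1
  have hn : K ≤ normalizer ((W l ⊔ ChoiceBase.cj x (W l) : Subgroup G) : Set G) := by
    refine k.pb.gen x hx hm _ (fun b hb => mem_normalizer_of_cj_le ?_) fun b hb => mem_normalizer_of_cj_le ?_
    · rintro _ ⟨v, hv, rfl⟩
      show b * v * b⁻¹ ∈ _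
      have h1 := mul_mem (mem_sup_left (hcm b hb v (hle hv)) : _ ∈ W l ⊔ ChoiceBase.cj x (W l)) hv
      rwa [inv_mul_cancel_right] at h1
    · rintro _ ⟨v, hv, rfl⟩
      show x * b * x⁻¹ * v * (x * b * x⁻¹)⁻¹ ∈ _
      have hv' : x⁻¹ * v * x ∈ (⁅N, K⁆ : Subgroup G) := by
        have := (mem_normalizer_iff.1 (k.pb.LV (inv_mem hx)) v).1 (hle hv)
        rwa [inv_inv] at this
      have h1 := hcm b hb _ hv'
      have h2 : x * b * x⁻¹ * v * (x * b * x⁻¹)⁻¹ * v⁻¹ ∈ ChoiceBase.cj x (W l) := by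
        have e : x * b * x⁻¹ * v * (x * b * x⁻¹)⁻¹ * v⁻¹ =
            x * (b * (x⁻¹ * v * x) * b⁻¹ * (x⁻¹ * v * x)⁻¹) * x⁻¹ := by group
        rw [e]
        exact cj_mem h1
      have h3 := mul_mem (mem_sup_right h2 : _ ∈ W l ⊔ ChoiceBase.cj x (W l)) hv
      rwa [inv_mul_cancel_right] at h3
  exact k.le_of hn hw hw1 (mem_sup_left hw)

theorem dir' [Finite G] (k : BK B B0 X M0 Y0 W l K N N1 N0) {x : G} (hx : x ∈ K) (hm : SQ1.Bau.Mv N1 x) {w : G}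
    (hw : w ∈ W l) (h1 : x * w * x⁻¹ ∈ N1) : w = 1 := by
  have h2 := k.pb.opp x hx hm w (k.WN hw) h1
  have h3 := k.pb.pl.W0n x⁻¹ (inv_mem hx) _ h2
  have e : x⁻¹ * (x * w * x⁻¹) * x⁻¹⁻¹ = w := by group
  rw [e] at h3
  have h4 : w ∈ W l ⊓ N0 := ⟨hw, h3⟩
  rwa [k.WN0, mem_bot] at h4

/-- `[N, K] ∩ N₁ = W l` -/
theorem inf_N1 [Finite G] [Finite ι] (h : TK S B Q V Xn ZJ B0 X M0 Y0 L W Z C A z)
    (k : BK B B0 X M0 Y0 W l K N N1 N0) {v : G} (hv : v ∈ (⁅N, K⁆ : Subgroup G)) (hv1 : v ∈ N1) : v ∈ W l := by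
  obtain ⟨x, hx, hm⟩ := k.pb.mv
  rw [k.exists_gen h hx hm] at hv
  have hcV : ChoiceBase.cj x (W l) ≤ N := by
    rintro _ ⟨w, hw, rfl⟩
    exact k.pb.Nn x hx w (k.pb.N1N (k.WN hw))
  obtain ⟨a, ha, b, hb, rfl⟩ := mem_sup_comm (fun a ha b hb => k.pb.comm (k.pb.N1N (k.WN ha)) (hcV hb)) hv
  obtain ⟨w, hw, rfl⟩ := ex_cj hb
  have h1 : x * w * x⁻¹ ∈ N1 := by
    have h2 := mul_mem (inv_mem (k.WN ha)) hv1
    rwa [inv_mul_cancel_left] at h2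
  have h2 : w = 1 := k.dir' hx hm hw h1
  rw [h2, mul_one, mul_inv_cancel, mul_one]
  exact ha

/-- `[N, K] ∩ X = W l` -/
theorem inf_X [Finite G] [Finite ι] (h : TK S B Q V Xn ZJ B0 X M0 Y0 L W Z C A z)
    (k : BK B B0 X M0 Y0 W l K N N1 N0) : ⁅N, K⁆ ⊓ X = W l := by
  apply le_antisymm
  · rintro v ⟨hv, hvX⟩
    exact k.inf_N1 h hv ((k.N1X h (k.pb.VN hv)).2 hvX)
  · exact le_inf (k.W_le h) (h.WX l)

theorem card16 [Finite G] [Finite ι] (h : TK S B Q V Xn ZJ B0 X M0 Y0 L W Z C A z)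
    (k : BK B B0 X M0 Y0 W l K N N1 N0) : Nat.card (⁅N, K⁆ : Subgroup G) = 16 := by
  obtain ⟨x, hx, hm⟩ := k.pb.mv
  rw [k.exists_gen h hx hm]
  have hcV : ChoiceBase.cj x (W l) ≤ N := by
    rintro _ ⟨w, hw, rfl⟩
    exact k.pb.Nn x hx w (k.pb.N1N (k.WN hw))
  have h1 := card_sup_comm (A := W l) (B := ChoiceBase.cj x (W l)) fun a ha b hb =>
    k.pb.comm (k.pb.N1N (k.WN ha)) (hcV hb)
  have h2 : W l ⊓ ChoiceBase.cj x (W l) = ⊥ := by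
    rw [eq_bot_iff]
    rintro v ⟨hv, hv'⟩
    obtain ⟨w, hw, rfl⟩ := ex_cj hv'
    rw [k.dir' hx hm hw (k.WN hv), mul_one, mul_inv_cancel]
    exact one_mem _
  rw [h2, Subgroup.card_bot, mul_one, card_cj, h.cardW l] at h1
  exact h1

theorem mv_iff [Finite G] [Finite ι] (h : TK S B Q V Xn ZJ B0 X M0 Y0 L W Z C A z)
    (k : BK B B0 X M0 Y0 W l K N N1 N0) {x : G} (hx : x ∈ K) : SQ1.Bau.Mv (W l) x ↔ SQ1.Bau.Mv N1 x := by
  constructor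
  · rintro ⟨w, hw, hw'⟩
    refine ⟨w, k.WN hw, fun h1 => hw' (k.inf_N1 h ?_ h1)⟩
    exact (mem_normalizer_iff.1 (k.pb.LV hx) w).1 (k.W_le h hw)
  · rintro ⟨v, hv, hv'⟩
    obtain ⟨w, hw, n, hn, rfl⟩ := k.split1 h hv
    refine ⟨w, hw, fun h1 => hv' ?_⟩
    have h3 := k.pb.N0c x hx n hn
    have e : x * (w * n) * x⁻¹ = (x * w * x⁻¹) * n := by
      calc x * (w * n) * x⁻¹ = x * w * (x⁻¹ * (x * n) * x⁻¹) := by group
        _ = x * w * (x⁻¹ * (n * x) * x⁻¹) := by rw [h3]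
        _ = _ := by group
    rw [e]
    exact mul_mem (k.WN h1) (k.pb.N01 hn)

/-- **`[N, K]` is natural of order 16.** -/
theorem n4 [Finite G] [Finite ι] (h : TK S B Q V Xn ZJ B0 X M0 Y0 L W Z C A z)
    (k : BK B B0 X M0 Y0 W l K N N1 N0) : N4 B0 K ⁅N, K⁆ (W l) := by
  have hVN : (⁅N, K⁆ : Subgroup G) ≤ N := k.pb.VN
  have hcB : B0 ⊓ centralizer ((⁅N, K⁆ : Subgroup G) : Set G) = B0 ⊓ centralizer (N : Set G) := by
    ext b
    rw [mem_inf, mem_inf, mem_centralizer_iff, mem_centralizer_iff]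
    refine and_congr_right fun hb => ⟨fun h1 v hv => ?_, fun h1 v hv => h1 v (hVN hv)⟩
    obtain ⟨u, hu, n, hn, rfl⟩ := k.pb.exists_V hv
    have c1 : Commute u b := h1 u hu
    have c2 : Commute n b := (k.pb.N0c b (k.pb.BL hb) n hn).symm
    exact (c1.mul_left c2).eq
  refine
    { el := Cfsg.Agent.PLocal.ThompsonJ.isElementaryAbelian_mono k.pb.el hVN
      card := k.card16 h
      V1V := k.W_le h
      card1 := h.cardW l
      BK := k.pb.BL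
      KV := k.pb.LV
      c1 := fun b hb v hv => h.cX hb (h.WX l hv)
      quad := ?_
      cent := ?_
      cardB := by rw [hcB]; exact k.pb.cardB
      cor := ?_
      opp := ?_
      mv := ?_
      gen := fun x hx hm => k.pb.gen x hx ((k.mv_iff h hx).1 hm)
      tor := ?_ }
  · intro b hb v hv
    refine k.inf_N1 h (mul_mem ((mem_normalizer_iff.1 (k.pb.LV (k.pb.BL hb)) v).1 hv) (inv_mem hv)) ?_
    exact k.pb.quad b hb v (hVN hv)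
  · rintro b hb ⟨v, hv, hne⟩ u hu hc
    refine k.inf_N1 h hu (k.pb.cent b hb ⟨v, hVN hv, hne⟩ u (hVN hu) ?_)
    rw [hc, mul_inv_cancel_right, mul_inv_cancel]
    exact one_mem _
  · intro g hg
    rw [hcB]
    refine mem_normalizer_of_cj_le ?_
    rintro _ ⟨x, ⟨hx, hxc⟩, rfl⟩
    refine ⟨k.pb.cor g hg x hx fun v hv => (mem_centralizer_iff.1 hxc v hv).symm, mem_centralizer_iff.2 fun v hv => ?_⟩
    have hv' : g⁻¹ * v * g ∈ N := by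
      have := k.pb.Nn g⁻¹ (inv_mem hg) v hv
      rwa [inv_inv] at this
    have h1 := mem_centralizer_iff.1 hxc _ hv'
    show v * (g * x * g⁻¹) = g * x * g⁻¹ * v
    calc v * (g * x * g⁻¹) = g * ((g⁻¹ * v * g) * x) * g⁻¹ := by group
      _ = g * (x * (g⁻¹ * v * g)) * g⁻¹ := by rw [h1]
      _ = _ := by group
  · intro x hx hm v hv hv'
    exact k.dir' hx ((k.mv_iff h hx).1 hm) hv (k.WN hv')
  · obtain ⟨x, hx, hm⟩ := k.pb.mv
    exact ⟨x, hx, (k.mv_iff h hx).2 hm⟩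
  · intro y hy hy1 y' hy' hy1'
    have hN0 : ∀ w ∈ W l, w ≠ 1 → w ∉ N0 := fun w hw hw1 hwN => hw1 (by
      have h4 : w ∈ W l ⊓ N0 := ⟨hw, hwN⟩
      rwa [k.WN0, mem_bot] at h4)
    obtain ⟨g, hg, hgB, hgN⟩ := k.pb.tor y (k.WN hy) (hN0 y hy hy1) y' (k.WN hy') (hN0 y' hy' hy1')
    refine ⟨g, hg, hgB, ?_⟩
    have hgy : g * y * g⁻¹ ∈ W l := by
      have h1 : g * y * g⁻¹ ∈ (⁅N, K⁆ : Subgroup G) := (mem_normalizer_iff.1 (k.pb.LV hg) y).1 (k.W_le h hy)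
      have h2 : g * y * g⁻¹ ∈ X := by
        have h3 : ChoiceBase.cj g X = X := by rw [← h.zB, ← zc_cj', cj_eq_of_mem_normalizer hgB]
        rw [← h3]
        exact cj_mem (h.WX l hy)
      rw [← k.inf_X h]
      exact ⟨h1, h2⟩
    by_contra hne
    exact hN0 _ (mul_mem hgy (inv_mem hy')) (fun e => hne (mul_inv_eq_one.1 e)) hgN

end BK

end Cfsg.Agent.Omega.OM.Lev.Low.TorusK
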