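import Cfsg.Agent.Omega.OM.Lev.Low.TorusK.Loc
import Cfsg.Agent.Omega.OM.Lev.Low.TorusK.NFour

/-!
# TORUS, `k ≥ 4`: (LOC) of helper607 #23961 for a family of blocks

One block `K i` over every line `W i`, `F i = [N i, K i]`: `X ∏ F i` is abelian, contained in `B₀`, and normalised by
all `K i`.
-/

set_option autoImplicit false
set_option linter.unusedSectionVars false

namespace Cfsg.Agent.Omega.OM.Lev.Low.TorusK

open Subgroup Cfsg Cfsg.Agent.ZN Cfsg.Agent.ZN.ChoiceBase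
open Cfsg.Agent.Omega.SQ1.Bau (mem_sup_comm card_sup_comm elem_comm elem_sq)
open Cfsg.Agent.Omega.OM.Lev.Uni (FrL)
open Cfsg.Agent.Omega.OM.Lev.Low.TorusK.PBC
open scoped commutatorElement

universe u

variable {G : Type u} [Group G] {ι : Type} {S B Q V Xn ZJ B0 X M0 Y0 : Subgroup G} {L W Z C A : ι → Subgroup G} {z : G}
  {K N N1 N0 : ι → Subgroup G}

namespace Loc

/-- `F i`, `F j` commute -/
theorem fam_comm [Finite G] (h : TK S B Q V Xn ZJ B0 X M0 Y0 L W Z C A z)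
    (bk : ∀ i, BK B B0 X M0 Y0 W i (K i) (N i) (N1 i) (N0 i)) (i j : ι) {u v : G} (hu : u ∈ (⁅N i, K i⁆ : Subgroup G))
    (hv : v ∈ (⁅N j, K j⁆ : Subgroup G)) : u * v = v * u := comm_all h (bk i) (bk j) hu hv

theorem fam_le_B0 [Finite G] (h : TK S B Q V Xn ZJ B0 X M0 Y0 L W Z C A z)
    (bk : ∀ i, BK B B0 X M0 Y0 W i (K i) (N i) (N1 i) (N0 i)) : X ⊔ ⨆ i, (⁅N i, K i⁆ : Subgroup G) ≤ B0 :=
  sup_le h.XB0 (iSup_le fun i => (bk i).VB0)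

theorem fam_comm' [Finite G] (h : TK S B Q V Xn ZJ B0 X M0 Y0 L W Z C A z)
    (bk : ∀ i, BK B B0 X M0 Y0 W i (K i) (N i) (N1 i) (N0 i)) {a b : G}
    (ha : a ∈ X ⊔ ⨆ i, (⁅N i, K i⁆ : Subgroup G)) (hb : b ∈ X ⊔ ⨆ i, (⁅N i, K i⁆ : Subgroup G)) : a * b = b * a := by
  have key : ∀ x, (∀ y ∈ X, y * x = x * y) → (∀ i, ∀ y ∈ (⁅N i, K i⁆ : Subgroup G), y * x = x * y) →
      ∀ y ∈ X ⊔ ⨆ i, (⁅N i, K i⁆ : Subgroup G), y * x = x * y := by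
    intro x h1 h2 y hy
    have h3 : X ⊔ ⨆ i, (⁅N i, K i⁆ : Subgroup G) ≤ centralizer ({x} : Set G) :=
      sup_le (fun y hy => mem_centralizer_singleton_iff.2 (h1 y hy))
        (iSup_le fun i y hy => mem_centralizer_singleton_iff.2 (h2 i y hy))
    exact mem_centralizer_singleton_iff.1 (h3 hy)
  refine key b (fun x hx => (key x ?_ ?_ b hb).symm) (fun i x hx => (key x ?_ ?_ b hb).symm) a ha
  · exact fun y hy => h.Xc hy hx
  · exact fun i y hy => h.cX ((bk i).VB0 hy) hx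
  · exact fun y hy => (h.cX ((bk i).VB0 hx) hy).symm
  · exact fun j y hy => comm_all h (bk j) (bk i) hy hx

/-- **(LOC)** : all `K i` normalise `X ∏ F j`. -/
theorem fam_norm [Finite G] [Finite ι] (h : TK S B Q V Xn ZJ B0 X M0 Y0 L W Z C A z)
    (bk : ∀ i, BK B B0 X M0 Y0 W i (K i) (N i) (N1 i) (N0 i)) (i : ι) :
    K i ≤ normalizer ((X ⊔ ⨆ j, ⁅N j, K j⁆ : Subgroup G) : Set G) := by
  have hF : ∀ j, (⁅N j, K j⁆ : Subgroup G) ≤ X ⊔ ⨆ j, ⁅N j, K j⁆ := fun j =>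
    (le_iSup (fun j => (⁅N j, K j⁆ : Subgroup G)) j).trans le_sup_right
  have key : ∀ g ∈ K i, cj g (X ⊔ ⨆ j, ⁅N j, K j⁆) ≤ X ⊔ ⨆ j, ⁅N j, K j⁆ := by
    intro g hg
    rw [cj_le_iff]
    have hcj : ∀ y : G, y ∈ cj g⁻¹ (X ⊔ ⨆ j, ⁅N j, K j⁆) ↔ g * y * g⁻¹ ∈ X ⊔ ⨆ j, ⁅N j, K j⁆ := fun y => by
      rw [mem_cj', inv_inv]
    refine sup_le (fun x hx => (hcj x).2 ?_) (iSup_le fun j v hv => (hcj v).2 ?_)
    · have h1 := mul_mem (hF i ((bk i).act h hg hx)) (mem_sup_left hx : x ∈ X ⊔ ⨆ j, ⁅N j, K j⁆)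
      rwa [inv_mul_cancel_right] at h1
    · by_cases e : i = j
      · subst e
        exact hF i ((mem_normalizer_iff.1 ((bk i).pb.LV hg) v).1 hv)
      · have h1 := pair_norm h e (bk i) (bk j) ((bk j).inf_X h).le hg hv
        have h2 : ⁅N i, K i⁆ ⊔ ⁅N j, K j⁆ ⊔ X ≤ X ⊔ ⨆ j, ⁅N j, K j⁆ := sup_le (sup_le (hF i) (hF j)) le_sup_left
        exact h2 h1
  intro g hg
  rw [mem_normalizer_iff_cj]
  refine le_antisymm (key g hg) ?_
  have h1 := cj_mono g (key g⁻¹ (inv_mem hg))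
  rwa [cj_cj, mul_inv_cancel, cj_one] at h1

/-- `S` normalises `X ∏ F j` if it permutes the `F j` -/
theorem fam_S [Finite G] (h : TK S B Q V Xn ZJ B0 X M0 Y0 L W Z C A z)
    (hp : ∀ s ∈ S, ∀ i, ∃ j, cj s ⁅N i, K i⁆ = ⁅N j, K j⁆) :
    S ≤ normalizer ((X ⊔ ⨆ j, ⁅N j, K j⁆ : Subgroup G) : Set G) := by
  have key : ∀ g ∈ S, cj g (X ⊔ ⨆ j, ⁅N j, K j⁆) ≤ X ⊔ ⨆ j, ⁅N j, K j⁆ := by
    intro g hg
    rw [show cj g (X ⊔ ⨆ j, ⁅N j, K j⁆) = (X ⊔ ⨆ j, ⁅N j, K j⁆).map (MulAut.conj g).toMonoidHom from rfl,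
      Subgroup.map_sup, Subgroup.map_iSup]
    refine sup_le ?_ (iSup_le fun i => ?_)
    · have e : X.map (MulAut.conj g).toMonoidHom = X := cj_eq_of_mem_normalizer (h.SX hg)
      rw [e]
      exact le_sup_left
    · obtain ⟨j, hj⟩ := hp g hg i
      have e : (⁅N i, K i⁆ : Subgroup G).map (MulAut.conj g).toMonoidHom = ⁅N j, K j⁆ := hj
      rw [e]
      exact (le_iSup (fun j => (⁅N j, K j⁆ : Subgroup G)) j).trans le_sup_right
  intro g hg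
  rw [mem_normalizer_iff_cj]
  refine le_antisymm (key g hg) ?_
  have h1 := cj_mono g (key g⁻¹ (inv_mem hg))
  rwa [cj_cj, mul_inv_cancel, cj_one] at h1

end Loc

end Cfsg.Agent.Omega.OM.Lev.Low.TorusK
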