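import Cfsg.Agent.Omega.OM.Lev.Low.TorusK.LocIn
import Cfsg.Agent.Omega.OM.Lev.Low.PlugE

/-!
# TORUS, `q = 2`, `k ≥ 3`: the socket `LocOf` of `Low/PlugE.lean`

* `loc_of` : the structure `TorusK.Loc` (any finite index type with at least three elements);
* `locOf` : **`PlugE.LocOf`**.
-/

set_option autoImplicit false
set_option linter.unusedSectionVars false

namespace Cfsg.Agent.Omega.OM.Lev.Low.TorusK.LocIn

open Subgroup Cfsg Cfsg.Agent.ZN.ChoiceBase Cfsg.Agent.ZN.ChoiceSit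
open Cfsg.Agent.ZN (jj zj bau zc zl o2)
open Cfsg.Agent.Omega.MinPar (IsLoc IsPar IsParS)
open Cfsg.Agent.Omega.OM.SwapL (Ln ZL BL)
open Cfsg.Agent.Omega.NO3S.EThree.Frame (Bg)
open Cfsg.Agent.Omega.NO3S.Level (lev)
open Cfsg.Agent.Omega.OM.Lev.Low.Line (Full)
open Cfsg.Agent.Omega.OM.Lev.Low.TorusK (Loc)

universe u

theorem loc_of {G : Type u} [Group G] [Finite G] {ι : Type} [Finite ι] {S : Sylow 2 G} {P : Subgroup G} {n : ℕ}
    {L W Z C A : ι → Subgroup G} (h3 : ∀ l m : ι, ∃ r, r ≠ l ∧ r ≠ m) (hL : Ln S P n L W Z C A 2)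
    (hB : Bg S P (BL (S : Subgroup G) n) (ZL (S : Subgroup G) n) L W Z C 2)
    (hall : ∀ R, IsParS (S : Subgroup G) R → lev (S : Subgroup G) n ≤ o2 R) {j : ℕ} (hj : j ≤ n) {z : G}
    (hz : z ∈ ZL (S : Subgroup G) n) (hf : ∀ i, z ∉ C i) :
    Loc (S : Subgroup G) (BL (S : Subgroup G) n) (ZL (S : Subgroup G) n) (LevB.BL (S : Subgroup G) j)
      (zc (lev (S : Subgroup G) j)) Z z where
  syl := syl hL hB
  loc1 := loc1 hB
  loc2 := fun l m hlm => by
    obtain ⟨r, hl, hm⟩ := h3 l m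
    obtain ⟨E, h1, h2, h4, h5⟩ := loc2' hB hl hm
    exact ⟨E, h1, fun e he hc => mem_B0 (hB.BS (h2 he)) (mem_centralizer_iff.2 fun x hx => (hc x hx).symm),
      fun x hx y hy _ _ => mul_mem (h4 (hB.fr.Z_le l hx)) (h4 (hB.fr.Z_le m hy)), h5⟩
  fact := fun H hH hU => by
    obtain ⟨z', hz', hf', -, -, -, h6⟩ := fact hL hB hall
    rw [Line.full_unique hL.fr hz hz' hf hf']
    exact h6 H hH hU j hj

/-- **The socket `LocOf`.** -/
theorem locOf : PlugE.LocOf.{u} := fun G _ _ k S P n L W Z C A hk hL hB hall j hj z hz hf =>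
  loc_of (third hk) hL hB hall hj hz hf

end Cfsg.Agent.Omega.OM.Lev.Low.TorusK.LocIn
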