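import Cfsg.Agent.Omega.OM.Lev.Low.TorusK.Theta
import Cfsg.Agent.Omega.OM.Lev.Low.TorusK.LocFam
import Cfsg.Agent.Omega.OM.Lev.Low.TorusK.EndFam
import Cfsg.Agent.Omega.OM.Lev.Low.TorusK.LocPlug
import Cfsg.Agent.Omega.OM.Lev.Low.PlugE
import Cfsg.Agent.Omega.EK3.UniLevK

/-!
# TORUS, `k ≥ 3`: the torus theorem, and the socket `NoLowK`

`torusOf : TorusOf`, `noLowK : NoLowK K`, `uniLevK : UniLevK K` (UNI+ at the levels, `q = 2`, `k ≥ 3`).
-/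

set_option autoImplicit false

namespace Cfsg.Agent.Omega.OM.Lev.Low.TorusK.Done

open Subgroup Cfsg Cfsg.Agent.Omega.OM.Lev.Low Cfsg.Agent.Omega.OM.Lev.Low.TorusK

universe u

/-- **`TorusOf`** (helper607, helper12, helper543, helper472, helper548, helper646). -/
theorem torusOf : PlugE.TorusOf.{u} :=
  fun _ _ _ _ _ _ _ _ _ _ _ _ _ _ _ _ _ _ _ _ _ _ _ _ _ _ h k a =>
    EndFam.false_one h k a fun _ _ _ _ f m =>
      TD.theta ⟨h, f.bk, fun i => Loc.fam_norm h f.bk i, fun i j _ _ hu _ hv => Loc.fam_comm h f.bk i j hu hv⟩ m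

/-- **`NoLowK`.** -/
theorem noLowK {K : Frame.Cls.{u}} : EK3.UniLevK.NoLowK K :=
  PlugE.noLowK_of LocIn.locOf torusOf

/-- **UNI+ at the levels, `q = 2`, `k ≥ 3`.** -/
theorem uniLevK {K : Frame.Cls.{u}} : EK3.OfMul.UniLevK K :=
  EK3.UniLevK.uniLevK_of noLowK

end Cfsg.Agent.Omega.OM.Lev.Low.TorusK.Done
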