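import Cfsg.Agent.Omega.OM.Lev.Low.TorusK.Pair

/-!
# TORUS: two blocks with the same line

* `uni` : if `[V', B]` is not centralised by `L`, then `C_B(V) = C_B(V')` and `V' ≤ V X` (526's CLAIM).
-/

set_option autoImplicit false

namespace Cfsg.Agent.Omega.OM.Lev.Low.TorusK

open Subgroup Cfsg Cfsg.Agent.ZN Cfsg.Agent.ZN.ChoiceBase
open Cfsg.Agent.Omega.NO3S.Level.Claim (Fm Bl cB mem_cB cB_le claim)

universe u

variable {G : Type u} [Group G] {S U H B X L V L' V' : Subgroup G} {AA : Set (Subgroup G)}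

theorem cB_eq [Finite G] (f : Fm S U H B X AA) (k : Bl S U H B X AA L V) (k' : Bl S U H B X AA L' V')
    (hm : ∃ b ∈ B, ∃ v ∈ V', b * v * b⁻¹ * v⁻¹ ∉ centralizer (L : Set G)) : cB B V = cB B V' := by
  by_contra hne
  obtain ⟨b, hb, v, hv, h⟩ := hm
  exact h (claim f k k' hne b hb v hv)

/-- **(UNI)** -/
theorem uni [Finite G] (f : Fm S U H B X AA) (k : Bl S U H B X AA L V) (k' : Bl S U H B X AA L' V')
    (hm : ∃ b ∈ B, ∃ v ∈ V', b * v * b⁻¹ * v⁻¹ ∉ centralizer (L : Set G)) : V' ≤ V ⊔ X := by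
  intro v hv
  obtain ⟨v1, hv1, z, hz, rfl⟩ := k.cY_P f v (k'.VY hv) fun p hp => by
    rw [cB_eq f k k' hm] at hp
    exact (mem_cB.1 hp).2 v hv
  exact mul_mem (mem_sup_left hv1) (mem_sup_right hz)

end Cfsg.Agent.Omega.OM.Lev.Low.TorusK
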