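import Cfsg.Agent.Omega.OM.Lev.Low.Core
import Cfsg.Agent.Omega.OM.Lev.Low.SetS
import Cfsg.Agent.Omega.OM.Lev.Low.TorusK.Frame

/-!
# TORUS, `k ≥ 3`: the instances of `TK` and `BK` (helper607's frame) from `Core.Blk`

* `stM`, `stY` : the groups `M₀`, `Y₀` of the stage;
* `fml_of` : the family at the stage;
* `Loc` : the four local fields of `TK` (helper548);
* `tk_of`, `bk_of`.
-/

set_option autoImplicit false
set_option linter.unusedSectionVars false

namespace Cfsg.Agent.Omega.OM.Lev.Low.TorusK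

open Subgroup Cfsg Cfsg.Agent.ZN.ChoiceBase Cfsg.Agent.ZN.ChoiceSit
open Cfsg.Agent.ZN (jj zj bau zc zl o2)
open Cfsg.Agent.Omega.SQ1.Bau (elem_comm elem_sq)
open Cfsg.Agent.Omega.NO3S.Level.Claim (Fm Bl)
open Cfsg.Agent.Omega.OM.SwapL (Ln ZL BL)
open Cfsg.Agent.Omega.NO3S.Level (lev lev_mono lev_isLev Lev lev_le BO nxt)
open Cfsg.Agent.Omega.NO3S.EThree.Frame (Bg)
open Cfsg.Agent.Omega.OM.Lev.Low.SetS (S_norm_lev S_norm_zc S_norm_BL zj_eq BL_zero)
open Cfsg.Agent.Omega.OM.Lev.Low.BlOf (fm_neg fm_lev famA famA_cj famA_le)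
open Cfsg.Agent.Omega.FrameFF (cv)
open Cfsg.Agent.Omega.OM.Lev.Low.Core (Blk)
open Cfsg.Agent.Omega.OM.Lev.Low.Line (Full full_of_conj S_cent exists_full)

universe u

variable {G : Type u} [Group G]

/-- the group `M₀` of the stage -/
noncomputable def stM (S : Subgroup G) : ℕ → Subgroup G
  | 0 => ⊤
  | n + 1 => normalizer (lev S n : Set G)

/-- the group `Y₀` of the stage -/
noncomputable def stY (S : Subgroup G) : ℕ → Subgroup G
  | 0 => ⊤
  | n + 1 => zc (lev S n)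

variable [Finite G]

/-- **The family at the stage.** -/
theorem fml_of (S : Sylow 2 G) (j : ℕ) : Fml (S : Subgroup G) (LevB.BL (S : Subgroup G) j)
    (zc (lev (S : Subgroup G) j)) (stM (S : Subgroup G) j) (stY (S : Subgroup G) j) := by
  intro U H hU hUB hUY hHU hHM
  have hUS : U ≤ (S : Subgroup G) := hUB.trans inf_le_left
  cases j with
  | zero =>
    have hUb : U ≤ bau (S : Subgroup G) := by rw [← BL_zero]; exact hUB
    have fm := fm_neg (S := (S : Subgroup G)) hU hUb hHU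
    rw [← BL_zero, ← zj_eq] at fm
    refine ⟨_, fm, fun A hA g hg hgU => famA_cj hA hgU ?_ hUS⟩
    rintro _ ⟨a, ha, rfl⟩
    exact mul_mem (mul_mem hg (ZN.ChoiceBase.jj_le _ (famA_le hA ha))) (inv_mem hg)
  | succ m =>
    have fm : Fm (S : Subgroup G) U H (LevB.BL (S : Subgroup G) (m + 1))
        (U ⊓ zc (lev (S : Subgroup G) (m + 1))) (BO (S : Subgroup G) (lev (S : Subgroup G) m)) :=
      fm_lev (lev_isLev (S : Subgroup G) m) hUY hHM
    refine ⟨_, fm, fun A hA g hg _ => BO.conj hA (S_norm_lev S m hg) ?_⟩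
    rintro _ ⟨a, ha, rfl⟩
    exact mul_mem (mul_mem hg (hA.1 ha)) (inv_mem hg)

/-- The local fields of `TK` (helper548). -/
structure Loc {ι : Type} (S B ZJ B0 X : Subgroup G) (Z : ι → Subgroup G) (z : G) : Prop where
  syl : ∀ l, ∀ T : Subgroup G, IsPGroup 2 T → B ≤ T → (∀ p, p ≠ l → T ≤ centralizer (Z p : Set G)) → T ≤ B
  loc1 : ∀ l, ∃ E : Subgroup G, IsElementaryAbelian 2 E ∧ E ≤ B ∧ ZJ ≤ E ∧
    ∀ g, (∀ p, p ≠ l → ∀ x ∈ Z p, g * x = x * g) → g ∈ normalizer (E : Set G)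
  loc2 : ∀ l m, l ≠ m → ∃ E : Subgroup G, IsElementaryAbelian 2 E ∧ (∀ e ∈ E, (∀ x ∈ X, e * x = x * e) → e ∈ B0) ∧
    (∀ x ∈ Z l, ∀ y ∈ Z m, x ≠ 1 → y ≠ 1 → x * y ∈ E) ∧
    ∀ g, (∀ p, p ≠ l → p ≠ m → ∀ x ∈ Z p, g * x = x * g) → g ∈ normalizer (E : Set G)
  fact : ∀ H : Subgroup G, S ≤ H → (∃ U : Subgroup G, U ≠ ⊥ ∧ IsPGroup 2 U ∧ H ≤ normalizer (U : Set G)) →
    H ≤ (H ⊓ normalizer (X : Set G)) ⊔ (H ⊓ centralizer ({z} : Set G))

section tk

variable {ι : Type} [Finite ι] {S : Sylow 2 G} {P : Subgroup G} {n : ℕ} {L W Z C A : ι → Subgroup G}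

/-- **The instance of `TK`.** -/
theorem tk_of (hln : Ln S P n L W Z C A 2)
    (hbg : Bg S P (BL (S : Subgroup G) n) (ZL (S : Subgroup G) n) L W Z C 2) {j : ℕ} (hj : j ≤ n) {z : G}
    (hz : z ∈ ZL (S : Subgroup G) n) (hzC : ∀ i, z ∉ C i)
    (hloc : Loc (S : Subgroup G) (BL (S : Subgroup G) n) (ZL (S : Subgroup G) n) (LevB.BL (S : Subgroup G) j)
      (zc (lev (S : Subgroup G) j)) Z z) :
    TK (S : Subgroup G) (BL (S : Subgroup G) n) (o2 P) (zl (S : Subgroup G) P) (zc (lev (S : Subgroup G) n))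
      (ZL (S : Subgroup G) n) (LevB.BL (S : Subgroup G) j) (zc (lev (S : Subgroup G) j)) (stM (S : Subgroup G) j)
      (stY (S : Subgroup G) j) L W Z C A z where
  fr := hln.fr
  fml := fml_of S j
  two := S.isPGroup'
  BS := hbg.BS
  B0B := BL_mono (S : Subgroup G) (by omega : j ≤ n + 1)
  SB := hbg.S_norm_B
  SB0 := S_norm_BL S j
  SX := S_norm_zc S j
  zB := LevB.zc_B S j
  VX := hln.fr.VX.trans ((lev_isLev (S : Subgroup G) j).zc_le_zc (lev_mono _ hj) (lev_le _ n))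
  XY := by
    cases j with
    | zero => exact le_top
    | succ m => exact (lev_isLev (S : Subgroup G) m).zc_le_zc (lev_mono _ (Nat.le_succ m)) (lev_le _ _)
  mX := fun s hs hc => mem_inf.2 ⟨hs, mem_centralizer_iff.2 fun x hx => (hc x hx).symm⟩
  cQ := fun x hx hc => by
    have h1 := qv hln hbg.bau_two le_rfl hj
    exact (h1.mem x).2 ⟨hx, hc⟩
  SM := by
    cases j with
    | zero => exact le_top
    | succ m => exact S_norm_lev S m
  MY := by
    cases j with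
    | zero =>
      show (⊤ : Subgroup G) ≤ normalizer (((⊤ : Subgroup G) : Subgroup G) : Set G)
      intro x _
      rw [mem_normalizer_iff]
      exact fun y => ⟨fun _ => mem_top _, fun _ => mem_top _⟩
    | succ m => exact NO3S.Level.normalizer_le_zc _
  perm := fun s hs i => by
    obtain ⟨σ, hσ⟩ := hbg.perm_S hs
    exact ⟨σ i, hσ i⟩
  tr := hbg.trans
  wt := fun g z hz hg hf => full_of_conj hln hbg hz hg hf
  syl := hloc.syl
  loc1 := hloc.loc1
  loc2 := hloc.loc2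
  zJ := hz
  zS := fun s hs => S_cent hln hbg hz hzC hs
  zC := hzC
  fact := hloc.fact

end tk

section bk

variable {ι : Type} {S : Sylow 2 G} {P : Subgroup G} {n : ℕ} {L W Z C A : ι → Subgroup G} {R : Subgroup G}
  {j : ℕ} {K N₁ c : Subgroup G} {τ : G} {l : ι}

/-- `R` normalises the levels `< j` -/
theorem R_norm (h : Blk S P n L W Z C A R j K N₁ c τ l) {m : ℕ} (hm : m < j) :
    R ≤ normalizer (lev (S : Subgroup G) m : Set G) :=
  (lev_isLev (S : Subgroup G) m).le_norm_of_o2 (h.low m hm) ((o2_le_syl h.syl).trans h.bg.BS)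

/-- `⟨Ω₁Z(B)^R⟩ ≤ Ω₁Z(lev S m)`, `m < j` -/
theorem zl_le_lev (h : Blk S P n L W Z C A R j K N₁ c τ l) {m : ℕ} (hm : m < j) :
    zl (BL (S : Subgroup G) n) R ≤ zc (lev (S : Subgroup G) m) := by
  have h1 : zc (BL (S : Subgroup G) n) ≤ zc (lev (S : Subgroup G) m) := by
    have h2 : zc (BL (S : Subgroup G) n) = ZL (S : Subgroup G) n := h.ln.fr.zcB
    rw [h2]
    exact (lev_isLev (S : Subgroup G) m).zc_le_zc (lev_mono _ (by have := h.jn; omega)) (lev_le _ _)
  refine iSup_le fun g => ?_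
  have h2 := (R_norm h hm).trans (NO3S.Level.normalizer_le_zc _)
  have h3 := cj_mono (g : G) h1
  rwa [cj_eq_of_mem_normalizer (h2 g.2)] at h3

/-- **The instance of `BK`.** -/
theorem bk_of (h : Blk S P n L W Z C A R j K N₁ c τ l) :
    BK (BL (S : Subgroup G) n) (LevB.BL (S : Subgroup G) j) (zc (lev (S : Subgroup G) j)) (stM (S : Subgroup G) j)
      (stY (S : Subgroup G) j) W l K (zl (BL (S : Subgroup G) n) R) N₁ (cv (BL (S : Subgroup G) n) R) where
  pb := h.pb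
  NY := by
    cases j with
    | zero => exact le_top
    | succ m => exact zl_le_lev h (Nat.lt_succ_self m)
  KM := by
    cases j with
    | zero => exact le_top
    | succ m => exact h.KR.trans (R_norm h (Nat.lt_succ_self m))
  WN := h.cW ▸ h.cN1
  WN0 := h.cW ▸ h.cD
  cW := fun p hp w hw k hk => mem_centralizer_iff.1 (h.WK p hp hw) k hk
  BX := fun b hb => mem_normalizer_iff_cj.2 (h.fix b hb).1
  tor := by
    refine ⟨τ, h.τK, h.τB0, fun w hw => ?_, fun w hw => h.τ1 w (h.cW ▸ hw)⟩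
    rw [← h.cW] at hw ⊢
    have h1 : τ * w * τ⁻¹ ∈ cj τ c := ⟨w, hw, rfl⟩
    rwa [h.τc] at h1

end bk

end Cfsg.Agent.Omega.OM.Lev.Low.TorusK
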