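import Cfsg.Agent.Omega.EK3.Q.Loc
import Cfsg.Agent.Omega.OM.Lev.Low.Full
import Cfsg.Agent.Omega.OM.Lev.Low.TwoInst

/-!
# TORUS, `q = 2`, `k ≥ 2`: the local inputs of the frame of helper607 #23961 from `Ln` + `Bg`

* `syl` : `B` is a Sylow 2-subgroup of `C_G(Z p : p ≠ l)`;
* `loc1`, `loc2` : `E = Ω₁Z(O₂(C_G(Z p : p ≠ l, m)))` is elementary abelian, `Z_J ≤ E ≤ B`, normalised by this centraliser;
* `exists_z` : `Ω₁Z(S) = {1, z}`, `z ∈ Z_J` of full support;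
* `fact` : a local `H ≥ S` is generated by `N_H(Ω₁Z(lev S j))` and `C_H(z)`.
-/

set_option autoImplicit false
set_option linter.unusedSectionVars false

namespace Cfsg.Agent.Omega.OM.Lev.Low.TorusK.LocIn

open Subgroup Cfsg Cfsg.Agent.ZN.ChoiceBase Cfsg.Agent.ZN.ChoiceSit
open Cfsg.Agent.ZN (jj zj bau zc zl o2)
open Cfsg.Agent.Omega.MinPar (IsLoc IsPar IsParS)
open Cfsg.Agent.Omega.OM.Lev.Uni (FrL)
open Cfsg.Agent.Omega.OM.SwapL (Ln ZL BL)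
open Cfsg.Agent.Omega.NO3S.EThree.Frame (Bg)
open Cfsg.Agent.Omega.NO3S.Level (lev lev_mono lev_isLev lev_le)
open Cfsg.Agent.Omega.OM.Lev.Low.Line (Full)
open Cfsg.Agent.Omega.EK3.Q.Loc (YI CI mem_YI mem_CI)

universe u

variable {G : Type u} [Group G] [Finite G] {ι : Type} [Finite ι] {S : Sylow 2 G} {P : Subgroup G} {n : ℕ}
  {L W Z C A : ι → Subgroup G}

/-- An element of `N_G(B)` which centralises `Z p` for all `p ≠ l` centralises `Z_J`. -/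
theorem mem_cent (hL : Ln S P n L W Z C A 2)
    (hB : Bg S P (BL (S : Subgroup G) n) (ZL (S : Subgroup G) n) L W Z C 2) {l : ι} {t : G}
    (ht : t ∈ normalizer (BL (S : Subgroup G) n : Set G))
    (hc : ∀ p, p ≠ l → ∀ x ∈ Z p, t * x = x * t) : t ∈ centralizer (ZL (S : Subgroup G) n : Set G) := by
  obtain ⟨j, hj, -, -⟩ := SwapL.perm hL ht l
  have hjl : j = l := by
    by_contra hne
    have h1 : cj t (Z j) = Z j := by
      have h2 : t ∈ centralizer (Z j : Set G) := mem_centralizer_iff.2 fun x hx => (hc j hne x hx).symm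
      exact cj_eq_of_mem_normalizer (centralizer_le_normalizer _ h2)
    have h2 := hj.trans h1.symm
    have h3 := congrArg (cj t⁻¹) h2
    rw [cj_inv_cj, cj_inv_cj] at h3
    exact hne (SwapL.Z_inj hL h3).symm
  rw [hjl] at hj
  have hl : ∀ z ∈ Z l, z * t = t * z := fun z hz => (SwapL.cent_of_cj hL hj hz).symm
  exact EK3.Q.Loc.mem_D hB (i := l) (j := l) (mem_CI.2 fun p hp _ z hz => (hc p hp z hz).symm) hl hl

/-- **(syl)** `B` is a Sylow 2-subgroup of `C_G(Z p : p ≠ l)`. -/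
theorem syl (hL : Ln S P n L W Z C A 2)
    (hB : Bg S P (BL (S : Subgroup G) n) (ZL (S : Subgroup G) n) L W Z C 2) :
    ∀ (l : ι) (T : Subgroup G), IsPGroup 2 T → BL (S : Subgroup G) n ≤ T →
      (∀ p, p ≠ l → T ≤ centralizer (Z p : Set G)) → T ≤ BL (S : Subgroup G) n := by
  intro l T hT hBT hc
  refine EK3.Q.Loc.le_B_of hB hT (fun t ht => ?_) (hBT.trans le_normalizer)
  exact mem_cent hL hB (l := l) (hB.le_norm_B hT hBT ht) fun p hp x hx =>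
    (mem_centralizer_iff.1 (hc p hp ht) x hx).symm

/-- **(loc2)**, strong form: `E = Ω₁Z(O₂(C_G(Z p : p ≠ l, m)))`. -/
theorem loc2' (hB : Bg S P (BL (S : Subgroup G) n) (ZL (S : Subgroup G) n) L W Z C 2) {l m r : ι} (hl : r ≠ l)
    (hm : r ≠ m) : ∃ E : Subgroup G, IsElementaryAbelian 2 E ∧ E ≤ BL (S : Subgroup G) n ∧
      ZL (S : Subgroup G) n ≤ E ∧ ∀ g : G, (∀ p, p ≠ l → p ≠ m → ∀ x ∈ Z p, g * x = x * g) →
        g ∈ normalizer (E : Set G) := by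
  refine ⟨zc (o2 (CI Z l m)), NO3S.OneLine.zc_elem _, (zc_le _).trans (EK3.Q.Loc.o2CI_le_B hB l m),
    EK3.Q.Loc.ZJ_le_zc hB hl hm, fun g hg => EK3.Q.Loc.le_normalizer_zc_o2 hB _ ?_⟩
  exact mem_CI.2 fun p hp hp' z hz => (hg p hp hp' z hz).symm

/-- **(loc1)** -/
theorem loc1 (hB : Bg S P (BL (S : Subgroup G) n) (ZL (S : Subgroup G) n) L W Z C 2) :
    ∀ l : ι, ∃ E : Subgroup G, IsElementaryAbelian 2 E ∧ E ≤ BL (S : Subgroup G) n ∧
      ZL (S : Subgroup G) n ≤ E ∧ ∀ g : G, (∀ p, p ≠ l → ∀ x ∈ Z p, g * x = x * g) →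
        g ∈ normalizer (E : Set G) := by
  intro l
  obtain ⟨r, hr⟩ := hB.two l
  obtain ⟨E, h1, h2, h3, h4⟩ := loc2' hB hr hr
  exact ⟨E, h1, h2, h3, fun g hg => h4 g fun p hp _ => hg p hp⟩

/-- **(loc2)**: `k ≥ 3`. -/
theorem loc2 (hB : Bg S P (BL (S : Subgroup G) n) (ZL (S : Subgroup G) n) L W Z C 2)
    (h3 : ∀ l m : ι, ∃ r, r ≠ l ∧ r ≠ m) :
    ∀ l m : ι, l ≠ m → ∃ E : Subgroup G, IsElementaryAbelian 2 E ∧ E ≤ (S : Subgroup G) ∧
      (∀ x ∈ Z l, ∀ y ∈ Z m, x ≠ 1 → y ≠ 1 → x * y ∈ E) ∧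
      ∀ g : G, (∀ p, p ≠ l → p ≠ m → ∀ x ∈ Z p, g * x = x * g) → g ∈ normalizer (E : Set G) := by
  intro l m _
  obtain ⟨r, hl, hm⟩ := h3 l m
  obtain ⟨E, h1, h2, h4, h5⟩ := loc2' hB hl hm
  exact ⟨E, h1, h2.trans hB.BS, fun x hx y hy _ _ =>
    mul_mem (h4 (hB.fr.Z_le l hx)) (h4 (hB.fr.Z_le m hy)), h5⟩

omit [Finite ι] [Finite G] in
/-- a third index -/
theorem third {k : ℕ} (hk : 3 ≤ k) (i j : Fin k) : ∃ l, l ≠ i ∧ l ≠ j := by
  by_contra hcon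
  push Not at hcon
  have h1 : ∀ l : Fin k, l = i ∨ l = j := fun l => by
    by_cases hl : l = i
    · exact Or.inl hl
    · exact Or.inr (hcon l hl)
  have h2 : (Finset.univ : Finset (Fin k)) ⊆ {i, j} := fun l _ => by
    rcases h1 l with rfl | rfl <;> simp
  have h3 := Finset.card_le_card h2
  rw [Finset.card_univ, Fintype.card_fin] at h3
  have h4 : ({i, j} : Finset (Fin k)).card ≤ 2 := Finset.card_le_two
  omega

/-- `B_j = C_S(Ω₁Z(lev S j)) ≤ B` -/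
theorem BL_le {j : ℕ} (hj : j ≤ n) : LevB.BL (S : Subgroup G) j ≤ BL (S : Subgroup G) n :=
  BL_mono (S : Subgroup G) (by omega : j ≤ n + 1)

/-- an element of `S` centralising `X_j = Ω₁Z(lev S j)` lies in `B_j` -/
theorem mem_B0 {j : ℕ} {e : G} (he : e ∈ (S : Subgroup G))
    (hc : e ∈ centralizer (zc (lev (S : Subgroup G) j) : Set G)) : e ∈ LevB.BL (S : Subgroup G) j := ⟨he, hc⟩

omit [Finite ι] in
/-- `Ω₁Z(S) ≤ Z_J` -/
theorem zc_le_ZJ (hB : Bg S P (BL (S : Subgroup G) n) (ZL (S : Subgroup G) n) L W Z C 2) :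
    zc (S : Subgroup G) ≤ ZL (S : Subgroup G) n := by
  intro x hx
  obtain ⟨h1, h2, h3⟩ := ZN.ChoiceBase.mem_zc.1 hx
  have hZB : ZL (S : Subgroup G) n ≤ BL (S : Subgroup G) n := hB.fr.ZJV.trans hB.fr.VB
  have hxB : x ∈ BL (S : Subgroup G) n := hB.mem_B h1 fun z hz => (h3 z (hB.BS (hZB hz))).symm
  rw [← hB.fr.zcB]
  exact ZN.ChoiceBase.mem_zc.2 ⟨hxB, h2, fun y hy => h3 y (hB.BS hy)⟩

/-- **`Ω₁Z(S) = {1, z}`**, `z ∈ Z_J` of full support. -/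
theorem exists_z (hL : Ln S P n L W Z C A 2)
    (hB : Bg S P (BL (S : Subgroup G) n) (ZL (S : Subgroup G) n) L W Z C 2) :
    ∃ z ∈ ZL (S : Subgroup G) n, Full C z ∧ z ≠ 1 ∧ z ∈ zc (S : Subgroup G) ∧
      ∀ x ∈ zc (S : Subgroup G), x ≠ 1 → x = z := by
  obtain ⟨z, hz, hf⟩ := Line.exists_full hL.fr
  have hne : ∃ i : ι, True := by
    by_contra hcon
    push Not at hcon
    have hι : ∀ i : ι, False := fun i => hcon i
    have h1 := hL.hyp.zc_ne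
    apply h1
    rw [eq_bot_iff]
    intro x hx
    rw [mem_bot]
    exact hB.fr.C0 x (hB.fr.ZJV (zc_le_ZJ hB hx)) fun i => (hι i).elim
  obtain ⟨i₀, -⟩ := hne
  have hz1 : z ≠ 1 := by
    rintro rfl
    exact hf i₀ (one_mem _)
  refine ⟨z, hz, hf, hz1, ?_, fun x hx hx1 => ?_⟩
  · exact ZN.ChoiceBase.mem_zc.2 ⟨hB.BS (hB.fr.VB (hB.fr.ZJV hz)), hB.fr.Vsq (hB.fr.ZJV hz),
      fun s hs => Line.S_cent hL hB hz hf hs⟩
  · have hxJ := zc_le_ZJ hB hx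
    have hxs := (ZN.ChoiceBase.mem_zc.1 hx).2.2
    refine Line.full_unique hL.fr hxJ hz (fun j hj => hx1 ?_) hf
    refine hB.fr.C0 x (hB.fr.ZJV hxJ) fun i => ?_
    obtain ⟨s, hs, e⟩ := hB.trans j i
    obtain ⟨σ, hσ⟩ := hB.perm_S hs
    have h1 : σ j = i := hB.W_inj ((hσ j).1.symm.trans e)
    have h2 : s * x * s⁻¹ ∈ cj s (C j) := ⟨x, hj, rfl⟩
    rw [(hσ j).2.2, h1, hxs s hs, mul_inv_cancel_right] at h2
    exact h2

/-- **(fact)**, for any `z` with `Ω₁Z(S) = {1, z}`. -/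
theorem fact' (S : Sylow 2 G) {H : Subgroup G} (hH : IsLoc (S : Subgroup G) H) {n j : ℕ} (hj : j ≤ n)
    (hall : ∀ R, IsParS (S : Subgroup G) R → lev (S : Subgroup G) n ≤ o2 R) {z : G} (hz : z ∈ zc (S : Subgroup G))
    (hz1 : z ≠ 1) (hzS : ∀ x ∈ zc (S : Subgroup G), x ≠ 1 → x = z) :
    H ≤ (H ⊓ normalizer (zc (lev (S : Subgroup G) j) : Set G)) ⊔ (H ⊓ centralizer ({z} : Set G)) := by
  have hlv := lev_isLev (S : Subgroup G) j
  refine hH.le_of_forall S ?_ fun Y hY hYH => ?_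
  · refine le_trans (le_inf inf_le_left fun g hg => ?_) le_sup_left
    exact NO3S.Level.normalizer_le_zc _ (hlv.norm _ hlv.le le_rfl hg.2)
  · by_cases hZ : Y ≤ normalizer (zc (S : Subgroup G) : Set G)
    · refine le_trans (le_inf hYH fun g hg => ?_) le_sup_right
      rw [mem_centralizer_singleton_iff]
      have h1 : g * z * g⁻¹ ∈ zc (S : Subgroup G) := (mem_normalizer_iff.1 (hZ hg) z).1 hz
      have h2 := hzS _ h1 fun e => hz1 (conj_eq_one_iff.1 e)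
      exact mul_inv_eq_iff_eq_mul.1 h2
    · refine le_trans (le_inf hYH ?_) le_sup_left
      have h1 := hall Y ⟨hY, hZ⟩
      exact (hlv.le_norm_of_o2 ((lev_mono _ hj).trans h1) (hY.isLoc.o2_le S)).trans (NO3S.Level.normalizer_le_zc _)

/-- `S ≤ H ≤ N_G(U)`, `U ≠ 1` a 2-group: `H` is local. -/
theorem isLoc_of (S : Sylow 2 G) {H U : Subgroup G} (hS : (S : Subgroup G) ≤ H) (hU1 : U ≠ ⊥) (hU : IsPGroup 2 U)
    (hn : H ≤ normalizer (U : Set G)) : IsLoc (S : Subgroup G) H := by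
  have : Fact (Nat.Prime 2) := ⟨Nat.prime_two⟩
  refine ⟨hS, fun e => hU1 ?_⟩
  have h1 : IsPGroup 2 (((S : Subgroup G) ⊔ U : Subgroup G)) := IsPGroup.to_sup_of_normal_right' S.isPGroup' hU
    (hS.trans hn)
  have h2 : U ≤ (S : Subgroup G) := by
    have h3 := S.is_maximal' h1 le_sup_left
    rw [← h3]
    exact le_sup_right
  have h4 : U ≤ o2 H := le_o2 hU (h2.trans hS) hn
  rw [e] at h4
  exact le_bot_iff.1 h4

/-- **(fact)** -/
theorem fact (hL : Ln S P n L W Z C A 2)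
    (hB : Bg S P (BL (S : Subgroup G) n) (ZL (S : Subgroup G) n) L W Z C 2)
    (hall : ∀ R, IsParS (S : Subgroup G) R → lev (S : Subgroup G) n ≤ o2 R) :
    ∃ z ∈ ZL (S : Subgroup G) n, Full C z ∧ z ≠ 1 ∧ z ∈ zc (S : Subgroup G) ∧
      (∀ x ∈ zc (S : Subgroup G), x ≠ 1 → x = z) ∧
      ∀ H : Subgroup G, (S : Subgroup G) ≤ H → (∃ U : Subgroup G, U ≠ ⊥ ∧ IsPGroup 2 U ∧ H ≤ normalizer (U : Set G)) →
        ∀ j ≤ n, H ≤ (H ⊓ normalizer (zc (lev (S : Subgroup G) j) : Set G)) ⊔ (H ⊓ centralizer ({z} : Set G)) := by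
  obtain ⟨z, hz, hf, hz1, hzS, hu⟩ := exists_z hL hB
  refine ⟨z, hz, hf, hz1, hzS, hu, fun H hH hU j hj => ?_⟩
  obtain ⟨U, hU1, hU2, hU3⟩ := hU
  exact fact' S (isLoc_of S hH hU1 hU2 hU3) hj hall hzS hz1 hu

end Cfsg.Agent.Omega.OM.Lev.Low.TorusK.LocIn
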