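import Cfsg.Agent.ZN.ChoiceSit

/-!
# TORUS (the last exception of TEXT LL, `q = 2`): (END) of helper607 #23961 = (G) of helper109 #23071

`W i` (`i ∈ I`) pairwise commuting subgroups with direct product, `Sp i` the lines of `W i` (a partial spread), `c i ∈ Sp i`,
`L` permutes the pairs `(W i, Sp i)`, `z ∈ ∏ c i` has all components `≠ 1`.

* `norm` : an element of `L` which centralises `z` normalises `V = ∏ c i`;
* `false_of` : if `L` is generated by elements which centralise `z` or normalise `V`, no element of `L` normalises `W i`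
  and moves `c i`.
-/

set_option autoImplicit false
set_option linter.unusedSectionVars false
set_option linter.unusedVariables false

namespace Cfsg.Agent.Omega.OM.Lev.Low.TorusK.EndK

open Subgroup Cfsg.Agent.ZN.ChoiceBase

variable {G : Type*} [Group G] {I : Type*}

/-- `P ⊔ Q` for commuting subgroups -/
theorem mem_sup_comm {P Q : Subgroup G} (hc : ∀ p ∈ P, ∀ q ∈ Q, p * q = q * p) {g : G} (hg : g ∈ P ⊔ Q) :
    ∃ p ∈ P, ∃ q ∈ Q, g = p * q := by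
  let R : Subgroup G :=
    { carrier := {g | ∃ p ∈ P, ∃ q ∈ Q, g = p * q}
      one_mem' := ⟨1, one_mem _, 1, one_mem _, (one_mul 1).symm⟩
      mul_mem' := by
        rintro _ _ ⟨p, hp, q, hq, rfl⟩ ⟨p', hp', q', hq', rfl⟩
        refine ⟨p * p', mul_mem hp hp', q * q', mul_mem hq hq', ?_⟩
        calc p * q * (p' * q') = p * (q * p') * q' := by group
          _ = p * (p' * q) * q' := by rw [hc p' hp' q hq]
          _ = p * p' * (q * q') := by group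
      inv_mem' := by
        rintro _ ⟨p, hp, q, hq, rfl⟩
        exact ⟨p⁻¹, inv_mem hp, q⁻¹, inv_mem hq, by rw [mul_inv_rev, hc _ (inv_mem hp) _ (inv_mem hq)]⟩ }
  have h1 : P ⊔ Q ≤ R := sup_le (fun p hp => ⟨p, hp, 1, one_mem _, (mul_one p).symm⟩)
    fun q hq => ⟨1, one_mem _, q, hq, (one_mul q).symm⟩
  exact h1 hg

/-- The data. -/
structure Sys (L : Subgroup G) (W c : I → Subgroup G) (Sp : I → Set (Subgroup G)) (z : G) : Prop where
  comm : ∀ i l, i ≠ l → ∀ u ∈ W i, ∀ v ∈ W l, u * v = v * u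
  dir : ∀ i, W i ⊓ ⨆ (l) (_ : l ≠ i), W l = ⊥
  le : ∀ i, ∀ ℓ ∈ Sp i, ℓ ≤ W i
  mem : ∀ i, c i ∈ Sp i
  spr : ∀ i, ∀ ℓ ∈ Sp i, ∀ ℓ' ∈ Sp i, ∀ u ∈ ℓ, u ∈ ℓ' → u ≠ 1 → ℓ = ℓ'
  perm : ∀ g ∈ L, ∀ i, ∃ j, cj g (W i) = W j ∧ ∀ ℓ ∈ Sp i, cj g ℓ ∈ Sp j
  zV : z ∈ ⨆ i, c i
  zn : ∀ i, z ∉ ⨆ (l) (_ : l ≠ i), W l

namespace Sys

variable {L : Subgroup G} {W c : I → Subgroup G} {Sp : I → Set (Subgroup G)} {z : G} (D : Sys L W c Sp z)
include D

theorem cW (i : I) : c i ≤ W i := D.le i _ (D.mem i)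

theorem comm' {i : I} {u v : G} (hu : u ∈ W i) (hv : v ∈ ⨆ (l) (_ : l ≠ i), W l) : u * v = v * u := by
  have h1 : ⨆ (l) (_ : l ≠ i), W l ≤ centralizer ({u} : Set G) := by
    refine iSup₂_le fun l hl w hw => ?_
    rw [mem_centralizer_singleton_iff]
    exact (D.comm i l (Ne.symm hl) u hu w hw).symm
  exact (mem_centralizer_singleton_iff.1 (h1 hv)).symm

theorem le_sup (i : I) : ⨆ i, c i ≤ c i ⊔ ⨆ (l) (_ : l ≠ i), W l := by
  refine iSup_le fun l => ?_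
  by_cases e : l = i
  · subst e
    exact le_sup_left
  · exact (D.cW l).trans (le_trans (le_iSup₂ (f := fun (l : I) (_ : l ≠ i) => W l) l e) le_sup_right)

theorem W_ne (i : I) : W i ≠ ⊥ := by
  intro e
  have h1 := D.le_sup i D.zV
  have h2 : c i = ⊥ := by rw [eq_bot_iff, ← e]; exact D.cW i
  rw [h2, bot_sup_eq] at h1
  exact D.zn i h1

theorem inj {i l : I} (e : W i = W l) : i = l := by
  by_contra hne
  have h1 : W i ≤ ⨆ (m) (_ : m ≠ i), W m := by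
    rw [e]
    exact le_iSup₂_of_le l (Ne.symm hne) le_rfl
  apply D.W_ne i
  rw [eq_bot_iff, ← D.dir i]
  exact le_inf le_rfl h1

/-- the line of `W i` below `z` -/
theorem eq_of {i : I} {ℓ : Subgroup G} (hℓ : ℓ ∈ Sp i) (hz : z ∈ ℓ ⊔ ⨆ (l) (_ : l ≠ i), W l) : ℓ = c i := by
  obtain ⟨p, hp, q, hq, e1⟩ := mem_sup_comm (fun p hp q hq => D.comm' (D.le i ℓ hℓ hp) hq) hz
  obtain ⟨p', hp', q', hq', e2⟩ := mem_sup_comm (fun p hp q hq => D.comm' (D.cW i hp) hq) (D.le_sup i D.zV)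
  have h1 : p'⁻¹ * p = q' * q⁻¹ := by
    have h2 : p * q = p' * q' := by rw [← e1, ← e2]
    calc p'⁻¹ * p = p'⁻¹ * (p * q) * q⁻¹ := by group
      _ = p'⁻¹ * (p' * q') * q⁻¹ := by rw [h2]
      _ = q' * q⁻¹ := by group
  have h3 : p'⁻¹ * p ∈ W i ⊓ ⨆ (l) (_ : l ≠ i), W l :=
    ⟨(W i).mul_mem ((W i).inv_mem (D.cW i hp')) (D.le i ℓ hℓ hp), by
      rw [h1]; exact Subgroup.mul_mem _ hq' (Subgroup.inv_mem _ hq)⟩
  rw [D.dir i, mem_bot, inv_mul_eq_one] at h3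
  refine D.spr i ℓ hℓ (c i) (D.mem i) p hp (by rw [← h3]; exact hp') ?_
  rintro rfl
  apply D.zn i
  rw [e1, one_mul]
  exact hq

/-- **An element of `L` which centralises `z` normalises `V`.** -/
theorem norm_le {g : G} (hg : g ∈ L) (hz : g * z = z * g) : cj g (⨆ i, c i) ≤ ⨆ i, c i := by
  rw [show cj g (⨆ i, c i) = (⨆ i, c i).map (MulAut.conj g).toMonoidHom from rfl, Subgroup.map_iSup]
  refine iSup_le fun i => ?_
  obtain ⟨j, e, hS⟩ := D.perm g hg i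
  have h1 : cj g (c i) ∈ Sp j := hS _ (D.mem i)
  have h2 : cj g (⨆ (l) (_ : l ≠ i), W l) ≤ ⨆ (l) (_ : l ≠ j), W l := by
    rw [cj_le_iff]
    refine iSup₂_le fun l hl => ?_
    rw [← cj_le_iff]
    obtain ⟨m, e', -⟩ := D.perm g hg l
    rw [e']
    refine le_iSup₂_of_le m ?_ le_rfl
    rintro rfl
    apply hl
    apply D.inj
    rw [← cj_inv_cj g (W l), e', ← e, cj_inv_cj]
  have h3 : z ∈ cj g (c i) ⊔ ⨆ (l) (_ : l ≠ j), W l := by
    have h4 : z ∈ cj g (c i ⊔ ⨆ (l) (_ : l ≠ i), W l) := by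
      rw [mem_cj]
      have h5 : g⁻¹ * z * g = z := by rw [mul_assoc, ← hz, inv_mul_cancel_left]
      rw [h5]
      exact D.le_sup i D.zV
    rw [show cj g (c i ⊔ ⨆ (l) (_ : l ≠ i), W l) = (c i ⊔ ⨆ (l) (_ : l ≠ i), W l).map (MulAut.conj g).toMonoidHom
      from rfl, Subgroup.map_sup] at h4
    exact (sup_le_sup le_rfl h2 : _ ≤ _) h4
  rw [show (c i).map (MulAut.conj g).toMonoidHom = cj g (c i) from rfl, D.eq_of h1 h3]
  exact le_iSup c j

theorem norm {g : G} (hg : g ∈ L) (hz : g * z = z * g) : cj g (⨆ i, c i) = ⨆ i, c i := by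
  refine le_antisymm (D.norm_le hg hz) ?_
  have h1 : g⁻¹ * z = z * g⁻¹ := by
    calc g⁻¹ * z = g⁻¹ * (z * g) * g⁻¹ := by group
      _ = g⁻¹ * (g * z) * g⁻¹ := by rw [hz]
      _ = z * g⁻¹ := by group
  have h2 := D.norm_le (inv_mem hg) h1
  rw [cj_le_iff, inv_inv] at h2
  exact h2

/-- `V ∩ W i = c i` -/
theorem inf_eq (i : I) : (⨆ i, c i) ⊓ W i = c i := by
  refine le_antisymm ?_ (le_inf (le_iSup c i) (D.cW i))
  rintro v ⟨hv, hi⟩
  obtain ⟨p, hp, q, hq, e⟩ := mem_sup_comm (fun p hp q hq => D.comm' (D.cW i hp) hq) (D.le_sup i hv)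
  have h1 : q ∈ W i ⊓ ⨆ (l) (_ : l ≠ i), W l := by
    refine ⟨?_, hq⟩
    have h2 : q = p⁻¹ * v := by rw [e]; group
    rw [h2]
    exact (W i).mul_mem ((W i).inv_mem (D.cW i hp)) hi
  rw [D.dir i, mem_bot] at h1
  rw [e, h1, mul_one]
  exact hp

/-- **(END)** -/
theorem false_of {gen : Set G} (hL : L ≤ closure gen)
    (hg : ∀ g ∈ gen, g ∈ L ∧ g * z = z * g ∨ cj g (⨆ i, c i) = ⨆ i, c i) {x : G} (hx : x ∈ L) {i : I}
    (hW : cj x (W i) = W i) (hc : cj x (c i) ≠ c i) : False := by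
  have h1 : closure gen ≤ normalizer ((⨆ i, c i : Subgroup G) : Set G) := by
    rw [closure_le]
    intro g hg'
    have : cj g (⨆ i, c i) = ⨆ i, c i := by
      rcases hg g hg' with ⟨h2, h3⟩ | h2
      · exact D.norm h2 h3
      · exact h2
    exact mem_normalizer_iff_cj.2 this
  have h2 : cj x (⨆ i, c i) = ⨆ i, c i := mem_normalizer_iff_cj.1 (h1 (hL hx))
  apply hc
  rw [← D.inf_eq i, cj_inf, h2, hW]

end Sys

end Cfsg.Agent.Omega.OM.Lev.Low.TorusK.EndK
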