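import Cfsg.Agent.Omega.OM.Lev.Low.TorusK.SigN4
import Cfsg.Agent.Omega.OM.Lev.Low.TorusK.EndK

/-!
# TORUS, `k ≥ 3` (helper607 #23961): the last page, abstract form

`K m` acts on `F m` (order `16`) as `SL₂(4)`, `W m` a line of `F m`, `B0` the common root group. `R m ⊴ K m`,
`K m = R m (K m ∩ B0)` centralises `F l`, `l ≠ m`.

* `Dt` : the data;
* `Dt.inf_cen` : `C_(F m)(R m) = 1`; `comm`, `dir` : the `F m` form a direct product; `zn` : `z` has full support;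
* `Dt.perm` : `L = ⟨K i0, S⟩` permutes the pairs `(F m, lines)`  (uses (Sig));
* `Dt.false` : **contradiction**.
-/

set_option autoImplicit false
set_option linter.unusedSectionVars false
set_option linter.unusedVariables false

namespace Cfsg.Agent.Omega.OM.Lev.Low.TorusK.EndD

open Subgroup Cfsg Cfsg.Agent.ZN Cfsg.Agent.ZN.ChoiceBase
open Cfsg.Agent.Omega.OM.Lev.Low.TorusK.Sig (cn cn_cn cn_mul cn_inv cn_one cn_inv_cn cn_cn_inv cn_eq_self cn_inj mem_of_norm)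

universe u

variable {G : Type u} [Group G]

/-- `F` is irreducible. -/
theorem irr [Finite G] {B0 K V V1 : Subgroup G} (h : Sig.M4 B0 K V V1) {l0 : G} (hl0 : l0 ∈ K) (hne : cj l0 V1 ≠ V1)
    {C : Subgroup G} (hCV : C ≤ V) (hK : ∀ k ∈ K, ∀ u ∈ C, cn k u ∈ C) {u : G} (hu : u ∈ C) (hu1 : u ≠ 1) : V ≤ C := by
  have h1 : ∀ v ∈ C, v ∉ V1 → V1 ≤ C := by
    intro v hv hv1 x hx
    obtain ⟨b, hb, e⟩ := h.full (hCV hv) hv1 hx
    have e2 : x = cn b v * v⁻¹ := by rw [e]; group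
    rw [e2]
    exact mul_mem (hK b (h.BK hb) v hv) (inv_mem hv)
  have h2 : V1 ≤ C := by
    by_cases hu2 : u ∈ V1
    · refine h1 (cn l0 u) (hK l0 hl0 u hu) fun h3 => ?_
      exact hu1 (h.opp l0 hl0 hne u hu2 h3)
    · exact h1 u hu hu2
  intro v hv
  obtain ⟨p, hp, q, hq, rfl⟩ := h.compl hl0 hne hv
  obtain ⟨w, hw, rfl⟩ := hq
  exact mul_mem (h2 hp) (hK l0 hl0 w (h2 hw))

/-- The data of the last page. -/
structure Dt {ι : Type*} (S B B0 X : Subgroup G) (K F W R : ι → Subgroup G) (i0 : ι) (z : G) : Prop where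
  two : IsPGroup 2 S
  BS : B ≤ S
  B0B : B0 ≤ B
  SB : S ≤ normalizer (B : Set G)
  SB0 : S ≤ normalizer (B0 : Set G)
  n4 : ∀ m, TorusK.N4 B0 (K m) (F m) (W m)
  FX : ∀ m, F m ⊓ X = W m
  FB0 : ∀ m, F m ≤ B0
  perm : ∀ s ∈ S, ∀ i, ∃ j, cj s (W i) = W j ∧ cj s (F i) = F j
  tr : ∀ m, ∃ s ∈ S, cj s (K i0) = K m ∧ cj s (W i0) = W m
  RK : ∀ m, R m ≤ K m
  KR : ∀ m, K m ≤ normalizer (R m : Set G)
  KRB : ∀ m, K m ≤ R m ⊔ B0
  RF : ∀ m l, l ≠ m → ∀ r ∈ R m, ∀ f ∈ F l, r * f = f * r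
  BW : B ≤ normalizer (W i0 : Set G)
  /-- `B` permutes the lines of `K i0` -/
  BL : ∀ b ∈ B, ∀ k ∈ K i0, ∃ k' ∈ K i0, cj b (cj k (W i0)) = cj k' (W i0)
  fx : ∃ x ∈ W i0, x ≠ 1 ∧ ∀ s ∈ S, s ∈ normalizer (W i0 : Set G) → s * x = x * s
  mv : ∃ t ∈ B, ∃ v ∈ W i0, t * v ≠ v * t
  syl : ∀ s ∈ S, s ∈ normalizer (W i0 : Set G) → ∀ T : Subgroup G, IsPGroup 2 T → B ≤ T →
    T ≤ K i0 ⊔ cj s (K i0) ⊔ B → T ≤ B
  zW : z ∈ ⨆ i, W i
  zn0 : ∀ i, z ∉ ⨆ (l) (_ : l ≠ i), W l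
  fact : ∀ H : Subgroup G, S ≤ H → (∃ U : Subgroup G, U ≠ ⊥ ∧ IsPGroup 2 U ∧ H ≤ normalizer (U : Set G)) →
    H ≤ (H ⊓ normalizer (X : Set G)) ⊔ (H ⊓ centralizer ({z} : Set G))

namespace Dt

variable {ι : Type*} {S B B0 X : Subgroup G} {K F W R : ι → Subgroup G} {i0 : ι} {z : G}
  (D : Dt S B B0 X K F W R i0 z)
include D

theorem m4 (m : ι) : Sig.M4 B0 (K m) (F m) (W m) := (SigN4.toSig (D.n4 m)).toM4

theorem mvK (m : ι) : ∃ l ∈ K m, cj l (W m) ≠ W m := by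
  obtain ⟨l, hl, v, hv, hne⟩ := (D.n4 m).mv
  refine ⟨l, hl, fun e => hne ?_⟩
  rw [← e]
  exact ⟨v, hv, rfl⟩

theorem WF (m : ι) : W m ≤ F m := (D.n4 m).V1V

/-- `C_(F m)(R m) = 1` -/
theorem inf_cen [Finite G] (m : ι) {u : G} (hu : u ∈ F m) (hc : ∀ r ∈ R m, r * u = u * r) : u = 1 := by
  by_contra hu1
  obtain ⟨l, hl, hne⟩ := D.mvK m
  have h1 : F m ≤ F m ⊓ centralizer (R m : Set G) := by
    refine irr (D.m4 m) hl hne inf_le_left ?_ (mem_inf.2 ⟨hu, mem_centralizer_iff.2 hc⟩) hu1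
    rintro k hk v ⟨hv, hvc⟩
    refine mem_inf.2 ⟨mem_of_norm ((D.n4 m).KV hk) hv, mem_centralizer_iff.2 fun r hr => ?_⟩
    have h2 : k⁻¹ * r * k ∈ R m := by
      have := (mem_normalizer_iff.1 (inv_mem (D.KR m hk)) r).1 hr
      rwa [inv_inv] at this
    have h3 := mem_centralizer_iff.1 hvc _ h2
    show r * (k * v * k⁻¹) = k * v * k⁻¹ * r
    calc r * (k * v * k⁻¹) = k * (k⁻¹ * r * k * v) * k⁻¹ := by group
      _ = k * (v * (k⁻¹ * r * k)) * k⁻¹ := by rw [h3]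
      _ = k * v * k⁻¹ * r := by group
  have h4 : R m ⊔ B0 ≤ centralizer (W m : Set G) := by
    refine sup_le (fun r hr => mem_centralizer_iff.2 fun w hw => ?_) fun b hb => mem_centralizer_iff.2 fun w hw => ?_
    · exact (mem_centralizer_iff.1 (h1 (D.WF m hw)).2 r hr).symm
    · exact ((D.n4 m).c1 b hb w hw).symm
  apply hne
  have h5 := D.KRB m hl
  refine mem_normalizer_iff_cj.1 (centralizer_le_normalizer _ (h4 h5))

theorem comm [Finite G] {i l : ι} (hil : i ≠ l) {u v : G} (hu : u ∈ F i) (hv : v ∈ F l) : u * v = v * u := by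
  have h1 : u * v * u⁻¹ * v⁻¹ ∈ F l :=
    mul_mem (mem_of_norm ((D.n4 l).KV ((D.n4 l).BK (D.FB0 i hu))) hv) (inv_mem hv)
  have h2 : u * v * u⁻¹ * v⁻¹ ∈ F i := by
    have e : u * v * u⁻¹ * v⁻¹ = u * (v * u⁻¹ * v⁻¹) := by group
    rw [e]
    exact mul_mem hu (mem_of_norm ((D.n4 i).KV ((D.n4 i).BK (D.FB0 l hv))) (inv_mem hu))
  have h3 := D.inf_cen i h2 fun r hr => D.RF i l (Ne.symm hil) r hr _ h1
  have h4 : u * v * (v * u)⁻¹ = 1 := by rw [← h3]; group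
  exact mul_inv_eq_one.1 h4

theorem RU (i : ι) : (⨆ (l) (_ : l ≠ i), F l) ≤ centralizer (R i : Set G) :=
  iSup₂_le fun l hl f hf => mem_centralizer_iff.2 fun r hr => D.RF i l hl r hr f hf

theorem dir [Finite G] (i : ι) : F i ⊓ ⨆ (l) (_ : l ≠ i), F l = ⊥ := by
  rw [Subgroup.eq_bot_iff_forall]
  rintro u ⟨hu, hu'⟩
  exact D.inf_cen i hu fun r hr => mem_centralizer_iff.1 (D.RU i hu') r hr

theorem zn [Finite G] (i : ι) : z ∉ ⨆ (l) (_ : l ≠ i), F l := by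
  intro hz
  have h1 : ⨆ i, W i ≤ W i ⊔ ⨆ (l) (_ : l ≠ i), W l := by
    refine iSup_le fun l => ?_
    by_cases e : l = i
    · subst e
      exact le_sup_left
    · exact le_trans (le_iSup₂ (f := fun (l : ι) (_ : l ≠ i) => W l) l e) le_sup_right
  have h2 : (⨆ (l) (_ : l ≠ i), W l) ≤ ⨆ (l) (_ : l ≠ i), F l := iSup₂_mono fun l _ => D.WF l
  have hcm : ∀ p ∈ W i, ∀ q ∈ ⨆ (l) (_ : l ≠ i), W l, p * q = q * p := by
    intro p hp q hq
    have h3 : (⨆ (l) (_ : l ≠ i), W l) ≤ centralizer ({p} : Set G) := iSup₂_le fun l hl w hw => by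
      rw [mem_centralizer_singleton_iff]
      exact (D.comm (Ne.symm hl) (D.WF i hp) (D.WF l hw)).symm
    exact (mem_centralizer_singleton_iff.1 (h3 hq)).symm
  obtain ⟨p, hp, q, hq, e⟩ := EndK.mem_sup_comm hcm (h1 D.zW)
  have hp1 : p = 1 := by
    refine D.inf_cen i (D.WF i hp) fun r hr => ?_
    have e1 := mem_centralizer_iff.1 (D.RU i hz) r hr
    have e2 := mem_centralizer_iff.1 (D.RU i (h2 hq)) r hr
    have e3 : p = z * q⁻¹ := by rw [e]; group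
    rw [e3]
    calc r * (z * q⁻¹) = r * z * q⁻¹ := by group
      _ = z * (r * q⁻¹) := by rw [e1]; group
      _ = z * (q⁻¹ * (q * r) * q⁻¹) := by group
      _ = z * (q⁻¹ * (r * q) * q⁻¹) := by rw [e2]
      _ = z * q⁻¹ * r := by group
  rw [hp1, one_mul] at e
  exact D.zn0 i (e ▸ hq)

/-- the lines of `F i` -/
def Ln (K W : ι → Subgroup G) (i : ι) : Set (Subgroup G) := {ℓ | ∃ k ∈ K i, ℓ = cj k (W i)}

omit D in
/-- `g` maps `(F i, lines)` to `(F j, lines)` -/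
def Pm (K F W : ι → Subgroup G) (i j : ι) (g : G) : Prop :=
  cj g (F i) = F j ∧ ∀ ℓ ∈ Ln K W i, cj g ℓ ∈ Ln K W j

omit D in
theorem Pm.mul {K F W : ι → Subgroup G} {i j l : ι} {g g' : G} (h : Pm K F W j l g) (h' : Pm K F W i j g') :
    Pm K F W i l (g * g') :=
  ⟨by rw [← cj_cj, h'.1, h.1], fun ℓ hℓ => by rw [← cj_cj]; exact h.2 _ (h'.2 ℓ hℓ)⟩

omit D in
theorem Pm.one {K F W : ι → Subgroup G} (i : ι) : Pm K F W i i 1 := ⟨cj_one _, fun ℓ hℓ => by rwa [cj_one]⟩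

/-- (Sig) -/
theorem sig [Finite G] : ∀ s ∈ S, s ∈ normalizer (W i0 : Set G) → ∀ k ∈ K i0, ∃ k' ∈ K i0,
    cj s (cj k (W i0)) = cj k' (W i0) := by
  intro s hs hsW
  obtain ⟨x, hx, hx1, hxc⟩ := D.fx
  obtain ⟨t, ht, hmv⟩ := D.mv
  have hFn : S ⊓ normalizer (W i0 : Set G) ≤ normalizer (F i0 : Set G) := by
    rintro s ⟨hs, hsW⟩
    obtain ⟨j, h1, h2⟩ := D.perm s hs i0
    rw [mem_normalizer_iff_cj.1 hsW] at h1
    have h3 : i0 = j := by
      by_contra hne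
      have h4 : W j ≤ F i0 ⊓ F j := le_inf (h1 ▸ D.WF i0) (D.WF j)
      have h5 : F i0 ⊓ F j ≤ F i0 ⊓ ⨆ (l) (_ : l ≠ i0), F l :=
        inf_le_inf_left _ (le_iSup₂_of_le j (Ne.symm hne) le_rfl)
      rw [D.dir i0] at h5
      have h6 := (D.n4 j).card1
      rw [eq_bot_iff.2 (h4.trans h5), Subgroup.card_bot] at h6
      omega
    rw [← h3] at h2
    exact mem_normalizer_iff_cj.2 h2
  have hBS1 : B ≤ S ⊓ normalizer (W i0 : Set G) := le_inf D.BS D.BW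
  exact SigN4.sig' (D.n4 i0) (D.two.to_le inf_le_left) hBS1 D.B0B (inf_le_left.trans D.SB) (inf_le_left.trans D.SB0) hFn
    inf_le_right D.BL hx hx1 (fun s hs => hxc s hs.1 hs.2) ht hmv (fun s hs => D.syl s hs.1 hs.2) s ⟨hs, hsW⟩

/-- `S` permutes the pairs `(F i, lines)` -/
theorem pmS [Finite G] {s : G} (hs : s ∈ S) (i : ι) : ∃ j, Pm K F W i j s := by
  obtain ⟨j, h1, h2⟩ := D.perm s hs i
  refine ⟨j, h2, ?_⟩
  rintro _ ⟨k, hk, rfl⟩
  obtain ⟨a, ha, ea, ea'⟩ := D.tr i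
  obtain ⟨b, hb, eb, eb'⟩ := D.tr j
  rw [← ea] at hk
  obtain ⟨k0, hk0, rfl⟩ := hk
  change ∃ k ∈ K j, cj s (cj (a * k0 * a⁻¹) (W i)) = cj k (W j)
  have hs' : b⁻¹ * s * a ∈ S := mul_mem (mul_mem (inv_mem hb) hs) ha
  have hs'W : b⁻¹ * s * a ∈ normalizer (W i0 : Set G) := by
    rw [mem_normalizer_iff_cj, mul_assoc, ← cj_cj, ← cj_cj, ea', h1, ← eb', cj_inv_cj]
  obtain ⟨k', hk', e⟩ := D.sig _ hs' hs'W k0 hk0
  refine ⟨b * k' * b⁻¹, ?_, ?_⟩
  · rw [← eb]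
    exact ⟨k', hk', rfl⟩
  · rw [← ea', ← eb', cj_cj, cj_cj, cj_cj]
    have e2 := congrArg (cj b) e
    rw [cj_cj, cj_cj, cj_cj] at e2
    have e3 : s * (a * k0 * a⁻¹) * a = b * (b⁻¹ * s * a) * k0 := by group
    have e4 : b * k' * b⁻¹ * b = b * k' := by group
    rw [e3, e4]
    exact e2

theorem pmK [Finite G] (m i : ι) {g : G} (hg : g ∈ K m) : Pm K F W i i g := by
  let N : Subgroup G :=
    { carrier := {g | Pm K F W i i g ∧ Pm K F W i i g⁻¹}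
      one_mem' := ⟨Pm.one i, by rw [inv_one]; exact Pm.one i⟩
      mul_mem' := by
        rintro g g' ⟨h1, h2⟩ ⟨h3, h4⟩
        exact ⟨h1.mul h3, by rw [mul_inv_rev]; exact h4.mul h2⟩
      inv_mem' := by
        rintro g ⟨h1, h2⟩
        exact ⟨h2, by rwa [inv_inv]⟩ }
  have hKi : ∀ g ∈ K i, Pm K F W i i g := by
    intro g hg
    refine ⟨mem_normalizer_iff_cj.1 ((D.n4 i).KV hg), ?_⟩
    rintro _ ⟨k, hk, rfl⟩
    exact ⟨g * k, mul_mem hg hk, cj_cj _ _ _⟩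
  have hKN : K i ≤ N := fun g hg => ⟨hKi g hg, hKi _ (inv_mem hg)⟩
  by_cases him : i = m
  · subst him
    exact hKi g hg
  · have hR : ∀ r ∈ R m, Pm K F W i i r := by
      intro r hr
      have h1 : ∀ H : Subgroup G, H ≤ F i → cj r H = H := by
        intro H hH
        have h2 : r ∈ centralizer (H : Set G) := mem_centralizer_iff.2 fun h hh => (D.RF m i him r hr h (hH hh)).symm
        exact mem_normalizer_iff_cj.1 (centralizer_le_normalizer _ h2)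
      refine ⟨h1 _ le_rfl, ?_⟩
      rintro _ ⟨k, hk, rfl⟩
      rw [h1 _ ((D.m4 i).lineV hk)]
      exact ⟨k, hk, rfl⟩
    have hRN : R m ≤ N := fun g hg => ⟨hR g hg, hR _ (inv_mem hg)⟩
    have h3 : K m ≤ N := (D.KRB m).trans (sup_le hRN ((D.n4 i).BK.trans hKN))
    exact (h3 hg).1

/-- **`L = ⟨K i0, S⟩` permutes the pairs.** -/
theorem pm [Finite G] {g : G} (hg : g ∈ K i0 ⊔ S) (i : ι) : ∃ j, Pm K F W i j g := by
  let N : Subgroup G :=
    { carrier := {g | (∀ i, ∃ j, Pm K F W i j g) ∧ ∀ i, ∃ j, Pm K F W i j g⁻¹}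
      one_mem' := ⟨fun i => ⟨i, Pm.one i⟩, fun i => ⟨i, by rw [inv_one]; exact Pm.one i⟩⟩
      mul_mem' := by
        rintro g g' ⟨h1, h2⟩ ⟨h3, h4⟩
        refine ⟨fun i => ?_, fun i => ?_⟩
        · obtain ⟨j, hj⟩ := h3 i
          obtain ⟨l, hl⟩ := h1 j
          exact ⟨l, hl.mul hj⟩
        · obtain ⟨j, hj⟩ := h2 i
          obtain ⟨l, hl⟩ := h4 j
          exact ⟨l, by rw [mul_inv_rev]; exact hl.mul hj⟩
      inv_mem' := by
        rintro g ⟨h1, h2⟩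
        exact ⟨h2, by simpa using h1⟩ }
  have h1 : K i0 ⊔ S ≤ N := sup_le (fun g hg => ⟨fun i => ⟨i, D.pmK i0 i hg⟩, fun i => ⟨i, D.pmK i0 i (inv_mem hg)⟩⟩)
    fun g hg => ⟨fun i => D.pmS hg i, fun i => D.pmS (inv_mem hg) i⟩
  exact (h1 hg).1 i

/-- **CONTRADICTION.** -/
theorem false [Finite G] : False := by
  have hSys : EndK.Sys (K i0 ⊔ S) F W (Ln K W) z :=
    { comm := fun i l hil u hu v hv => D.comm hil hu hv
      dir := D.dir
      le := by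
        rintro i _ ⟨k, hk, rfl⟩
        exact (D.m4 i).lineV hk
      mem := fun i => ⟨1, one_mem _, (cj_one _).symm⟩
      spr := by
        rintro i _ ⟨k, hk, rfl⟩ _ ⟨k', hk', rfl⟩ u hu hu' hu1
        exact (D.m4 i).spread hk hk' hu hu' hu1
      perm := fun g hg i => D.pm hg i
      zV := D.zW
      zn := D.zn }
  -- `L` is local
  have hloc : ∃ U : Subgroup G, U ≠ ⊥ ∧ IsPGroup 2 U ∧ K i0 ⊔ S ≤ normalizer (U : Set G) := by
    refine ⟨⨆ i, F i, ?_, ?_, ?_⟩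
    · intro e
      have h1 : F i0 ≤ ⊥ := by rw [← e]; exact le_iSup F i0
      have h2 := (D.n4 i0).card
      rw [eq_bot_iff.2 h1, Subgroup.card_bot] at h2
      omega
    · exact D.two.to_le ((iSup_le D.FB0).trans (D.B0B.trans D.BS))
    · intro g hg
      refine mem_normalizer_of_cj_le ?_
      rw [show cj g (⨆ i, F i) = (⨆ i, F i).map (MulAut.conj g).toMonoidHom from rfl, Subgroup.map_iSup]
      refine iSup_le fun i => ?_
      obtain ⟨j, e, -⟩ := D.pm hg i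
      rw [show (F i).map (MulAut.conj g).toMonoidHom = cj g (F i) from rfl, e]
      exact le_iSup F j
  have hf := D.fact _ le_sup_right hloc
  have hcj : ∀ g ∈ K i0 ⊔ S, g ∈ normalizer (X : Set G) → cj g (⨆ i, W i) ≤ ⨆ i, W i := by
    intro g hg hgX
    rw [show cj g (⨆ i, W i) = (⨆ i, W i).map (MulAut.conj g).toMonoidHom from rfl, Subgroup.map_iSup]
    refine iSup_le fun i => ?_
    obtain ⟨j, e, -⟩ := D.pm hg i
    rw [show (W i).map (MulAut.conj g).toMonoidHom = cj g (W i) from rfl, ← D.FX i, cj_inf, e,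
      mem_normalizer_iff_cj.1 hgX, D.FX j]
    exact le_iSup W j
  obtain ⟨l, hl, hne⟩ := D.mvK i0
  refine hSys.false_of (gen := (((K i0 ⊔ S) ⊓ normalizer (X : Set G) : Subgroup G) : Set G) ∪
    (((K i0 ⊔ S) ⊓ centralizer ({z} : Set G) : Subgroup G) : Set G)) ?_ ?_ (x := l) (le_sup_left (a := K i0) hl) (i := i0)
    (mem_normalizer_iff_cj.1 ((D.n4 i0).KV hl)) hne
  · rw [Subgroup.closure_union, Subgroup.closure_eq, Subgroup.closure_eq]
    exact hf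
  · rintro g (⟨hg, hgX⟩ | ⟨hg, hgz⟩)
    · right
      exact mem_normalizer_iff_cj.1 (mem_normalizer_of_cj_le (hcj g hg hgX))
    · left
      exact ⟨hg, mem_centralizer_singleton_iff.1 hgz⟩

end Dt

end Cfsg.Agent.Omega.OM.Lev.Low.TorusK.EndD
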