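import Cfsg.Agent.Omega.OM.Lev.Low.TorusK.EndD

/-!
# TORUS, `k ≥ 3` (helper607 #23961): the last page over `TK` and `BK`

* `false_of` : for a family `K m` of `S`-conjugate torus blocks over the lines `W m`;
* `false_one` : for one torus block.
-/

set_option autoImplicit false
set_option linter.unusedSectionVars false
set_option linter.unusedVariables false

namespace Cfsg.Agent.Omega.OM.Lev.Low.TorusK.EndTK

open Subgroup Cfsg Cfsg.Agent.ZN Cfsg.Agent.ZN.ChoiceBase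
open Cfsg.Agent.Omega.OM.Lev.Low

universe u

variable {G : Type u} [Group G]

variable {ι : Type} {S B Q V Xn ZJ B0 X M0 Y0 : Subgroup G} {L W Z C A : ι → Subgroup G} {z : G}

theorem W_inj (h : TK S B Q V Xn ZJ B0 X M0 Y0 L W Z C A z) {i j : ι} (e : W i = W j) : i = j := by
  by_contra hne
  have h2 := h.fr.WjC i j hne
  rw [← e] at h2
  have h3 : W i ≤ W i ⊓ C i := le_inf le_rfl h2
  rw [h.fr.dir i] at h3
  have h4 := h.cardW i
  rw [eq_bot_iff.2 h3, Subgroup.card_bot] at h4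
  omega

theorem F_le {l : ι} {K N N1 N0 : Subgroup G} (k : BK B B0 X M0 Y0 W l K N N1 N0) : ⁅N, K⁆ ≤ N := by
  rw [Subgroup.commutator_le]
  intro v hv g hg
  rw [commutatorElement_def]
  have h1 := k.pb.Nn g hg v⁻¹ (inv_mem hv)
  have e : v * g * v⁻¹ * g⁻¹ = v * (g * v⁻¹ * g⁻¹) := by group
  rw [e]
  exact mul_mem hv h1

theorem cj_comm (s : G) (N K : Subgroup G) : cj s ⁅N, K⁆ = ⁅cj s N, cj s K⁆ := Subgroup.map_commutator _ _ _

/-- `z_l`: the elements of `S` which normalise `W l` centralise `Z l`. -/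
theorem fx [Finite G] (h : TK S B Q V Xn ZJ B0 X M0 Y0 L W Z C A z) (i0 : ι) :
    ∃ x ∈ W i0, x ≠ 1 ∧ ∀ s ∈ S, s ∈ normalizer (W i0 : Set G) → s * x = x * s := by
  have h1 : Z i0 ≠ ⊥ := by
    intro e
    have h2 := h.fr.cardZ i0
    rw [e, Subgroup.card_bot] at h2
    omega
  obtain ⟨⟨x, hx⟩, hx1'⟩ := Subgroup.ne_bot_iff_exists_ne_one.1 h1
  have hx1 : x ≠ 1 := fun e => hx1' (Subtype.ext e)
  refine ⟨x, h.ZW i0 hx, hx1, fun s hs hsW => ?_⟩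
  obtain ⟨j, e1, e2, -⟩ := h.perm s hs i0
  rw [mem_normalizer_iff_cj.1 hsW] at e1
  have e3 := W_inj h e1
  rw [← e3] at e2
  have h3 : s * x * s⁻¹ ∈ Z i0 := by
    have : s * x * s⁻¹ ∈ cj s (Z i0) := ⟨x, hx, rfl⟩
    rwa [e2] at this
  have h4 : s * x * s⁻¹ ≠ 1 := by
    intro e
    apply hx1
    calc x = s⁻¹ * (s * x * s⁻¹) * s := by group
      _ = 1 := by rw [e]; group
  exact mul_inv_eq_iff_eq_mul.1 (h.Z_two i0 h3 hx h4 hx1)

theorem BW (h : TK S B Q V Xn ZJ B0 X M0 Y0 L W Z C A z) (i0 : ι) [Finite G] : B ≤ normalizer (W i0 : Set G) := by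
  intro b hb
  refine mem_normalizer_of_cj_le ?_
  rintro _ ⟨w, hw, rfl⟩
  exact (h.fr.blk i0).nV b ((h.fr.blk i0).BL hb) w hw

theorem syl [Finite G] (h : TK S B Q V Xn ZJ B0 X M0 Y0 L W Z C A z) {i0 : ι} {K N N1 N0 : Subgroup G}
    (k : BK B B0 X M0 Y0 W i0 K N N1 N0) : ∀ s ∈ S, s ∈ normalizer (W i0 : Set G) → ∀ T : Subgroup G, IsPGroup 2 T →
      B ≤ T → T ≤ K ⊔ cj s K ⊔ B → T ≤ B := by
  intro s hs hsW T hT hBT hle
  refine h.syl i0 T hT hBT fun p hp => hle.trans ?_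
  have k' := BK.cj h k hs (mem_normalizer_iff_cj.1 hsW)
  refine sup_le (sup_le ?_ ?_) ?_
  · exact fun x hx => mem_centralizer_iff.2 fun w hw => (k.cW p hp w (h.ZW p hw) x hx).symm
  · exact fun x hx => mem_centralizer_iff.2 fun w hw => (k'.cW p hp w (h.ZW p hw) x hx).symm
  · exact fun x hx => mem_centralizer_iff.2 fun w hw => (((h.fr.mem_ZJ w).1 (h.fr.Z_le p hw)).2 x hx).symm

/-- **The last page, for a family of `S`-conjugate blocks** (`B` permutes the lines `(W i0)^k`, `k ∈ K i0`). -/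
theorem false_BL [Finite G] [Finite ι] (h : TK S B Q V Xn ZJ B0 X M0 Y0 L W Z C A z) {i0 : ι}
    {K N N1 N0 : ι → Subgroup G} (bk : ∀ m, BK B B0 X M0 Y0 W m (K m) (N m) (N1 m) (N0 m))
    (n4 : ∀ m, N4 B0 (K m) ⁅N m, K m⁆ (W m)) (FX : ∀ m, ⁅N m, K m⁆ ⊓ X = W m)
    (perm : ∀ s ∈ S, ∀ i j, cj s (W i) = W j → cj s ⁅N i, K i⁆ = ⁅N j, K j⁆)
    (tr : ∀ m, ∃ s ∈ S, cj s (K i0) = K m ∧ cj s (W i0) = W m)
    (theta : ∀ m, ∃ R ≤ K m, K m ≤ normalizer (R : Set G) ∧ K m ≤ R ⊔ B0 ∧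
      ∀ l, l ≠ m → R ≤ centralizer ((⁅N l, K l⁆ : Subgroup G) : Set G))
    (BL : ∀ b ∈ B, ∀ k ∈ K i0, ∃ k' ∈ K i0, cj b (cj k (W i0)) = cj k' (W i0)) : False := by
  choose R hRK hKR hKRB hRF using theta
  have D : EndD.Dt S B B0 X K (fun m => ⁅N m, K m⁆) W R i0 z :=
    { two := h.two
      BS := h.BS
      B0B := h.B0B
      SB := h.SB
      SB0 := h.SB0
      n4 := n4
      FX := FX
      FB0 := fun m => (F_le (bk m)).trans (bk m).pb.NB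
      perm := fun s hs i => by
        obtain ⟨j, e, -, -⟩ := h.perm s hs i
        exact ⟨j, e, perm s hs i j e⟩
      tr := tr
      RK := hRK
      KR := hKR
      KRB := hKRB
      RF := fun m l hl r hr f hf => (mem_centralizer_iff.1 (hRF m l hl hr) f hf).symm
      BW := BW h i0
      BL := BL
      fx := fx h i0
      mv := by
        obtain ⟨t, ht, -, w, hw, hne⟩ := h.exists_t i0
        exact ⟨t, ht, w, hw, hne⟩
      syl := syl h (bk i0)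
      zW := zj_le h.fr (fun i => (h.ZW i).trans (le_iSup W i)) h.zJ
      zn0 := fun i hi => h.zC i ((iSup₂_le fun l hl => h.fr.WjC i l (Ne.symm hl) : (⨆ (l) (_ : l ≠ i), W l) ≤ C i) hi)
      fact := h.fact }
  exact D.false

/-- **The last page, for a family of `S`-conjugate blocks.** -/
theorem false_of [Finite G] [Finite ι] (h : TK S B Q V Xn ZJ B0 X M0 Y0 L W Z C A z) {i0 : ι}
    {K N N1 N0 : ι → Subgroup G} (bk : ∀ m, BK B B0 X M0 Y0 W m (K m) (N m) (N1 m) (N0 m))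
    (n4 : ∀ m, N4 B0 (K m) ⁅N m, K m⁆ (W m)) (FX : ∀ m, ⁅N m, K m⁆ ⊓ X = W m)
    (perm : ∀ s ∈ S, ∀ i j, cj s (W i) = W j → cj s ⁅N i, K i⁆ = ⁅N j, K j⁆)
    (tr : ∀ m, ∃ s ∈ S, cj s (K i0) = K m ∧ cj s (W i0) = W m)
    (theta : ∀ m, ∃ R ≤ K m, K m ≤ normalizer (R : Set G) ∧ K m ≤ R ⊔ B0 ∧
      ∀ l, l ≠ m → R ≤ centralizer ((⁅N l, K l⁆ : Subgroup G) : Set G))
    (hBN : ∀ b ∈ B, ∀ g ∈ K i0, ∃ g' ∈ K i0, cj b (cj g (N1 i0)) = cj g' (N1 i0)) : False := by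
  have hSF : ∀ b ∈ B, cj b ⁅N i0, K i0⁆ = ⁅N i0, K i0⁆ := fun b hb =>
    perm b (h.BS hb) i0 i0 (mem_normalizer_iff_cj.1 (BW h i0 hb))
  have hN1X : N1 i0 ≤ X := by
    rw [← h.zB]
    intro v hv
    have hvN := (bk i0).pb.N1N hv
    exact mem_zc.2 ⟨(bk i0).pb.NB hvN, SQ1.Bau.elem_sq (bk i0).pb.el v hvN, fun b hb => (bk i0).pb.N1c b hb v hv⟩
  have hFN1 : ⁅N i0, K i0⁆ ⊓ N1 i0 = W i0 := by
    refine le_antisymm ?_ (le_inf (n4 i0).V1V (bk i0).WN)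
    rw [← FX i0]
    exact inf_le_inf_left _ hN1X
  have hFg : ∀ g ∈ K i0, cj g (W i0) = ⁅N i0, K i0⁆ ⊓ cj g (N1 i0) := by
    intro g hg
    rw [← hFN1, cj_inf, mem_normalizer_iff_cj.1 ((n4 i0).KV hg)]
  refine false_BL h bk n4 FX perm tr theta ?_
  intro b hb k hk
  obtain ⟨k', hk', e⟩ := hBN b hb k hk
  refine ⟨k', hk', ?_⟩
  rw [hFg k hk, cj_inf, hSF b hb, e, ← hFg k' hk']

/-- **The last page, for one torus block.** -/
theorem false_one [Finite G] [Finite ι] (h : TK S B Q V Xn ZJ B0 X M0 Y0 L W Z C A z) {i0 : ι}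
    {K N N1 N0 : Subgroup G} (k : BK B B0 X M0 Y0 W i0 K N N1 N0)
    (n4 : ∀ l (K N N1 N0 : Subgroup G), BK B B0 X M0 Y0 W l K N N1 N0 → N4 B0 K ⁅N, K⁆ (W l))
    (FX : ∀ l (K N N1 N0 : Subgroup G), BK B B0 X M0 Y0 W l K N N1 N0 → ⁅N, K⁆ ⊓ X = W l)
    (chi : ∀ l (K N N1 N0 K' N' N1' N0' : Subgroup G), BK B B0 X M0 Y0 W l K N N1 N0 →
      BK B B0 X M0 Y0 W l K' N' N1' N0' → ⁅N, K⁆ = ⁅N', K'⁆)
    (theta : ∀ K N N1 N0 : ι → Subgroup G, (∀ m, BK B B0 X M0 Y0 W m (K m) (N m) (N1 m) (N0 m)) → ∀ m,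
      ∃ R ≤ K m, K m ≤ normalizer (R : Set G) ∧ K m ≤ R ⊔ B0 ∧
        ∀ l, l ≠ m → R ≤ centralizer ((⁅N l, K l⁆ : Subgroup G) : Set G))
    (hBN : ∀ b ∈ B, ∀ g ∈ K, ∃ g' ∈ K, cj b (cj g N1) = cj g' N1) : False := by
  classical
  have htr : ∀ m, ∃ s ∈ S, cj s (W i0) = W m ∧ (m = i0 → s = 1) := by
    intro m
    by_cases e : m = i0
    · subst e
      exact ⟨1, one_mem _, cj_one _, fun _ => rfl⟩
    · obtain ⟨s, hs, e'⟩ := h.tr i0 m
      exact ⟨s, hs, e', fun e'' => absurd e'' e⟩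
  choose s hs hsW hs1 using htr
  have hs0 : s i0 = 1 := hs1 i0 rfl
  have bk : ∀ m, BK B B0 X M0 Y0 W m (cj (s m) K) (cj (s m) N) (cj (s m) N1) (cj (s m) N0) := fun m =>
    BK.cj h k (hs m) (hsW m)
  refine false_of h (i0 := i0) bk (fun m => n4 m _ _ _ _ (bk m)) (fun m => FX m _ _ _ _ (bk m)) ?_ ?_
    (theta _ _ _ _ bk) ?_
  · intro t ht i j e
    rw [cj_comm]
    exact chi j _ _ _ _ _ _ _ _ (BK.cj h (bk i) ht e) (bk j)
  · intro m
    refine ⟨s m, hs m, ?_, hsW m⟩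
    rw [hs0, cj_one]
  · rw [hs0, cj_one, cj_one]
    exact hBN

end Cfsg.Agent.Omega.OM.Lev.Low.TorusK.EndTK
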