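import Cfsg.Agent.Omega.OM.Lev.Low.Five

/-!
# TORUS, `k ≥ 4`: the pair lemma

Two blocks `(K₁, W₁)`, `(K₂, W₂)` over `(B, X)` in a common abelian group `U = ⟨X, W₁, W₂⟩^⟨K₁,K₂⟩`; `K₁` centralises
the line `W₂ ∩ X` of `K₂`.

* `PairD` : the situation;
* `main` : **`K₁` normalises `W₁ W₂ X`.**
-/

set_option autoImplicit false
set_option linter.unusedSectionVars false

namespace Cfsg.Agent.Omega.OM.Lev.Low.TorusK

open Subgroup Cfsg Cfsg.Agent.ZN Cfsg.Agent.ZN.ChoiceBase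
open Cfsg.Agent.Omega.SQ1.Bau (mem_sup_comm Mv)
open Cfsg.Agent.Omega.NO3b.FPB.Base (cW mem_cW cW_le)
open Cfsg.Agent.Omega.NO3S.Level.Claim (Fm Bl cB mem_cB cB_le BB)
open Cfsg.Agent.Omega.NO3S.ThmB (Fam Fr DM K1 KK card_inf_relIndex relIndex_cj le_normalizer_centralizer norm_sSup
  cj_le_cj_iff mem_cj_of exists_of_mem_cj comm_le mem_comm)

universe u

variable {G : Type u} [Group G]

section one

variable {S U H B X L V : Subgroup G} {AA : Set (Subgroup G)}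

theorem DM_conj {A : Subgroup G} (hA : A ∈ DM U AA) {g : G} (hg : g ∈ normalizer (U : Set G))
    (hA' : cj g A ∈ AA) : cj g A ∈ DM U AA := by
  have e : cj g (centralizer (U : Set G)) = centralizer (U : Set G) := by
    rw [cj_centralizer, cj_eq_of_mem_normalizer hg]
  refine ⟨hA', fun h => hA.2.1 ?_, fun B hB hB' => ?_⟩
  · rw [← e] at h
    exact cj_le_cj_iff.1 h
  · have h1 := hA.2.2 B hB hB'
    have h2 := relIndex_cj (A := A) (C := centralizer (U : Set G)) g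
    rw [e] at h2
    rwa [h2]

theorem DM_K (f : Fm S U H B X AA) (k : Bl S U H B X AA L V) {A : Subgroup G} (hA : A ∈ DM U AA)
    (hc : A ≤ centralizer (V : Set G)) {h : G} (hh : h ∈ L) : cj h A ∈ DM U AA :=
  DM_conj hA (k.LY hh) (k.conj_mem f hA.1 (le_inf (f.le A hA.1) hc) hh)

/-- A smallest member of `AA` which moves `V`. -/
theorem inf_le' [Finite G] (f : Fm S U H B X AA) (k : Bl S U H B X AA L V) {A : Subgroup G} (hA : Fr V (DM U AA) A) :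
    A ⊓ cB B V ≤ centralizer (U : Set G) := by
  have hn : ¬ A ≤ cB B V := fun h => hA.2 (h.trans inf_le_right)
  obtain ⟨-, -, -, h4⟩ := k.order f k.VY le_rfl hA.1.1 hn
  have hE := f.cutW le_rfl hA.1.1 h4
  by_contra hc
  have h5 := hA.1.2.2 _ hE hc
  have e1 := card_inf_relIndex (A := A) (C := centralizer (U : Set G))
  have e2 := card_inf_relIndex (A := A ⊓ cB B V) (C := centralizer (U : Set G))
  have e3 : A ⊓ cB B V ⊓ centralizer (U : Set G) = A ⊓ centralizer (U : Set G) :=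
    le_antisymm (inf_le_inf_right _ inf_le_left) (le_inf h4.2.1 inf_le_right)
  rw [e3] at e2
  have h6 : Nat.card A ≤ Nat.card ↥(A ⊓ cB B V) := by
    rw [← e1, ← e2]
    exact Nat.mul_le_mul_right _ h5
  exact hn (inf_eq_left.1 (eq_of_le_of_card_ge inf_le_left h6))

/-- `U = V C_U(A)` -/
theorem full [Finite G] (f : Fm S U H B X AA) (k : Bl S U H B X AA L V) {A : Subgroup G} (hA : Fr V (DM U AA) A) {u : G}
    (hu : u ∈ U) : ∃ v ∈ V, ∃ c ∈ U, (∀ a ∈ A, a * c = c * a) ∧ u = v * c := by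
  have hn : ¬ A ≤ cB B V := fun h => hA.2 (h.trans inf_le_right)
  obtain ⟨-, -, h3, -⟩ := k.order f k.VY le_rfl hA.1.1 hn
  have h1 : u ∈ V ⊔ cW U A := by
    rw [← h3]
    refine mem_cW.2 ⟨hu, fun e he => ?_⟩
    exact (mem_centralizer_iff.1 (inf_le' f k hA he) u hu).symm
  obtain ⟨v, hv, c, hc, rfl⟩ := mem_sup_comm
    (fun a ha b hb => f.Yc a (k.VY ha) b (cW_le U A hb)) h1
  exact ⟨v, hv, c, cW_le U A hc, (mem_cW.1 hc).2, rfl⟩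

/-- `B = A C_B(V)`. -/
theorem dec [Finite G] (f : Fm S U H B X AA) (k : Bl S U H B X AA L V) {A : Subgroup G} (hA : Fr V (DM U AA) A) {b : G}
    (hb : b ∈ B) : ∃ a ∈ A, ∃ p ∈ cB B V, b = a * p :=
  (k.order f k.VY le_rfl hA.1.1 fun h => hA.2 (h.trans inf_le_right)).2.1 b hb

/-- `[U, A] ≤ [V, A] ≤ V ∩ X` -/
theorem comm_U [Finite G] (f : Fm S U H B X AA) (k : Bl S U H B X AA L V) {A : Subgroup G} (hA : Fr V (DM U AA) A)
    {u a : G} (hu : u ∈ U) (ha : a ∈ A) : a * u * a⁻¹ * u⁻¹ ∈ V ⊓ X := by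
  obtain ⟨v, hv, c, hc, h1, rfl⟩ := full f k hA hu
  have haB : a ∈ B := f.le A hA.1.1 ha
  have e : a * (v * c) * a⁻¹ * (v * c)⁻¹ = a * v * a⁻¹ * v⁻¹ := by
    have h2 := h1 a ha
    calc a * (v * c) * a⁻¹ * (v * c)⁻¹ = a * v * (c * a⁻¹) * c⁻¹ * v⁻¹ := by group
      _ = a * v * (a⁻¹ * c) * c⁻¹ * v⁻¹ := by
          congr 3
          have : a * c * a⁻¹ = c := by rw [h2]; group
          calc c * a⁻¹ = a⁻¹ * (a * c * a⁻¹) := by group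
            _ = a⁻¹ * c := by rw [this]
      _ = _ := by group
  rw [e]
  exact mem_inf.2 ⟨mul_mem ((mem_normalizer_iff.1 (k.LV (k.BL haB)) v).1 hv) (inv_mem hv), k.quad a haB v hv⟩

/-- A subgroup over `B` which contains `cj x A`, `x ∈ L` moving the line, contains `L`. -/
theorem le_of [Finite G] (f : Fm S U H B X AA) (k : Bl S U H B X AA L V) {A : Subgroup G} (hA : Fr V (DM U AA) A)
    {N : Subgroup G} (hB : B ≤ N) (hAN : ∀ x ∈ L, cj x A ≤ N) : L ≤ N := by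
  obtain ⟨x, hx, hm⟩ := k.ne
  refine k.gen x hx hm N hB ?_
  rintro _ ⟨b, hb, rfl⟩
  obtain ⟨a, ha, p, hp, rfl⟩ := dec f k hA hb
  rw [map_mul]
  refine mul_mem (hAN x hx ⟨a, ha, rfl⟩) (hB (cB_le B V ?_))
  exact (mem_normalizer_iff.1 (k.LP hx) p).1 hp

end one

theorem comm_cj {a k c : G} (hc : a * (k⁻¹ * c * k) = k⁻¹ * c * k * a) : k * a * k⁻¹ * c = c * (k * a * k⁻¹) := by
  calc k * a * k⁻¹ * c = k * (a * (k⁻¹ * c * k)) * k⁻¹ := by group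
    _ = k * (k⁻¹ * c * k * a) * k⁻¹ := by rw [hc]
    _ = c * (k * a * k⁻¹) := by group

theorem word_y {d g u γ δ ε : G} (hγ : γ = g⁻¹ * u * g * u⁻¹) (hδ : δ = d⁻¹ * u * d * u⁻¹) (hε : ε = g * δ * g⁻¹)
    (gγ : g * γ = γ * g) (dγ : d * γ = γ * d) (dδ : d * δ = δ * d) (dε : d * ε = ε * d) (cγε : Commute γ ε) :
    (d * g * d⁻¹ * g⁻¹) * u * (d * g * d⁻¹ * g⁻¹)⁻¹ * u⁻¹ = ε * δ⁻¹ := by
  have gγ' : Commute g γ := gγ
  have dγ' : Commute d γ := dγ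
  have dδ' : Commute d δ := dδ
  have dε' : Commute d ε := dε
  have e1 : g⁻¹ * u * g = γ * u := by rw [hγ]; group
  have e2 : d⁻¹ * u * d = δ * u := by rw [hδ]; group
  have e3 : g * u * g⁻¹ = γ⁻¹ * u := by
    have h1 : u = g * (γ * u) * g⁻¹ := by rw [← e1]; group
    have h2 : u = γ * (g * u * g⁻¹) := by
      calc u = g * (γ * u) * g⁻¹ := h1
        _ = (g * γ) * u * g⁻¹ := by group
        _ = (γ * g) * u * g⁻¹ := by rw [gγ]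
        _ = _ := by group
    calc g * u * g⁻¹ = γ⁻¹ * (γ * (g * u * g⁻¹)) := by group
      _ = γ⁻¹ * u := by rw [← h2]
  have e4 : d * u * d⁻¹ = δ⁻¹ * u := by
    have h1 : u = d * (δ * u) * d⁻¹ := by rw [← e2]; group
    have h2 : u = δ * (d * u * d⁻¹) := by
      calc u = d * (δ * u) * d⁻¹ := h1
        _ = (d * δ) * u * d⁻¹ := by group
        _ = (δ * d) * u * d⁻¹ := by rw [dδ]
        _ = _ := by group
    calc d * u * d⁻¹ = δ⁻¹ * (δ * (d * u * d⁻¹)) := by group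
      _ = δ⁻¹ * u := by rw [← h2]
  have f1 : d⁻¹ * γ * d = γ := by
    rw [mul_assoc, ← dγ]; group
  have f2 : g * γ * g⁻¹ = γ := by rw [gγ]; group
  have f3 : d * ε * d⁻¹ = ε := by rw [dε]; group
  calc (d * g * d⁻¹ * g⁻¹) * u * (d * g * d⁻¹ * g⁻¹)⁻¹ * u⁻¹
      = d * (g * (d⁻¹ * (g⁻¹ * u * g) * d) * g⁻¹) * d⁻¹ * u⁻¹ := by group
    _ = d * (g * (d⁻¹ * (γ * u) * d) * g⁻¹) * d⁻¹ * u⁻¹ := by rw [e1]
    _ = d * (g * ((d⁻¹ * γ * d) * (d⁻¹ * u * d)) * g⁻¹) * d⁻¹ * u⁻¹ := by group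
    _ = d * (g * (γ * (δ * u)) * g⁻¹) * d⁻¹ * u⁻¹ := by rw [f1, e2]
    _ = d * ((g * γ * g⁻¹) * (g * δ * g⁻¹) * (g * u * g⁻¹)) * d⁻¹ * u⁻¹ := by group
    _ = d * (γ * ε * (γ⁻¹ * u)) * d⁻¹ * u⁻¹ := by rw [f2, ← hε, e3]
    _ = d * (ε * u) * d⁻¹ * u⁻¹ := by
        have : γ * ε * (γ⁻¹ * u) = ε * u := by
          rw [cγε.eq]; group
        rw [this]
    _ = (d * ε * d⁻¹) * (d * u * d⁻¹) * u⁻¹ := by group
    _ = ε * (δ⁻¹ * u) * u⁻¹ := by rw [f3, e4]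
    _ = ε * δ⁻¹ := by group

/-- **The pair.** -/
structure PairD (S U H B X : Subgroup G) (AA : Set (Subgroup G)) (K₁ W₁ K₂ W₂ : Subgroup G) : Prop where
  fm : Fm S U H B X AA
  k₁ : Bl S U H B X AA K₁ W₁
  k₂ : Bl S U H B X AA K₂ W₂
  cen : ∀ x ∈ K₁, ∀ v ∈ W₂ ⊓ X, x * v = v * x
  gen : ∀ C : Subgroup G, X ≤ C → W₁ ≤ C → W₂ ≤ C → K₁ ≤ normalizer (C : Set G) → K₂ ≤ normalizer (C : Set G) →
    U ≤ C

namespace PairD

variable {S U H B X K₁ W₁ K₂ W₂ : Subgroup G} {AA : Set (Subgroup G)} (h : PairD S U H B X AA K₁ W₁ K₂ W₂)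

include h

theorem exists_some [Finite G] : (∃ A, Fr W₁ (DM U AA) A) ∨ ∃ A, Fr W₂ (DM U AA) A := by
  by_contra h0
  push Not at h0
  obtain ⟨h1, h2⟩ := h0
  have c1 : ∀ A ∈ DM U AA, A ≤ centralizer (W₁ : Set G) := fun A hA => by
    by_contra hc
    exact h1 A ⟨hA, hc⟩
  have c2 : ∀ A ∈ DM U AA, A ≤ centralizer (W₂ : Set G) := fun A hA => by
    by_contra hc
    exact h2 A ⟨hA, hc⟩
  obtain ⟨A, hA⟩ : ∃ A, A ∈ DM U AA := by
    obtain ⟨A1, hA1, hA1'⟩ := h.k₁.off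
    have hn : ¬ A1 ≤ centralizer (U : Set G) := fun h' => hA1' (le_inf (h.fm.le A1 hA1)
      (h'.trans (centralizer_le h.k₁.VY)))
    have h1 : ∃ n, ∃ A ∈ AA, ¬ A ≤ centralizer (U : Set G) ∧ (centralizer (U : Set G)).relIndex A = n :=
      ⟨_, A1, hA1, hn, rfl⟩
    classical
    obtain ⟨A, hA, hA', hn⟩ := Nat.find_spec h1
    refine ⟨A, hA, hA', fun B hB hB' => ?_⟩
    rw [hn]
    exact Nat.find_min' h1 ⟨B, hB, hB', rfl⟩
  refine hA.2.1 ?_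
  have h1 : U ≤ centralizer ((sSup (DM U AA) : Subgroup G) : Set G) := by
    refine h.gen _ ?_ ?_ ?_ ?_ ?_
    · rw [le_centralizer_iff]
      refine sSup_le fun A hA a ha => mem_centralizer_iff.2 fun x hx => ?_
      exact (h.fm.BZ a (h.fm.le A hA.1 ha) x hx).symm
    · rw [le_centralizer_iff]
      exact sSup_le fun B hB => c1 B hB
    · rw [le_centralizer_iff]
      exact sSup_le fun B hB => c2 B hB
    · exact le_normalizer_centralizer (norm_sSup fun B hB g hg => DM_K h.fm h.k₁ hB (c1 B hB) hg)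
    · exact le_normalizer_centralizer (norm_sSup fun B hB g hg => DM_K h.fm h.k₂ hB (c2 B hB) hg)
  exact (le_sSup hA).trans (le_centralizer_iff.1 h1)

/-- `C = W₁ W₂ X` -/
theorem le_U : W₁ ⊔ W₂ ⊔ X ≤ U := sup_le (sup_le h.k₁.VY h.k₂.VY) h.fm.ZY

theorem B_norm [Finite G] : B ≤ normalizer ((W₁ ⊔ W₂ ⊔ X : Subgroup G) : Set G) := by
  intro b hb
  refine mem_normalizer_of_cj_le ?_
  rw [cj_le_iff]
  refine sup_le (sup_le ?_ ?_) ?_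
  · rw [← cj_le_iff, cj_eq_of_mem_normalizer (h.k₁.LV (h.k₁.BL hb))]
    exact le_sup_left.trans le_sup_left
  · rw [← cj_le_iff, cj_eq_of_mem_normalizer (h.k₂.LV (h.k₂.BL hb))]
    exact le_sup_right.trans le_sup_left
  · rw [← cj_le_iff]
    rintro _ ⟨x, hx, rfl⟩
    have h1 := h.fm.BZ b hb x hx
    have e : (MulAut.conj b).toMonoidHom x = x := by
      change b * x * b⁻¹ = x
      rw [h1]; group
    rw [e]
    exact mem_sup_right hx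

omit h in
theorem norm_of_comm [Finite G] {C : Subgroup G} {g : G} (hg : ∀ y ∈ C, g * y * g⁻¹ * y⁻¹ ∈ C) :
    g ∈ normalizer (C : Set G) := by
  refine mem_normalizer_of_cj_le ?_
  rintro _ ⟨y, hy, rfl⟩
  have h1 := mul_mem (hg y hy) hy
  rwa [inv_mul_cancel_right] at h1

/-- case (1) -/
theorem case_one [Finite G] {A : Subgroup G} (hA : Fr W₁ (DM U AA) A) :
    K₁ ≤ normalizer ((W₁ ⊔ W₂ ⊔ X : Subgroup G) : Set G) := by
  refine le_of h.fm h.k₁ hA h.B_norm ?_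
  rintro x hx _ ⟨a, ha, rfl⟩
  refine norm_of_comm fun y hy => ?_
  change x * a * x⁻¹ * y * (x * a * x⁻¹)⁻¹ * y⁻¹ ∈ _
  have hy' : x⁻¹ * y * x ∈ U := by
    have := (mem_normalizer_iff.1 (h.k₁.LY (inv_mem hx)) y).1 (h.le_U hy)
    rwa [inv_inv] at this
  have h1 := (comm_U h.fm h.k₁ hA hy' ha).1
  have h2 := (mem_normalizer_iff.1 (h.k₁.LV hx) _).1 h1
  have e : x * (a * (x⁻¹ * y * x) * a⁻¹ * (x⁻¹ * y * x)⁻¹) * x⁻¹ = x * a * x⁻¹ * y * (x * a * x⁻¹)⁻¹ * y⁻¹ := by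
    group
  rw [e] at h2
  exact mem_sup_left (mem_sup_left h2)

/-- case (2): a subgroup `C` of `U` over `W₂` normalised by `K₁` is normalised by `K₂`. -/
theorem K₂_norm [Finite G] {A : Subgroup G} (hA : Fr W₂ (DM U AA) A) {C : Subgroup G} (hCU : C ≤ U) (hC : W₂ ≤ C)
    (hn : K₁ ≤ normalizer (C : Set G)) : K₂ ≤ normalizer (C : Set G) := by
  refine le_of h.fm h.k₂ hA (h.k₁.BL.trans hn) ?_
  rintro x hx _ ⟨a, ha, rfl⟩
  refine norm_of_comm fun y hy => ?_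
  change x * a * x⁻¹ * y * (x * a * x⁻¹)⁻¹ * y⁻¹ ∈ _
  have hy' : x⁻¹ * y * x ∈ U := by
    have := (mem_normalizer_iff.1 (h.k₂.LY (inv_mem hx)) y).1 (hCU hy)
    rwa [inv_inv] at this
  have h1 := (comm_U h.fm h.k₂ hA hy' ha).1
  have h2 := (mem_normalizer_iff.1 (h.k₂.LV hx) _).1 h1
  have e : x * (a * (x⁻¹ * y * x) * a⁻¹ * (x⁻¹ * y * x)⁻¹) * x⁻¹ = x * a * x⁻¹ * y * (x * a * x⁻¹)⁻¹ * y⁻¹ := by
    group
  rw [e] at h2
  exact hC h2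

theorem top_of [Finite G] {A : Subgroup G} (hA : Fr W₂ (DM U AA) A) {C : Subgroup G} (hCU : C ≤ U) (hX : X ≤ C)
    (h1 : W₁ ≤ C) (h2 : W₂ ≤ C) (hn : K₁ ≤ normalizer (C : Set G)) : U ≤ C :=
  h.gen C hX h1 h2 hn (h.K₂_norm hA hCU h2 hn)

/-- `[U, C_B(W₁)] ≤ W₂ ∩ X` -/
theorem comm_E [Finite G] {A : Subgroup G} (hA : Fr W₂ (DM U AA) A) :
    ∀ u ∈ U, ∀ e ∈ cB B W₁, e * u * e⁻¹ * u⁻¹ ∈ W₂ ⊓ X := by
  have hc : ∀ a ∈ U, ∀ b ∈ W₂ ⊓ X, a * b = b * a := fun a ha b hb =>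
    h.fm.Yc a ha b (h.k₂.VY hb.1)
  let C : Subgroup G :=
    { carrier := {u | u ∈ U ∧ ∀ e ∈ cB B W₁, e * u * e⁻¹ * u⁻¹ ∈ W₂ ⊓ X}
      one_mem' := ⟨one_mem _, fun e _ => by simp⟩
      mul_mem' := by
        rintro a b ⟨ha, ha'⟩ ⟨hb, hb'⟩
        refine ⟨mul_mem ha hb, fun e he => ?_⟩
        have e1 : e * (a * b) * e⁻¹ * (a * b)⁻¹ = e * a * e⁻¹ * ((e * b * e⁻¹ * b⁻¹) * a⁻¹) := by group
        rw [e1, ← hc _ (inv_mem ha) _ (hb' e he), ← mul_assoc]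
        exact mul_mem (ha' e he) (hb' e he)
      inv_mem' := by
        rintro a ⟨ha, ha'⟩
        refine ⟨inv_mem ha, fun e he => ?_⟩
        have e1 : e * a⁻¹ * e⁻¹ * a⁻¹⁻¹ = a⁻¹ * ((e * a * e⁻¹ * a⁻¹)⁻¹ * a) := by group
        rw [e1, ← hc _ ha _ (inv_mem (ha' e he)), inv_mul_cancel_left]
        exact inv_mem (ha' e he) }
  have hC : ∀ u, u ∈ C ↔ u ∈ U ∧ ∀ e ∈ cB B W₁, e * u * e⁻¹ * u⁻¹ ∈ W₂ ⊓ X := fun u => Iff.rfl
  have h0 : U ≤ C := by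
    refine h.top_of hA (fun u hu => hu.1) ?_ ?_ ?_ ?_
    · intro x hx
      refine (hC x).2 ⟨h.fm.ZY hx, fun e he => ?_⟩
      have e1 : e * x * e⁻¹ * x⁻¹ = 1 := by
        rw [h.fm.BZ e (cB_le B W₁ he) x hx]; group
      rw [e1]; exact one_mem _
    · intro x hx
      refine (hC x).2 ⟨h.k₁.VY hx, fun e he => ?_⟩
      have e1 : e * x * e⁻¹ * x⁻¹ = 1 := by
        rw [(mem_cB.1 he).2 x hx]; group
      rw [e1]; exact one_mem _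
    · intro x hx
      refine (hC x).2 ⟨h.k₂.VY hx, fun e he => ?_⟩
      have he' := cB_le B W₁ he
      exact mem_inf.2 ⟨mul_mem ((mem_normalizer_iff.1 (h.k₂.LV (h.k₂.BL he')) x).1 hx) (inv_mem hx),
        h.k₂.quad e he' x hx⟩
    · intro y hy
      refine mem_normalizer_of_cj_le ?_
      rintro _ ⟨u, hu, rfl⟩
      change y * u * y⁻¹ ∈ C
      refine (hC _).2 ⟨(mem_normalizer_iff.1 (h.k₁.LY hy) u).1 hu.1, fun e he => ?_⟩
      have he' : y⁻¹ * e * y ∈ cB B W₁ := by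
        have := (mem_normalizer_iff.1 (h.k₁.LP (inv_mem hy)) e).1 he
        rwa [inv_inv] at this
      have h1 := hu.2 _ he'
      have h2 := h.cen y hy _ h1
      have e1 : e * (y * u * y⁻¹) * e⁻¹ * (y * u * y⁻¹)⁻¹ =
          y * (y⁻¹ * e * y * u * (y⁻¹ * e * y)⁻¹ * u⁻¹) * y⁻¹ := by group
      rw [e1, h2, mul_inv_cancel_right]
      exact h1
  exact fun u hu => (h0 hu).2

/-- The commutator `[d, g]` on `U`. -/
theorem calc_y [Finite G] {A : Subgroup G} (hA : Fr W₂ (DM U AA) A) {d : G} (hd : d ∈ cB B W₁)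
    (hd2 : d ∈ cB B W₂) {k a : G} (hk : k ∈ K₂) (ha : a ∈ A) {g : G} (hg : g = k * a * k⁻¹) {u : G} (hu : u ∈ U) :
    (d * g * d⁻¹ * g⁻¹) * u * (d * g * d⁻¹ * g⁻¹)⁻¹ * u⁻¹ =
      g * (d⁻¹ * u * d * u⁻¹) * g⁻¹ * (d⁻¹ * u * d * u⁻¹)⁻¹ := by
  have haB : a ∈ B := h.fm.le A hA.1.1 ha
  have hgK : g ∈ K₂ := by rw [hg]; exact mul_mem (mul_mem hk (h.k₂.BL haB)) (inv_mem hk)
  -- `γ = g⁻¹ u g u⁻¹`
  have hγ0 : (k⁻¹ * (g⁻¹ * u * g * u⁻¹) * k) ∈ W₂ ⊓ X := by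
    have hu' : k⁻¹ * u * k ∈ U := by
      have := (mem_normalizer_iff.1 (h.k₂.LY (inv_mem hk)) u).1 hu
      rwa [inv_inv] at this
    have h1 := comm_U h.fm h.k₂ hA hu' (inv_mem ha)
    have e : a⁻¹ * (k⁻¹ * u * k) * a⁻¹⁻¹ * (k⁻¹ * u * k)⁻¹ = k⁻¹ * (g⁻¹ * u * g * u⁻¹) * k := by
      rw [hg]; group
    rwa [e] at h1
  have hγW : g⁻¹ * u * g * u⁻¹ ∈ W₂ := by
    have h1 := (mem_normalizer_iff.1 (h.k₂.LV hk) _).1 hγ0.1
    have e : k * (k⁻¹ * (g⁻¹ * u * g * u⁻¹) * k) * k⁻¹ = g⁻¹ * u * g * u⁻¹ := by group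
    rwa [e] at h1
  have hγg : g * (g⁻¹ * u * g * u⁻¹) = g⁻¹ * u * g * u⁻¹ * g := by
    have h1 := comm_cj (h.fm.BZ a haB _ hγ0.2)
    rwa [← hg] at h1
  have hγd : d * (g⁻¹ * u * g * u⁻¹) = g⁻¹ * u * g * u⁻¹ * d := (mem_cB.1 hd2).2 _ hγW
  -- `δ = d⁻¹ u d u⁻¹`
  have hδ : d⁻¹ * u * d * u⁻¹ ∈ W₂ ⊓ X := by
    have := h.comm_E hA u hu d⁻¹ (inv_mem hd)
    rwa [inv_inv] at this
  have hδd : d * (d⁻¹ * u * d * u⁻¹) = d⁻¹ * u * d * u⁻¹ * d := (mem_cB.1 hd2).2 _ hδ.1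
  have hε : g * (d⁻¹ * u * d * u⁻¹) * g⁻¹ ∈ W₂ := (mem_normalizer_iff.1 (h.k₂.LV hgK) _).1 hδ.1
  have hεd := (mem_cB.1 hd2).2 _ hε
  have cγε : Commute (g⁻¹ * u * g * u⁻¹) (g * (d⁻¹ * u * d * u⁻¹) * g⁻¹) :=
    h.fm.Yc _ (h.k₂.VY hγW) _ (h.k₂.VY hε)
  exact word_y rfl rfl rfl hγg hγd hδd hεd cγε

/-- If `d ∈ C_B(W₁)` centralises all `K₁`-conjugates of `W₂`, then `d` centralises `U`. -/
theorem cent_of [Finite G] {A : Subgroup G} (hA : Fr W₂ (DM U AA) A) {d : G} (hd : d ∈ cB B W₁)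
    (hc : ∀ x ∈ K₁, ∀ w ∈ W₂, d * (x * w * x⁻¹) = x * w * x⁻¹ * d) : ∀ u ∈ U, d * u = u * d := by
  let C : Subgroup G :=
    { carrier := {u | u ∈ U ∧ ∀ x ∈ K₁, Commute (x * d * x⁻¹) u}
      one_mem' := ⟨one_mem _, fun x _ => Commute.one_right _⟩
      mul_mem' := by
        rintro a b ⟨ha, ha'⟩ ⟨hb, hb'⟩
        exact ⟨mul_mem ha hb, fun x hx => (ha' x hx).mul_right (hb' x hx)⟩
      inv_mem' := by
        rintro a ⟨ha, ha'⟩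
        exact ⟨inv_mem ha, fun x hx => (ha' x hx).inv_right⟩ }
  have hC : ∀ u, u ∈ C ↔ u ∈ U ∧ ∀ x ∈ K₁, Commute (x * d * x⁻¹) u := fun u => Iff.rfl
  have hdx : ∀ x ∈ K₁, x * d * x⁻¹ ∈ cB B W₁ := fun x hx => (mem_normalizer_iff.1 (h.k₁.LP hx) d).1 hd
  have h0 : U ≤ C := by
    refine h.top_of hA (fun u hu => hu.1) ?_ ?_ ?_ ?_
    · intro y hy
      exact (hC y).2 ⟨h.fm.ZY hy, fun x hx => h.fm.BZ _ (cB_le B W₁ (hdx x hx)) y hy⟩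
    · intro y hy
      exact (hC y).2 ⟨h.k₁.VY hy, fun x hx => (mem_cB.1 (hdx x hx)).2 y hy⟩
    · intro y hy
      refine (hC y).2 ⟨h.k₂.VY hy, fun x hx => ?_⟩
      refine comm_cj ?_
      have := hc x⁻¹ (inv_mem hx) y hy
      rwa [inv_inv] at this
    · intro y hy
      refine mem_normalizer_of_cj_le ?_
      rintro _ ⟨u, hu, rfl⟩
      change y * u * y⁻¹ ∈ C
      refine (hC _).2 ⟨(mem_normalizer_iff.1 (h.k₁.LY hy) u).1 hu.1, fun x hx => ?_⟩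
      have h1 := hu.2 (y⁻¹ * x) (mul_mem (inv_mem hy) hx)
      have h2 : Commute (y * (y⁻¹ * x * d * (y⁻¹ * x)⁻¹) * y⁻¹) (y * u * y⁻¹) := by
        have e1 := h1.eq
        rw [Commute, SemiconjBy]
        calc y * (y⁻¹ * x * d * (y⁻¹ * x)⁻¹) * y⁻¹ * (y * u * y⁻¹)
            = y * ((y⁻¹ * x * d * (y⁻¹ * x)⁻¹) * u) * y⁻¹ := by group
          _ = y * (u * (y⁻¹ * x * d * (y⁻¹ * x)⁻¹)) * y⁻¹ := by rw [e1]
          _ = _ := by group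
      have e : y * (y⁻¹ * x * d * (y⁻¹ * x)⁻¹) * y⁻¹ = x * d * x⁻¹ := by group
      rwa [e] at h2
  intro u hu
  have h1 := ((hC u).1 (h0 hu)).2 1 (one_mem _)
  simpa using h1.eq

/-- **(2b)** : `C_B(W₁ W₂)` centralises `U`. -/
theorem two_b [Finite G] {A : Subgroup G} (hA : Fr W₂ (DM U AA) A) {d : G} (hd : d ∈ cB B W₁)
    (hd2 : d ∈ cB B W₂) : ∀ u ∈ U, d * u = u * d := by
  obtain ⟨k, hk, hm⟩ := h.k₂.ne
  obtain ⟨a, ha, han⟩ := SetLike.not_le_iff_exists.1 hA.2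
  have haB : a ∈ B := h.fm.le A hA.1.1 ha
  have hac : a ∉ cB B W₂ := fun h => han h.2
  set g : G := k * a * k⁻¹ with hg
  have hgK : g ∈ K₂ := mul_mem (mul_mem hk (h.k₂.BL haB)) (inv_mem hk)
  have hcalc := fun u hu => h.calc_y hA hd hd2 hk ha hg (u := u) hu
  set y : G := d * g * d⁻¹ * g⁻¹ with hy
  have hyB : y ∈ B := by
    have h1 : g * d⁻¹ * g⁻¹ ∈ cB B W₂ := (mem_normalizer_iff.1 (h.k₂.LP hgK) _).1 (inv_mem hd2)
    have h2 := mul_mem (cB_le _ _ hd2) (cB_le _ _ h1)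
    have e : d * (g * d⁻¹ * g⁻¹) = y := by rw [hy]; group
    rwa [e] at h2
  have hyE : y ∈ cB B W₁ := by
    refine mem_cB.2 ⟨hyB, fun w hw => ?_⟩
    have h1 := hcalc w (h.k₁.VY hw)
    have h2 := (mem_cB.1 (inv_mem hd)).2 w hw
    have e1 : d⁻¹ * w * d * w⁻¹ = 1 := by rw [h2]; group
    rw [e1] at h1
    have e2 : y * w * y⁻¹ * w⁻¹ = 1 := by rw [h1]; group
    calc y * w = y * w * y⁻¹ * w⁻¹ * (w * y) := by group
      _ = w * y := by rw [e2, one_mul]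
  -- `d⁻¹ u d u⁻¹ ∈ C(K₂)`
  have hcen : ∀ u ∈ U, d⁻¹ * u * d * u⁻¹ ∈ centralizer (K₂ : Set G) := by
    intro u hu
    have h1 := h.comm_E hA u hu y hyE
    rw [hcalc u hu] at h1
    have hδ : d⁻¹ * u * d * u⁻¹ ∈ W₂ ⊓ X := by
      have := h.comm_E hA u hu d⁻¹ (inv_mem hd)
      rwa [inv_inv] at this
    set δ : G := d⁻¹ * u * d * u⁻¹ with hδe
    have hw' : k⁻¹ * δ * k ∈ W₂ := by
      have := (mem_normalizer_iff.1 (h.k₂.LV (inv_mem hk)) δ).1 hδ.1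
      rwa [inv_inv] at this
    have e1 : k⁻¹ * (g * δ * g⁻¹ * δ⁻¹) * k = a * (k⁻¹ * δ * k) * a⁻¹ * (k⁻¹ * δ * k)⁻¹ := by
      rw [hg]; group
    have h2 : k⁻¹ * (g * δ * g⁻¹ * δ⁻¹) * k ∈ X := by
      rw [e1]; exact h.k₂.quad a haB _ hw'
    have h3 := h.k₂.inter h.fm hk hm h1.2 h2
    have h4 : k⁻¹ * (g * δ * g⁻¹ * δ⁻¹) * k = g * δ * g⁻¹ * δ⁻¹ := by
      have := mem_centralizer_iff.1 h3 k hk
      rw [mul_assoc, ← this]; group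
    have h5 : a * (k⁻¹ * δ * k) * a⁻¹ * (k⁻¹ * δ * k)⁻¹ = g * δ * g⁻¹ * δ⁻¹ := by rw [← e1, h4]
    have h6 := h.k₂.faith _ hw' a haB fun l hl => by
      rw [h5]
      exact mem_centralizer_iff.1 h3 l hl
    have h7 := h.k₂.cent a haB hac _ hw' h6
    exact h.k₂.inter h.fm hk hm hδ.2 h7
  refine h.cent_of hA hd fun x hx w hw => ?_
  have hu : x * w * x⁻¹ ∈ U := (mem_normalizer_iff.1 (h.k₁.LY hx) w).1 (h.k₂.VY hw)
  have h1 := hcen _ hu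
  have he : x⁻¹ * d⁻¹ * x ∈ cB B W₁ := by
    have := (mem_normalizer_iff.1 (h.k₁.LP (inv_mem hx)) d⁻¹).1 (inv_mem hd)
    rwa [inv_inv] at this
  have heB := cB_le B W₁ he
  have h2 : x⁻¹ * d⁻¹ * x * w * (x⁻¹ * d⁻¹ * x)⁻¹ * w⁻¹ ∈ W₂ ⊓ X :=
    mem_inf.2 ⟨mul_mem ((mem_normalizer_iff.1 (h.k₂.LV (h.k₂.BL heB)) w).1 hw) (inv_mem hw),
      h.k₂.quad _ heB w hw⟩
  have h3 := h.cen x hx _ h2
  have e1 : d⁻¹ * (x * w * x⁻¹) * d * (x * w * x⁻¹)⁻¹ =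
      x⁻¹ * d⁻¹ * x * w * (x⁻¹ * d⁻¹ * x)⁻¹ * w⁻¹ := by
    calc d⁻¹ * (x * w * x⁻¹) * d * (x * w * x⁻¹)⁻¹
        = x * (x⁻¹ * d⁻¹ * x * w * (x⁻¹ * d⁻¹ * x)⁻¹ * w⁻¹) * x⁻¹ := by group
      _ = _ := by rw [h3]; group
  rw [e1] at h1
  have h4 := h.k₂.faith w hw _ heB fun l hl => mem_centralizer_iff.1 h1 l hl
  calc d * (x * w * x⁻¹) = d * x * (w * (x⁻¹ * d⁻¹ * x)) * x⁻¹ * d := by group
    _ = d * x * (x⁻¹ * d⁻¹ * x * w) * x⁻¹ * d := by rw [h4]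
    _ = x * w * x⁻¹ * d := by group

/-- case (2) -/
theorem case_two [Finite G] {A : Subgroup G} (hA : Fr W₂ (DM U AA) A) (hA1 : A ≤ centralizer (W₁ : Set G)) :
    K₁ ≤ normalizer ((W₁ ⊔ W₂ ⊔ X : Subgroup G) : Set G) := by
  have h0 : W₁ ⊔ W₂ ⊔ X = U := by
    refine le_antisymm h.le_U fun u hu => ?_
    obtain ⟨v, hv, c, hc, hAc, rfl⟩ := full h.fm h.k₂ hA hu
    have h1 : ∀ e ∈ cB B W₁, e * c = c * e := by
      intro e he
      obtain ⟨a, ha, p, hp, rfl⟩ := dec h.fm h.k₂ hA (cB_le _ _ he)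
      have haE : a ∈ cB B W₁ := mem_inf.2 ⟨h.fm.le A hA.1.1 ha, hA1 ha⟩
      have hpE : p ∈ cB B W₁ := by
        have := mul_mem (inv_mem haE) he
        rwa [inv_mul_cancel_left] at this
      have h2 := h.two_b hA hpE hp c hc
      rw [mul_assoc, h2, ← mul_assoc, hAc a ha, mul_assoc]
    obtain ⟨v1, hv1, z, hz, rfl⟩ := h.k₁.cY_P h.fm c hc h1
    exact mul_mem (mem_sup_left (mem_sup_right hv)) (mul_mem (mem_sup_left (mem_sup_left hv1)) (mem_sup_right hz))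
  rw [h0]
  exact h.k₁.LY

/-- **THE PAIR LEMMA.** -/
theorem main [Finite G] : K₁ ≤ normalizer ((W₁ ⊔ W₂ ⊔ X : Subgroup G) : Set G) := by
  by_cases h1 : ∃ A, Fr W₁ (DM U AA) A
  · obtain ⟨A, hA⟩ := h1
    exact h.case_one hA
  · obtain ⟨A, hA⟩ := h.exists_some.resolve_left h1
    refine h.case_two hA ?_
    by_contra hc
    exact h1 ⟨A, hA.1, hc⟩

end PairD

end Cfsg.Agent.Omega.OM.Lev.Low.TorusK
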