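import Cfsg.Agent.Omega.OM.Lev.Low.TorusK.Uni
import Cfsg.Agent.Omega.OM.Lev.Low.TorusK.Pair

/-!
# TORUS, `k ≥ 4`: (LOC) of helper607 #23961

For a block `K` (`BK`) and `F = [N, K]`: `X ∏ F^s` (`s ∈ S`) is abelian and normalised by `S` and by `K`
(hence by all `K^s`).

* `comm_all` : `[F, F'] = 1` for any two blocks;
* `pair_norm` : two blocks over different lines (helper12's pair lemma);
* `WW S X F` := `X ⊔ ⨆ s : S, F^s`; `WW_comm`, `S_norm`, `K_norm`.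
-/

set_option autoImplicit false
set_option linter.unusedSectionVars false

namespace Cfsg.Agent.Omega.OM.Lev.Low.TorusK

open Subgroup Cfsg Cfsg.Agent.ZN Cfsg.Agent.ZN.ChoiceBase
open Cfsg.Agent.Omega.SQ1.Bau (mem_sup_comm card_sup_comm elem_comm elem_sq)
open Cfsg.Agent.Omega.NO3S.Level.Claim (Fm Bl cB mem_cB cB_le)
open Cfsg.Agent.Omega.OM.Lev.Uni (FrL)
open Cfsg.Agent.Omega.OM.Lev.Low.TorusK.PBC
open scoped commutatorElement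

universe u

variable {G : Type u} [Group G] {ι : Type} {S B Q V Xn ZJ B0 X M0 Y0 : Subgroup G} {L W Z C A : ι → Subgroup G} {z : G}
  {l m : ι} {K N N1 N0 K' N' N1' N0' : Subgroup G}

namespace Loc

/-- `[F, F'] = 1` -/
theorem comm_all [Finite G] (h : TK S B Q V Xn ZJ B0 X M0 Y0 L W Z C A z) (k : BK B B0 X M0 Y0 W l K N N1 N0)
    (k' : BK B B0 X M0 Y0 W m K' N' N1' N0') {a b : G} (ha : a ∈ (⁅N, K⁆ : Subgroup G))
    (hb : b ∈ (⁅N', K'⁆ : Subgroup G)) : a * b = b * a := by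
  by_cases e : l = m
  · subst e
    obtain ⟨U, hU, -, -, hall⟩ := h.exists_U1 l
    exact elem_comm hU a ((hall K N N1 N0 k).1 ha) b ((hall K' N' N1' N0' k').1 hb)
  · obtain ⟨U, hU, -, -, h1, h2⟩ := h.exists_U2 e
    exact elem_comm hU a ((h1 K N N1 N0 k).1 ha) b ((h2 K' N' N1' N0' k').1 hb)

/-- the smallest group over `D`, `D'` normalised by `K`, `K'` inside `U` -/
theorem exists_min {U D D' : Subgroup G} (hD : D ≤ U) (hD' : D' ≤ U) (hK : K ≤ normalizer (U : Set G))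
    (hK' : K' ≤ normalizer (U : Set G)) : ∃ U' ≤ U, D ≤ U' ∧ D' ≤ U' ∧ K ≤ normalizer (U' : Set G) ∧
      K' ≤ normalizer (U' : Set G) ∧ ∀ R : Subgroup G, D ≤ R → D' ≤ R → K ≤ normalizer (R : Set G) →
        K' ≤ normalizer (R : Set G) → U' ≤ R := by
  have hn : ∀ {T : Subgroup G} {𝒮 : Set (Subgroup G)}, (∀ R ∈ 𝒮, T ≤ normalizer (R : Set G)) →
      T ≤ normalizer ((sInf 𝒮 : Subgroup G) : Set G) := by
    intro T 𝒮 hT g hg
    rw [mem_normalizer_iff]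
    intro x
    rw [Subgroup.mem_sInf, Subgroup.mem_sInf]
    exact ⟨fun h1 R hR => (mem_normalizer_iff.1 (hT R hR hg) x).1 (h1 R hR),
      fun h1 R hR => (mem_normalizer_iff.1 (hT R hR hg) x).2 (h1 R hR)⟩
  refine ⟨sInf {R | D ≤ R ∧ D' ≤ R ∧ K ≤ normalizer (R : Set G) ∧ K' ≤ normalizer (R : Set G)},
    sInf_le ⟨hD, hD', hK, hK'⟩, le_sInf fun R hR => hR.1, le_sInf fun R hR => hR.2.1, hn fun R hR => hR.2.2.1,
    hn fun R hR => hR.2.2.2, fun R h1 h2 h3 h4 => sInf_le ⟨h1, h2, h3, h4⟩⟩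

/-- **Two blocks over different lines.** -/
theorem pair_norm [Finite G] (h : TK S B Q V Xn ZJ B0 X M0 Y0 L W Z C A z) (hlm : l ≠ m)
    (k : BK B B0 X M0 Y0 W l K N N1 N0) (k' : BK B B0 X M0 Y0 W m K' N' N1' N0') (hX : ⁅N', K'⁆ ⊓ X ≤ W m) {g v : G}
    (hg : g ∈ K) (hv : v ∈ (⁅N', K'⁆ : Subgroup G)) : g * v * g⁻¹ ∈ ⁅N, K⁆ ⊔ ⁅N', K'⁆ ⊔ X := by
  obtain ⟨U0, hU0, hUB0, hUY0, h1, h2⟩ := h.exists_U2 hlm
  obtain ⟨h3, h4⟩ := h1 K N N1 N0 k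
  obtain ⟨h5, h6⟩ := h2 K' N' N1' N0' k'
  obtain ⟨U, hUU, hF, hF', hKU, hKU', hmin⟩ := exists_min h3 h5 h4 h6
  have hU : IsElementaryAbelian 2 U := Cfsg.Agent.PLocal.ThompsonJ.isElementaryAbelian_mono hU0 hUU
  obtain ⟨AA, f, -⟩ := h.fml U (normalizer (U : Set G) ⊓ M0) hU (hUU.trans hUB0) (hUU.trans hUY0) inf_le_left
    inf_le_right
  have b1 := k.bl h f hF hKU (le_inf hKU k.KM)
  have b2 := k'.bl h f hF' hKU' (le_inf hKU' k'.KM)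
  have hp : PairD S U (normalizer (U : Set G) ⊓ M0) B0 (U ⊓ X) AA K ⁅N, K⁆ K' ⁅N', K'⁆ :=
    ⟨f, b1, b2, fun x hx w hw => k.cW m (Ne.symm hlm) w (hX ⟨hw.1, hw.2.2⟩) x hx,
      fun R _ r1 r2 r3 r4 => hmin R r1 r2 r3 r4⟩
  have h7 := hp.main
  have h8 := (mem_normalizer_iff.1 (h7 hg) v).1 (mem_sup_left (mem_sup_right hv))
  have h9 : ⁅N, K⁆ ⊔ ⁅N', K'⁆ ⊔ (U ⊓ X) ≤ ⁅N, K⁆ ⊔ ⁅N', K'⁆ ⊔ X := sup_le_sup_left inf_le_right _
  exact h9 h8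

/-- `X ∏ F^s` -/
def WW (S X F : Subgroup G) : Subgroup G := X ⊔ ⨆ s : S, cj (s : G) F

theorem X_le (S X F : Subgroup G) : X ≤ WW S X F := le_sup_left

theorem cj_le {F : Subgroup G} {s : G} (hs : s ∈ S) : cj s F ≤ WW S X F :=
  (le_iSup (fun s : S => cj (s : G) F) ⟨s, hs⟩).trans le_sup_right

theorem F_le (S X F : Subgroup G) : F ≤ WW S X F := by
  have h1 := cj_le (X := X) (F := F) (one_mem S)
  rwa [cj_one] at h1

theorem WW_le {F T : Subgroup G} (hX : X ≤ T) (hF : ∀ s ∈ S, cj s F ≤ T) : WW S X F ≤ T :=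
  sup_le hX (iSup_le fun s => hF s s.2)

/-- `S` normalises `X ∏ F^s` -/
theorem S_norm {F : Subgroup G} (hX : S ≤ normalizer (X : Set G)) : S ≤ normalizer ((WW S X F : Subgroup G) : Set G) := by
  have key : ∀ s ∈ S, cj s (WW S X F) ≤ WW S X F := by
    intro s hs
    rw [cj_le_iff]
    refine WW_le ?_ fun t ht => ?_
    · rw [← cj_le_iff, cj_eq_of_mem_normalizer (hX hs)]
      exact X_le S X F
    · rw [← cj_le_iff, cj_cj]
      exact cj_le (mul_mem hs ht)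
  intro s hs
  rw [mem_normalizer_iff_cj]
  refine le_antisymm (key s hs) ?_
  have h1 := cj_mono s (key s⁻¹ (inv_mem hs))
  rwa [cj_cj, mul_inv_cancel, cj_one] at h1

theorem cj_comm (s : G) (N K : Subgroup G) : cj s ⁅N, K⁆ = ⁅cj s N, cj s K⁆ := map_commutator _ _ _

/-- `X ∏ F^s` is abelian -/
theorem WW_comm [Finite G] (h : TK S B Q V Xn ZJ B0 X M0 Y0 L W Z C A z) (k : BK B B0 X M0 Y0 W l K N N1 N0) {a b : G}
    (ha : a ∈ WW S X ⁅N, K⁆) (hb : b ∈ WW S X ⁅N, K⁆) : a * b = b * a := by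
  have hFX : ∀ s ∈ S, ∀ v ∈ cj s ⁅N, K⁆, ∀ x ∈ X, v * x = x * v := by
    intro s hs v hv x hx
    obtain ⟨j, hj, -, -⟩ := h.perm s hs l
    have k1 := k.cj h hs hj
    rw [cj_comm] at hv
    exact h.cX (k1.VB0 hv) hx
  have hFF : ∀ s ∈ S, ∀ t ∈ S, ∀ v ∈ cj s ⁅N, K⁆, ∀ w ∈ cj t ⁅N, K⁆, v * w = w * v := by
    intro s hs t ht v hv w hw
    obtain ⟨j, hj, -, -⟩ := h.perm s hs l
    obtain ⟨j', hj', -, -⟩ := h.perm t ht l
    rw [cj_comm] at hv hw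
    exact comm_all h (k.cj h hs hj) (k.cj h ht hj') hv hw
  have key : ∀ x, (∀ y ∈ X, y * x = x * y) → (∀ s ∈ S, ∀ y ∈ cj s ⁅N, K⁆, y * x = x * y) →
      ∀ y ∈ WW S X ⁅N, K⁆, y * x = x * y := by
    intro x h1 h2 y hy
    have h3 : WW S X ⁅N, K⁆ ≤ centralizer ({x} : Set G) :=
      WW_le (fun y hy => mem_centralizer_singleton_iff.2 (h1 y hy))
        fun s hs y hy => mem_centralizer_singleton_iff.2 (h2 s hs y hy)
    exact mem_centralizer_singleton_iff.1 (h3 hy)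
  refine key b (fun x hx => (key x ?_ ?_ b hb).symm) (fun s hs x hx => (key x ?_ ?_ b hb).symm) a ha
  · exact fun y hy => h.Xc hy hx
  · exact fun s hs y hy => hFX s hs y hy x hx
  · exact fun y hy => (hFX s hs x hx y hy).symm
  · exact fun t ht y hy => hFF t ht s hs y hy x hx

theorem WW_le_B0 [Finite G] (h : TK S B Q V Xn ZJ B0 X M0 Y0 L W Z C A z) (k : BK B B0 X M0 Y0 W l K N N1 N0) :
    WW S X ⁅N, K⁆ ≤ B0 := by
  refine WW_le h.XB0 fun s hs => ?_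
  obtain ⟨j, hj, -, -⟩ := h.perm s hs l
  rw [cj_comm]
  exact (k.cj h hs hj).VB0

/-- **(LOC)** : `K` normalises `X ∏ F^s`. -/
theorem K_norm [Finite G] (h : TK S B Q V Xn ZJ B0 X M0 Y0 L W Z C A z) (k : BK B B0 X M0 Y0 W l K N N1 N0)
    (hX : ∀ m K' N' N1' N0', BK B B0 X M0 Y0 W m K' N' N1' N0' → ⁅N', K'⁆ ⊓ X ≤ W m) :
    K ≤ normalizer ((WW S X ⁅N, K⁆ : Subgroup G) : Set G) := by
  have key : ∀ g ∈ K, cj g (WW S X ⁅N, K⁆) ≤ WW S X ⁅N, K⁆ := by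
    intro g hg
    rw [cj_le_iff]
    have hXg : ∀ x ∈ X, g * x * g⁻¹ ∈ WW S X ⁅N, K⁆ := by
      intro x hx
      have h1 := mul_mem (F_le S X _ (k.act h hg hx)) (X_le S X ⁅N, K⁆ hx)
      rwa [inv_mul_cancel_right] at h1
    have hFg : ∀ v ∈ (⁅N, K⁆ : Subgroup G), g * v * g⁻¹ ∈ WW S X ⁅N, K⁆ := fun v hv =>
      F_le S X _ ((mem_normalizer_iff.1 (k.pb.LV hg) v).1 hv)
    have hcj : ∀ y : G, y ∈ cj g⁻¹ (WW S X ⁅N, K⁆) ↔ g * y * g⁻¹ ∈ WW S X ⁅N, K⁆ := fun y => by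
      rw [mem_cj', inv_inv]
    refine WW_le (fun x hx => (hcj x).2 (hXg x hx)) fun s hs v hv => (hcj v).2 ?_
    obtain ⟨j, hj, -, -⟩ := h.perm s hs l
    have k1 := k.cj h hs hj
    by_cases e : l = j
    · subst e
      have h1 := (uni' h k k1).1
      rw [← cj_comm] at h1
      obtain ⟨a, ha, x, hx, rfl⟩ := mem_sup_comm (fun a ha b hb => h.cX (k.VB0 ha) hb) (h1 hv)
      have e1 : g * (a * x) * g⁻¹ = (g * a * g⁻¹) * (g * x * g⁻¹) := by group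
      rw [e1]
      exact mul_mem (hFg a ha) (hXg x hx)
    · rw [cj_comm] at hv
      have h1 := pair_norm h e k k1 (hX _ _ _ _ _ k1) hg hv
      rw [← cj_comm] at h1
      have h2 : ⁅N, K⁆ ⊔ cj s ⁅N, K⁆ ⊔ X ≤ WW S X ⁅N, K⁆ := sup_le (sup_le (F_le S X _) (cj_le hs)) (X_le S X _)
      exact h2 h1
  intro g hg
  rw [mem_normalizer_iff_cj]
  refine le_antisymm (key g hg) ?_
  have h1 := cj_mono g (key g⁻¹ (inv_mem hg))
  rwa [cj_cj, mul_inv_cancel, cj_one] at h1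

/-- `⟨K, S⟩` normalises `X ∏ F^s` -/
theorem KS_norm [Finite G] (h : TK S B Q V Xn ZJ B0 X M0 Y0 L W Z C A z) (k : BK B B0 X M0 Y0 W l K N N1 N0)
    (hX : ∀ m K' N' N1' N0', BK B B0 X M0 Y0 W m K' N' N1' N0' → ⁅N', K'⁆ ⊓ X ≤ W m) :
    K ⊔ S ≤ normalizer ((WW S X ⁅N, K⁆ : Subgroup G) : Set G) :=
  sup_le (K_norm h k hX) (S_norm h.SX)

/-- `⟨K, S⟩` is local. -/
theorem local_KS [Finite G] (h : TK S B Q V Xn ZJ B0 X M0 Y0 L W Z C A z) (k : BK B B0 X M0 Y0 W l K N N1 N0)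
    (hX : ∀ m K' N' N1' N0', BK B B0 X M0 Y0 W m K' N' N1' N0' → ⁅N', K'⁆ ⊓ X ≤ W m) :
    ∃ U : Subgroup G, U ≠ ⊥ ∧ IsPGroup 2 U ∧ K ⊔ S ≤ normalizer (U : Set G) := by
  refine ⟨WW S X ⁅N, K⁆, fun e => ?_, h.two.to_le ((WW_le_B0 h k).trans (h.B0B.trans h.BS)), KS_norm h k hX⟩
  obtain ⟨x, hx, hx1⟩ := h.exists_Z l
  have h1 : x ∈ WW S X ⁅N, K⁆ := X_le S X _ (h.ZX l hx)
  rw [e, mem_bot] at h1
  exact hx1 h1

end Loc

end Cfsg.Agent.Omega.OM.Lev.Low.TorusK
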