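import Cfsg.Agent.Omega.OM.Lev.Low.TorusK.EndFam
import Cfsg.Agent.Omega.OM.Lev.Low.TorusK.Theta
import Cfsg.Agent.Omega.OM.Lev.Low.TorusK.LocFam
import Cfsg.Agent.Omega.OM.Lev.Low.TorusK.LocPlug
import Cfsg.Agent.Omega.OM.Lev.Low.PlugE

/-!
# TORUS, `k ≥ 3`, `q = 2` (helper607 #23961): `NoLowK`

* `false_of_blk` : **`TK` + `BK` + `NA` are a contradiction**;
* `na_of` : `NA` for the block of `Core.exists_blk`;
* `noLowK` : **`NoLowK K`** (no hypothesis); `uniLevK` : `UniLevK K`.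
-/

set_option autoImplicit false
set_option linter.unusedSectionVars false

namespace Cfsg.Agent.Omega.OM.Lev.Low.TorusK.Main

open Subgroup Cfsg Cfsg.Agent.ZN.ChoiceBase Cfsg.Agent.ZN.ChoiceSit
open Cfsg.Agent.ZN (jj zj bau zc zl o2)
open Cfsg.Agent.Omega.Frame (Cls)
open Cfsg.Agent.Omega.OM.SwapL (Ln ZL BL)
open Cfsg.Agent.Omega.NO3S.Level (lev)
open Cfsg.Agent.Omega.NO3S.EThree.Frame (Bg)
open Cfsg.Agent.Omega.OM.Lev.Low
open Cfsg.Agent.Omega.OM.Lev.Low.Core (Blk exists_blk)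

universe u

variable {G : Type u} [Group G]

variable {ι : Type} {S B Q V Xn ZJ B0 X M0 Y0 : Subgroup G} {L W Z C A : ι → Subgroup G} {z : G}

/-- **The torus theorem.** -/
theorem false_of_blk [Finite G] [Finite ι] (h : TK S B Q V Xn ZJ B0 X M0 Y0 L W Z C A z) {l : ι}
    {K N N1 N0 : Subgroup G} (k : BK B B0 X M0 Y0 W l K N N1 N0) (a : NA B K N) : False :=
  EndFam.false_one h k a fun K N N1 N0 f m =>
    TD.theta (K := K) (N := N) (N1 := N1) (N0 := N0)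
      ⟨h, f.bk, fun i => Loc.fam_norm h f.bk i, fun i j _ u hu v hv => Loc.fam_comm h f.bk i j hu hv⟩ m

theorem na_of [Finite G] {S : Sylow 2 G} {P : Subgroup G} {n : ℕ} {R : Subgroup G} {j : ℕ} {K N₁ c : Subgroup G} {τ : G}
    {l : ι} (h : Blk S P n L W Z C A R j K N₁ c τ l) :
    NA (BL (S : Subgroup G) n) K (zl (BL (S : Subgroup G) n) R) := ⟨h.nK, h.act⟩

/-- **`NoLowK`.** -/
theorem noLowK (K : Cls.{u}) : EK3.UniLevK.NoLowK K := by
  intro G _ _ hG S P hyp n hall hn1 F _ _ _ k hF hk N B ZJ eqZ eqB hE L W Z C A hbg hfr R hP hTR hc hn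
  by_contra hZ
  subst eqZ eqB
  have hln : Ln S P n L W Z C A 2 := by
    refine ⟨hyp.toHypN, hall P hyp.star, hfr, fun i => ?_⟩
    have : Nontrivial (Fin k) := Fin.nontrivial_iff_two_le.2 (by omega)
    exact exists_ne i
  have : Nonempty (Fin k) := ⟨⟨0, by omega⟩⟩
  obtain ⟨j, K1, N₁, c, τ, l, hb⟩ := exists_blk hln hbg hP hTR hc hn hZ
  obtain ⟨z, hz, hzf⟩ := Line.exists_full hln.fr
  exact false_of_blk (tk_of hln hbg hb.jn hz hzf (LocIn.locOf G k S P n L W Z C A hk hln hbg hall j hb.jn z hz hzf))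
    (bk_of hb) (na_of hb)

/-- **`UniLevK`.** -/
theorem uniLevK (K : Cls.{u}) : EK3.OfMul.UniLevK K := EK3.UniLevK.uniLevK_of (noLowK K)

end Cfsg.Agent.Omega.OM.Lev.Low.TorusK.Main
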