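import Cfsg.Agent.Omega.OM.PB

/-!
# Conjugates of blocks `PB`

* `PB.cj` : `PB (B^g) (L^g) (N^g) (N₁^g) (N₀^g) q`.
-/

set_option autoImplicit false

namespace Cfsg.Agent.Omega.OM.Lev.Low.TorusK.PBC

open Subgroup Cfsg Cfsg.Agent.ZN Cfsg.Agent.ZN.ChoiceBase
open Cfsg.Agent.Omega.SQ1.Bau (Mv)

universe u

variable {G : Type u} [Group G]

theorem mem_cj' {g x : G} {H : Subgroup G} : x ∈ cj g H ↔ g⁻¹ * x * g ∈ H := by
  constructor
  · rintro ⟨y, hy, rfl⟩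
    have e : g⁻¹ * (MulAut.conj g).toMonoidHom y * g = y := by
      show g⁻¹ * (g * y * g⁻¹) * g = y
      group
    rw [e]
    exact hy
  · intro h
    refine ⟨_, h, ?_⟩
    show g * (g⁻¹ * x * g) * g⁻¹ = x
    group

theorem cj_mem {g x : G} {H : Subgroup G} (h : x ∈ H) : g * x * g⁻¹ ∈ cj g H := ⟨x, h, rfl⟩

theorem ex_cj {g x : G} {H : Subgroup G} (h : x ∈ cj g H) : ∃ y ∈ H, x = g * y * g⁻¹ := by
  obtain ⟨y, hy, rfl⟩ := h
  exact ⟨y, hy, rfl⟩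

theorem cj_mem_iff {g x : G} {H : Subgroup G} : g * x * g⁻¹ ∈ cj g H ↔ x ∈ H := by
  rw [mem_cj']
  have e : g⁻¹ * (g * x * g⁻¹) * g = x := by group
  rw [e]

theorem mv_cj {g x : G} {H : Subgroup G} : Mv (cj g H) (g * x * g⁻¹) ↔ Mv H x := by
  constructor
  · rintro ⟨v, hv, hv'⟩
    obtain ⟨v, hv1, rfl⟩ := ex_cj hv
    refine ⟨v, hv1, fun h => hv' ?_⟩
    have e : g * x * g⁻¹ * (g * v * g⁻¹) * (g * x * g⁻¹)⁻¹ = g * (x * v * x⁻¹) * g⁻¹ := by group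
    rw [e]
    exact cj_mem h
  · rintro ⟨v, hv, hv'⟩
    refine ⟨_, cj_mem hv, fun h => hv' ?_⟩
    have e : g * x * g⁻¹ * (g * v * g⁻¹) * (g * x * g⁻¹)⁻¹ = g * (x * v * x⁻¹) * g⁻¹ := by group
    rw [e] at h
    exact cj_mem_iff.1 h

theorem comm_cj {g x y : G} : (g * x * g⁻¹) * (g * y * g⁻¹) = (g * y * g⁻¹) * (g * x * g⁻¹) ↔ x * y = y * x := by
  constructor
  · intro h
    have e1 : (g * x * g⁻¹) * (g * y * g⁻¹) = g * (x * y) * g⁻¹ := by group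
    have e2 : (g * y * g⁻¹) * (g * x * g⁻¹) = g * (y * x) * g⁻¹ := by group
    rw [e1, e2] at h
    exact mul_left_cancel (mul_right_cancel h)
  · intro h
    have e1 : (g * x * g⁻¹) * (g * y * g⁻¹) = g * (x * y) * g⁻¹ := by group
    have e2 : (g * y * g⁻¹) * (g * x * g⁻¹) = g * (y * x) * g⁻¹ := by group
    rw [e1, e2, h]

variable {B L N N1 N0 : Subgroup G} {q : ℕ}

theorem zc_cj' (g : G) (B : Subgroup G) : zc (cj g B) = cj g (zc B) := by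
  ext x
  rw [mem_cj', ChoiceBase.mem_zc, ChoiceBase.mem_zc, mem_cj']
  refine and_congr_right fun _ => and_congr ?_ ?_
  · constructor
    · intro h
      have e : (g⁻¹ * x * g) ^ 2 = g⁻¹ * x ^ 2 * g := by rw [pow_two, pow_two]; group
      rw [e, h]; group
    · intro h
      have e : x ^ 2 = g * (g⁻¹ * x * g) ^ 2 * g⁻¹ := by rw [pow_two, pow_two]; group
      rw [e, h]; group
  · constructor
    · intro h y hy
      have h1 := h _ (cj_mem (g := g) hy)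
      have e1 : y = g⁻¹ * (g * y * g⁻¹) * g := by group
      rw [e1]
      calc g⁻¹ * (g * y * g⁻¹) * g * (g⁻¹ * x * g) = g⁻¹ * ((g * y * g⁻¹) * x) * g := by group
        _ = g⁻¹ * (x * (g * y * g⁻¹)) * g := by rw [h1]
        _ = _ := by group
    · intro h y hy0
      obtain ⟨y, hy, rfl⟩ := ex_cj hy0
      have h1 := h y hy
      calc g * y * g⁻¹ * x = g * (y * (g⁻¹ * x * g)) * g⁻¹ := by group
        _ = g * ((g⁻¹ * x * g) * y) * g⁻¹ := by rw [h1]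
        _ = _ := by group

/-- **Conjugates of blocks.** -/
theorem pb_cj (h : PB B L N N1 N0 q) (g : G) : PB (cj g B) (cj g L) (cj g N) (cj g N1) (cj g N0) q where
  Bp := IsPGroup.map h.Bp _
  BL := cj_mono g h.BL
  el := isElementaryAbelian_cj g h.el
  NB := cj_mono g h.NB
  Nn := by
    rintro l hl0 v hv0
    obtain ⟨l, hl, rfl⟩ := ex_cj hl0
    obtain ⟨v, hv, rfl⟩ := ex_cj hv0
    have e : g * l * g⁻¹ * (g * v * g⁻¹) * (g * l * g⁻¹)⁻¹ = g * (l * v * l⁻¹) * g⁻¹ := by group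
    rw [e]
    exact cj_mem (h.Nn l hl v hv)
  N1N := cj_mono g h.N1N
  N1c := by
    rintro b hb0 v hv0
    obtain ⟨b, hb, rfl⟩ := ex_cj hb0
    obtain ⟨v, hv, rfl⟩ := ex_cj hv0
    exact comm_cj.2 (h.N1c b hb v hv)
  N01 := cj_mono g h.N01
  N0c := by
    rintro b hb0 v hv0
    obtain ⟨b, hb, rfl⟩ := ex_cj hb0
    obtain ⟨v, hv, rfl⟩ := ex_cj hv0
    exact comm_cj.2 (h.N0c b hb v hv)
  card := by rw [card_cj, card_cj]; exact h.card
  card1 := by rw [card_cj, card_cj]; exact h.card1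
  opp := by
    rintro l hl0 hm v hv0 hv'
    obtain ⟨l, hl, rfl⟩ := ex_cj hl0
    obtain ⟨v, hv, rfl⟩ := ex_cj hv0
    have e : g * l * g⁻¹ * (g * v * g⁻¹) * (g * l * g⁻¹)⁻¹ = g * (l * v * l⁻¹) * g⁻¹ := by group
    rw [e] at hv' ⊢
    exact cj_mem (h.opp l hl (mv_cj.1 hm) v hv (cj_mem_iff.1 hv'))
  quad := by
    rintro b hb0 v hv0
    obtain ⟨b, hb, rfl⟩ := ex_cj hb0
    obtain ⟨v, hv, rfl⟩ := ex_cj hv0
    have e : g * b * g⁻¹ * (g * v * g⁻¹) * (g * b * g⁻¹)⁻¹ * (g * v * g⁻¹)⁻¹ = g * (b * v * b⁻¹ * v⁻¹) * g⁻¹ := by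
      group
    rw [e]
    exact cj_mem (h.quad b hb v hv)
  cent := by
    rintro b hb0 hex v hv0 hv'
    obtain ⟨b, hb, rfl⟩ := ex_cj hb0
    obtain ⟨v, hv, rfl⟩ := ex_cj hv0
    have e : g * b * g⁻¹ * (g * v * g⁻¹) * (g * b * g⁻¹)⁻¹ * (g * v * g⁻¹)⁻¹ = g * (b * v * b⁻¹ * v⁻¹) * g⁻¹ := by
      group
    rw [e] at hv'
    refine cj_mem (h.cent b hb ?_ v hv (cj_mem_iff.1 hv'))
    obtain ⟨w, hw0, hne⟩ := hex
    obtain ⟨w, hw, rfl⟩ := ex_cj hw0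
    exact ⟨w, hw, fun e => hne (comm_cj.2 e)⟩
  cardB := by
    have e : cj g B ⊓ centralizer (cj g N : Set G) = cj g (B ⊓ centralizer (N : Set G)) := by
      rw [cj_inf, cj_centralizer]
    rw [e, card_cj, card_cj]
    exact h.cardB
  one := h.one
  mv := by
    obtain ⟨l, hl, hm⟩ := h.mv
    exact ⟨_, cj_mem hl, mv_cj.2 hm⟩
  gen := by
    rintro l hl0 hm X hX hX'
    obtain ⟨l, hl, rfl⟩ := ex_cj hl0
    have h1 := h.gen l hl (mv_cj.1 hm) (cj g⁻¹ X) (fun b hb => ?_) fun b hb => ?_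
    · intro x hx0
      obtain ⟨x, hx, rfl⟩ := ex_cj hx0
      have h2 := mem_cj'.1 (h1 hx)
      simpa using h2
    · rw [mem_cj']
      simpa using hX (cj_mem hb)
    · rw [mem_cj']
      have h2 := hX' _ (cj_mem hb)
      have e : g * l * g⁻¹ * (g * b * g⁻¹) * (g * l * g⁻¹)⁻¹ = g⁻¹⁻¹ * (l * b * l⁻¹) * g⁻¹ := by group
      rwa [e] at h2
  act := by
    rintro l hl0 z hz0
    rw [zc_cj'] at hz0
    obtain ⟨l, hl, rfl⟩ := ex_cj hl0
    obtain ⟨z, hz, rfl⟩ := ex_cj hz0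
    have e : g * l * g⁻¹ * (g * z * g⁻¹) * (g * l * g⁻¹)⁻¹ * (g * z * g⁻¹)⁻¹ = g * (l * z * l⁻¹ * z⁻¹) * g⁻¹ := by
      group
    rw [e]
    exact cj_mem (h.act l hl z hz)
  cor := by
    rintro l hl0 x hx0 hx'
    obtain ⟨l, hl, rfl⟩ := ex_cj hl0
    obtain ⟨x, hx, rfl⟩ := ex_cj hx0
    have e : g * l * g⁻¹ * (g * x * g⁻¹) * (g * l * g⁻¹)⁻¹ = g * (l * x * l⁻¹) * g⁻¹ := by group
    rw [e]
    exact cj_mem (h.cor l hl x hx fun v hv => comm_cj.1 (hx' _ (cj_mem hv)))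
  syl := by
    intro T hB hL hT
    have h1 := h.syl (cj g⁻¹ T) ?_ ?_ (IsPGroup.map hT _)
    · rw [← h1, cj_cj, mul_inv_cancel, cj_one]
    · have := cj_mono g⁻¹ hB
      rwa [cj_inv_cj] at this
    · have := cj_mono g⁻¹ hL
      rwa [cj_inv_cj] at this
  tor := by
    rintro z hz1 hz0 z' hz1' hz0'
    obtain ⟨z, hz, rfl⟩ := ex_cj hz1
    obtain ⟨z', hz', rfl⟩ := ex_cj hz1'
    obtain ⟨x, hx, hxB, hxz⟩ := h.tor z hz (fun e => hz0 (cj_mem e)) z' hz' fun e => hz0' (cj_mem e)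
    refine ⟨_, cj_mem hx, ?_, ?_⟩
    · rw [mem_normalizer_iff] at hxB ⊢
      intro b
      rw [mem_cj', mem_cj']
      have h1 := hxB (g⁻¹ * b * g)
      have e : g⁻¹ * (g * x * g⁻¹ * b * (g * x * g⁻¹)⁻¹) * g = x * (g⁻¹ * b * g) * x⁻¹ := by group
      rw [e]
      exact h1
    · have e : g * x * g⁻¹ * (g * z * g⁻¹) * (g * x * g⁻¹)⁻¹ * (g * z' * g⁻¹)⁻¹ =
          g * (x * z * x⁻¹ * z'⁻¹) * g⁻¹ := by group
      rw [e]
      exact cj_mem hxz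

end Cfsg.Agent.Omega.OM.Lev.Low.TorusK.PBC
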