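import Cfsg.Agent.ZN.ChoiceSit

/-!
# TORUS, `k ≥ 4`, (Sig) of helper607 #23961 = LEMMA U of helper472 #24331, abstract part

`W` elementary abelian of order 16, `c ≤ W` of order 4; subgroups of `MulAut W`: `K` (`= SL₂(4)`), `B₀ ≤ K` its Sylow
2-subgroup fixing `c`, `B` Sylow in `Y ≥ K`.

* `St c`, `Un c`;
* `Dt` : the data;
* `Dt.main` : a 2-element `s` which normalises `Y`, `c` (and `⟨B, s⟩` a 2-group) lies in `B`.
-/

set_option autoImplicit false
set_option linter.unusedSectionVars false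
set_option linter.unusedVariables false

namespace Cfsg.Agent.Omega.OM.Lev.Low.TorusK.SigU

open Subgroup

section abs

variable {W : Type*} [CommGroup W]

/-- the elements which preserve `c` -/
def St (c : Subgroup W) : Subgroup (MulAut W) where
  carrier := {x | ∀ v, x v ∈ c ↔ v ∈ c}
  one_mem' := fun v => Iff.rfl
  mul_mem' := fun {a b} ha hb v => by
    show a (b v) ∈ c ↔ v ∈ c
    rw [ha, hb]
  inv_mem' := fun {a} ha v => by
    rw [← ha, MulAut.apply_inv_self]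

theorem mem_St {c : Subgroup W} {x : MulAut W} : x ∈ St c ↔ ∀ v, x v ∈ c ↔ v ∈ c := Iff.rfl

/-- the elements which are trivial on `c` and `W / c` -/
def Un (c : Subgroup W) : Subgroup (MulAut W) where
  carrier := {x | (∀ v ∈ c, x v = v) ∧ ∀ v, x v * v⁻¹ ∈ c}
  one_mem' := ⟨fun v _ => rfl, fun v => by
    show v * v⁻¹ ∈ c
    rw [mul_inv_cancel]; exact one_mem _⟩
  mul_mem' := fun {a b} ha hb => ⟨fun v hv => by
    show a (b v) = v
    rw [hb.1 v hv, ha.1 v hv], fun v => by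
    show a (b v) * v⁻¹ ∈ c
    have h1 := mul_mem (ha.2 (b v)) (hb.2 v)
    have e : a (b v) * (b v)⁻¹ * (b v * v⁻¹) = a (b v) * v⁻¹ := by group
    rwa [e] at h1⟩
  inv_mem' := fun {a} ha => ⟨fun v hv => by
      have h1 := congrArg (a⁻¹ : MulAut W) (ha.1 v hv)
      rw [MulAut.inv_apply_self] at h1
      exact h1.symm, fun v => by
      have h1 := ha.2 (a⁻¹ v)
      rw [MulAut.apply_inv_self] at h1
      have h2 := inv_mem h1
      have e : (v * (a⁻¹ v)⁻¹)⁻¹ = a⁻¹ v * v⁻¹ := by rw [mul_inv_rev, inv_inv]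
      rwa [e] at h2⟩

theorem mem_Un {c : Subgroup W} {x : MulAut W} : x ∈ Un c ↔ (∀ v ∈ c, x v = v) ∧ ∀ v, x v * v⁻¹ ∈ c := Iff.rfl

theorem Un_St (c : Subgroup W) : Un c ≤ St c := by
  intro x hx v
  have h1 := hx.2 v
  constructor
  · intro h2
    have h3 := mul_mem (inv_mem h1) h2
    have e : (x v * v⁻¹)⁻¹ * x v = v := by group
    rwa [e] at h3
  · intro h2
    rw [hx.1 v h2]
    exact h2

theorem inv_eq (sq : ∀ v : W, v * v = 1) (v : W) : v⁻¹ = v := (eq_inv_of_mul_eq_one_left (sq v)).symm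

theorem Un_sq (sq : ∀ v : W, v * v = 1) {c : Subgroup W} {x : MulAut W} (hx : x ∈ Un c) : x * x = 1 := by
  ext v
  show x (x v) = v
  have h1 := hx.1 _ (hx.2 v)
  rw [map_mul, map_inv, inv_eq sq (x v), inv_eq sq v] at h1
  exact mul_right_cancel (h1.trans (mul_comm _ _))

theorem Un_comm {c : Subgroup W} {x y : MulAut W} (hx : x ∈ Un c) (hy : y ∈ Un c) : x * y = y * x := by
  ext v
  show x (y v) = y (x v)
  have h1 := hx.1 _ (hy.2 v)
  have h2 := hy.1 _ (hx.2 v)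
  rw [map_mul, map_inv, mul_inv_eq_iff_eq_mul] at h1 h2
  rw [h1, h2, mul_assoc, mul_assoc, mul_comm v⁻¹, mul_comm v⁻¹, ← mul_assoc, ← mul_assoc, mul_comm (y v)]

theorem Un_norm {c : Subgroup W} {x g : MulAut W} (hg : g ∈ St c) (hx : x ∈ Un c) : g * x * g⁻¹ ∈ Un c := by
  refine ⟨fun v hv => ?_, fun v => ?_⟩
  · show g (x (g⁻¹ v)) = v
    rw [hx.1 _ ((inv_mem hg v).2 hv), MulAut.apply_inv_self]
  · show g (x (g⁻¹ v)) * v⁻¹ ∈ c
    have h1 := (hg _).2 (hx.2 (g⁻¹ v))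
    rwa [map_mul, map_inv, MulAut.apply_inv_self] at h1

/-! ### Groups of order 4 -/

theorem four {D : Subgroup W} (hD : Nat.card D = 4) (sq : ∀ v : W, v * v = 1) {v w : W} (hv : v ∈ D)
    (hw : w ∈ D) (hv1 : v ≠ 1) (hw1 : w ≠ 1) (hvw : v ≠ w) {x : W} (hx : x ∈ D) :
    x = 1 ∨ x = v ∨ x = w ∨ x = v * w := by
  classical
  have h1 : v * w ≠ 1 := fun e => hvw (by rw [← inv_eq sq w]; exact eq_inv_of_mul_eq_one_left e)
  have h2 : v * w ≠ v := fun e => hw1 (by simpa using e)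
  have h3 : v * w ≠ w := fun e => hv1 (by simpa using e)
  have hfin : (D : Set W).Finite := Set.finite_of_ncard_ne_zero (by
    rw [← Nat.card_coe_set_eq]
    show Nat.card D ≠ 0
    rw [hD]; norm_num)
  have hs : ({1, v, w, v * w} : Set W) ⊆ D := by
    rintro y (rfl | rfl | rfl | rfl)
    · exact one_mem _
    · exact hv
    · exact hw
    · exact mul_mem hv hw
  have hc : ({1, v, w, v * w} : Set W).ncard = 4 := by
    rw [Set.ncard_insert_of_notMem, Set.ncard_insert_of_notMem, Set.ncard_insert_of_notMem, Set.ncard_singleton]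
    · simp only [Set.mem_singleton_iff]
      exact fun e => h3 e.symm
    · simp only [Set.mem_insert_iff, Set.mem_singleton_iff]
      rintro (e | e)
      · exact hvw e
      · exact h2 e.symm
    · simp only [Set.mem_insert_iff, Set.mem_singleton_iff]
      rintro (e | e | e)
      · exact hv1 e.symm
      · exact hw1 e.symm
      · exact h1 e.symm
  have he : ({1, v, w, v * w} : Set W) = D := Set.eq_of_subset_of_ncard_le hs (by
    rw [hc, ← Nat.card_coe_set_eq]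
    exact hD.le) hfin
  have h4 : x ∈ ({1, v, w, v * w} : Set W) := by rw [he]; exact hx
  simpa using h4

/-- `h` acts without fixed points on the group `D` (of order 4) -/
structure Fp (D : Subgroup W) (h : MulAut W) : Prop where
  sq : ∀ v : W, v * v = 1
  card : Nat.card D = 4
  mem : ∀ v ∈ D, h v ∈ D
  fix : ∀ v ∈ D, h v = v → v = 1

namespace Fp

variable {D : Subgroup W} {h g : MulAut W} (H : Fp D h)

include H

theorem exists_ne : ∃ v ∈ D, v ≠ 1 := by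
  by_contra hc
  push Not at hc
  have h1 : D = ⊥ := by
    rw [eq_bot_iff]
    intro v hv
    exact mem_bot.2 (hc v hv)
  have h2 := H.card
  rw [h1, Subgroup.card_bot] at h2
  omega

theorem cases {v x : W} (hv : v ∈ D) (hv1 : v ≠ 1) (hx : x ∈ D) : x = 1 ∨ x = v ∨ x = h v ∨ x = v * h v :=
  four H.card H.sq hv (H.mem v hv) hv1 (fun e => hv1 (by
    have h1 := congrArg (h⁻¹ : MulAut W) e
    rwa [MulAut.inv_apply_self, map_one] at h1)) (fun e => hv1 (H.fix v hv e.symm)) hx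

theorem ne_one {v : W} (hv1 : v ≠ 1) (g : MulAut W) : g v ≠ 1 := fun e => hv1 (by
    have h1 := congrArg (g⁻¹ : MulAut W) e
    rwa [MulAut.inv_apply_self, map_one] at h1)

theorem sq' {v : W} (hv : v ∈ D) (hv1 : v ≠ 1) : h (h v) = v * h v := by
  rcases H.cases hv hv1 (H.mem _ (H.mem v hv)) with e | e | e | e
  · exact absurd e (H.ne_one (H.ne_one hv1 h) h)
  · exfalso
    have h1 : h (v * h v) = v * h v := by rw [map_mul, e, mul_comm]
    have h2 := H.fix _ (mul_mem hv (H.mem v hv)) h1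
    have h3 : h v = v := by
      have h4 := eq_inv_of_mul_eq_one_right h2
      rwa [inv_eq H.sq] at h4
    exact hv1 (H.fix v hv h3)
  · exact absurd (H.fix _ (H.mem v hv) e) (H.ne_one hv1 h)
  · exact e

theorem three {v : W} (hv : v ∈ D) : h (h (h v)) = v := by
  by_cases hv1 : v = 1
  · rw [hv1, map_one, map_one, map_one]
  · rw [H.sq' hv hv1, map_mul, H.sq' hv hv1, mul_comm, mul_assoc, H.sq, mul_one]

theorem ext_two {f₁ f₂ : W →* W} {v : W} (hv : v ∈ D) (hv1 : v ≠ 1) (e1 : f₁ v = f₂ v) (e2 : f₁ (h v) = f₂ (h v))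
    {x : W} (hx : x ∈ D) : f₁ x = f₂ x := by
  rcases H.cases hv hv1 hx with rfl | rfl | rfl | rfl
  · rw [map_one, map_one]
  · exact e1
  · exact e2
  · rw [map_mul, map_mul, e1, e2]

theorem eq_or (H' : Fp D g) : (∀ x ∈ D, g x = h x) ∨ ∀ x ∈ D, g x = h (h x) := by
  obtain ⟨v, hv, hv1⟩ := H.exists_ne
  rcases H.cases hv hv1 (H'.mem v hv) with e | e | e | e
  · exact absurd e (H.ne_one hv1 g)
  · exact absurd (H'.fix v hv e) hv1
  · left
    intro x hx
    refine H.ext_two (f₁ := g.toMonoidHom) (f₂ := h.toMonoidHom) hv hv1 e ?_ hx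
    show g (h v) = h (h v)
    rw [← e, H'.sq' hv hv1, e, H.sq' hv hv1]
  · right
    intro x hx
    refine H.ext_two (f₁ := g.toMonoidHom) (f₂ := (h * h : MulAut W).toMonoidHom) hv hv1 ?_ ?_ hx
    · show g v = h (h v)
      rw [e, H.sq' hv hv1]
    · show g (h v) = h (h (h v))
      have e1 : h v = v * g v := by rw [e, ← mul_assoc, H.sq, one_mul]
      rw [H.three hv]
      have e2 : g (h v) = g v * g (g v) := by rw [e1, map_mul]
      rw [e2, H'.sq' hv hv1, mul_comm, mul_assoc, H.sq, mul_one]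

theorem cent (hg : ∀ v ∈ D, g v ∈ D) (hc : ∀ v ∈ D, g (h v) = h (g v)) :
    (∀ x ∈ D, g x = x) ∨ (∀ x ∈ D, g x = h x) ∨ ∀ x ∈ D, g x = h (h x) := by
  obtain ⟨v, hv, hv1⟩ := H.exists_ne
  rcases H.cases hv hv1 (hg v hv) with e | e | e | e
  · exact absurd e (H.ne_one hv1 g)
  · left
    intro x hx
    refine H.ext_two (f₁ := g.toMonoidHom) (f₂ := MonoidHom.id W) hv hv1 e ?_ hx
    show g (h v) = h v
    rw [hc v hv, e]
  · right; left
    intro x hx
    refine H.ext_two (f₁ := g.toMonoidHom) (f₂ := h.toMonoidHom) hv hv1 e ?_ hx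
    show g (h v) = h (h v)
    rw [hc v hv, e]
  · right; right
    intro x hx
    refine H.ext_two (f₁ := g.toMonoidHom) (f₂ := (h * h : MulAut W).toMonoidHom) hv hv1 ?_ ?_ hx
    · show g v = h (h v)
      rw [e, H.sq' hv hv1]
    · show g (h v) = h (h (h v))
      rw [hc v hv, e, ← H.sq' hv hv1]

theorem cent_three (hg : ∀ v ∈ D, g v ∈ D) (hc : ∀ v ∈ D, g (h v) = h (g v)) {x : W} (hx : x ∈ D) :
    g (g (g x)) = x := by
  rcases H.cent hg hc with e | e | e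
  · rw [e x hx, e x hx, e x hx]
  · rw [e x hx, e _ (H.mem x hx), e _ (H.mem _ (H.mem x hx)), H.three hx]
  · have h1 := H.mem x hx
    have h2 := H.mem _ h1
    rw [e x hx, e _ h2, H.three h1, e _ h1, H.three hx]

theorem cent_two (hg : ∀ v ∈ D, g v ∈ D) (hc : ∀ v ∈ D, g (h v) = h (g v)) (h2 : ∀ v ∈ D, g (g v) = v) {x : W}
    (hx : x ∈ D) : g x = x := by
  have h1 := H.cent_three hg hc hx
  rw [h2 _ (hg x hx)] at h1
  exact h1

end Fp

theorem exists_fix (sq : ∀ v : W, v * v = 1) {c : Subgroup W} {s : MulAut W} {n : ℕ}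
    (hn : s ^ (2 ^ n) = 1) (hc : ∃ v, v ∉ c) : ∃ v, v ∉ c ∧ s v * v⁻¹ ∈ c := by
  by_contra hcon
  push Not at hcon
  have key : ∀ m : ℕ, ∀ v, v ∉ c → (s ^ (2 ^ m)) v * v ∉ c := by
    intro m
    induction m with
    | zero =>
      intro v hv
      have h1 := hcon v hv
      rw [inv_eq sq] at h1
      rwa [pow_zero, pow_one]
    | succ m ih =>
      intro v hv
      have h1 := ih _ (ih v hv)
      have e : (s ^ (2 ^ m)) ((s ^ (2 ^ m)) v * v) * ((s ^ (2 ^ m)) v * v) = (s ^ (2 ^ (m + 1))) v * v := by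
        rw [map_mul, pow_succ 2 m, mul_comm (2 ^ m) 2, two_mul, pow_add, MulAut.mul_apply]
        rw [mul_assoc, ← mul_assoc ((s ^ (2 ^ m)) v), sq, one_mul]
      rwa [e] at h1
  obtain ⟨v, hv⟩ := hc
  apply key n v hv
  rw [hn, MulAut.one_apply, sq]
  exact one_mem _

/-- a 2-element which fixes a vector inverts `h` -/
theorem Fp.of_t {D : Subgroup W} {h t : MulAut W} (H : Fp D h) (H' : Fp D (t * h * t⁻¹)) (tD : t ∈ St D)
    (hf : ∃ v ∈ D, v ≠ 1 ∧ t v = v) (hn : ∃ v ∈ D, t v ≠ v) : ∀ v ∈ D, (t * h * t⁻¹) v = h (h v) := by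
  rcases H.eq_or H' with e | e
  · exfalso
    have hc : ∀ v ∈ D, t (h v) = h (t v) := by
      intro v hv
      have h1 := e (t v) ((tD v).2 hv)
      rwa [MulAut.mul_apply, MulAut.mul_apply, MulAut.inv_apply_self] at h1
    obtain ⟨v, hv, hv1, hv2⟩ := hf
    obtain ⟨w, hw, hw2⟩ := hn
    rcases H.cent (fun v hv => (tD v).2 hv) hc with e1 | e1 | e1
    · exact hw2 (e1 w hw)
    · exact hv1 (H.fix v hv (by rw [← e1 v hv]; exact hv2))
    · have h2 : h (h v) = v := by rw [← e1 v hv]; exact hv2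
      have h3 := H.three hv
      rw [h2] at h3
      exact hv1 (H.fix v hv h3)
  · exact e

/-- the action on `W / c` -/
def quo {c : Subgroup W} (g : MulAut W) (hg : g ∈ St c) : MulAut (W ⧸ c) :=
  QuotientGroup.congr c c g (by
    ext v
    simp only [mem_map]
    constructor
    · rintro ⟨w, hw, rfl⟩
      exact (hg w).2 hw
    · intro hv
      exact ⟨g⁻¹ v, (inv_mem hg v).2 hv, MulAut.apply_inv_self _ _ _⟩)

theorem quo_mk {c : Subgroup W} {g : MulAut W} (hg : g ∈ St c) (v : W) :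
    quo g hg (QuotientGroup.mk v) = QuotientGroup.mk (g v) := rfl

theorem mk_eq {c : Subgroup W} {v w : W} : (QuotientGroup.mk v : W ⧸ c) = QuotientGroup.mk w ↔ v * w⁻¹ ∈ c := by
  rw [QuotientGroup.eq]
  constructor
  · intro h
    have := inv_mem h
    rwa [mul_inv_rev, inv_inv, mul_comm] at this
  · intro h
    have := inv_mem h
    rwa [mul_inv_rev, inv_inv, mul_comm] at this

theorem p3 {G : Type*} [Group G] (x : G) : x ^ 3 = x * x * x := by rw [pow_succ, pow_two]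

theorem idA {G : Type*} [Group G] {b h : G} (hb : b * b = 1) (h3 : h ^ 3 = 1) (hg : (b * h) ^ 3 = 1) :
    (h * b * h⁻¹)⁻¹ * h * (h * b * h⁻¹) = b * h := by
  have eb : b⁻¹ = b := (eq_inv_of_mul_eq_one_left hb).symm
  have e3 : h * (h * h) = 1 := by rw [← h3, p3, mul_assoc]
  have e4 : b * (h * (b * (h * (b * h)))) = 1 := by rw [← hg, p3]; group
  have e5 : h⁻¹ * h⁻¹ = h := by
    have : h * h * h = 1 := by rw [mul_assoc]; exact e3
    rw [← mul_inv_rev]
    exact (eq_inv_of_mul_eq_one_right this).symm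
  have e6 : h * b * h * b = b * h⁻¹ := by
    have h1 : b * (h * b * h * b) * h = 1 := by rw [← e4]; group
    have h2 : b * (h * b * h * b) = h⁻¹ := eq_inv_of_mul_eq_one_left h1
    rw [← h2, ← mul_assoc, hb, one_mul]
  calc (h * b * h⁻¹)⁻¹ * h * (h * b * h⁻¹) = h * b⁻¹ * h * b * h⁻¹ := by group
    _ = b * (h⁻¹ * h⁻¹) := by rw [eb, e6, mul_assoc]
    _ = b * h := by rw [e5]

/-! ### The data -/

structure Dt (c : Subgroup W) (K B B₀ Y : Subgroup (MulAut W)) (h t : MulAut W) (z : W) : Prop where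
  sq : ∀ v : W, v * v = 1
  cW : Nat.card W = 16
  cc : Nat.card c = 4
  B₀K : B₀ ≤ K
  KY : K ≤ Y
  BY : B ≤ Y
  Bc : B ≤ St c
  pB : IsPGroup 2 B
  syl : ∀ T : Subgroup (MulAut W), B ≤ T → T ≤ Y → IsPGroup 2 T → T ≤ B
  sylK : ∀ T : Subgroup (MulAut W), B₀ ≤ T → T ≤ K → IsPGroup 2 T → T ≤ B₀
  BK : ∀ b ∈ B, ∀ x ∈ K, b * x * b⁻¹ ∈ K
  un : B₀ ≤ Un c
  free : ∀ b ∈ B₀, ∀ v, v ∉ c → b v = v → b = 1
  c4 : Nat.card B₀ = 4
  ti : ∀ x ∈ K, x ∈ St c ∨ ∀ v ∈ c, x v ∈ c → v = 1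
  mv : ∃ x ∈ K, x ∉ St c
  hK : h ∈ K
  hc : h ∈ St c
  h3 : h ^ 3 = 1
  hf : ∀ v ∈ c, h v = v → v = 1
  hq : ∀ v, h v * v⁻¹ ∈ c → v ∈ c
  mB : ∀ b ∈ B, (∀ v ∈ c, b v = v) → b ∈ B₀
  tB : t ∈ B
  tn : ∃ v ∈ c, t v ≠ v
  zc : z ∈ c
  z1 : z ≠ 1
  tz : t z = z

theorem norm_of {X T : Subgroup (MulAut W)} (h1 : ∀ g ∈ T, ∀ y ∈ X, g * y * g⁻¹ ∈ X) :
    T ≤ normalizer (X : Set (MulAut W)) := by
  intro g hg
  rw [mem_normalizer_iff]
  refine fun y => ⟨fun hy => h1 g hg y hy, fun hy => ?_⟩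
  have h2 := h1 _ (inv_mem hg) _ hy
  have e : g⁻¹ * (g * y * g⁻¹) * g⁻¹⁻¹ = y := by group
  rwa [e] at h2

namespace Dt

variable {c : Subgroup W} {K B B₀ Y : Subgroup (MulAut W)} {h t : MulAut W} {z : W} (D : Dt c K B B₀ Y h t z)

include D

theorem Un_p {X : Subgroup (MulAut W)} (hX : X ≤ Un c) : IsPGroup 2 X := by
  intro x
  refine ⟨1, ?_⟩
  rw [pow_one, pow_two]
  exact Subtype.ext (Un_sq D.sq (hX x.2))

theorem KUn {x : MulAut W} (hx : x ∈ K) (hu : x ∈ Un c) : x ∈ B₀ :=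
  D.sylK (K ⊓ Un c) (le_inf D.B₀K D.un) inf_le_left (D.Un_p inf_le_right) ⟨hx, hu⟩

theorem YUnB {x : MulAut W} (hx : x ∈ Y) (hu : x ∈ Un c) : x ∈ B := by
  have hn : B ≤ normalizer ((Y ⊓ Un c : Subgroup (MulAut W)) : Set (MulAut W)) :=
    norm_of fun g hg y hy => ⟨Y.mul_mem (Y.mul_mem (D.BY hg) hy.1) (Y.inv_mem (D.BY hg)), Un_norm (D.Bc hg) hy.2⟩
  have hp : IsPGroup 2 (B ⊔ (Y ⊓ Un c) : Subgroup (MulAut W)) :=
    IsPGroup.to_sup_of_normal_right' D.pB (D.Un_p inf_le_right) hn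
  exact D.syl _ le_sup_left (sup_le D.BY inf_le_left) hp (mem_sup_right ⟨hx, hu⟩)

theorem YUn {x : MulAut W} (hx : x ∈ Y) (hu : x ∈ Un c) : x ∈ B₀ := D.mB x (D.YUnB hx hu) hu.1

theorem B₀B : B₀ ≤ B := fun _ hx => D.YUnB (D.KY (D.B₀K hx)) (D.un hx)

theorem KN {g x : MulAut W} (hg : g ∈ K) (hg' : g ∈ St c) (hx : x ∈ B₀) : g * x * g⁻¹ ∈ B₀ :=
  D.KUn (mul_mem (mul_mem hg (D.B₀K hx)) (inv_mem hg)) (Un_norm hg' (D.un hx))

theorem BB {g x : MulAut W} (hg : g ∈ B) (hx : x ∈ B₀) : g * x * g⁻¹ ∈ B₀ :=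
  D.KUn (D.BK g hg x (D.B₀K hx)) (Un_norm (D.Bc hg) (D.un hx))

theorem orb [Finite W] {v a : W} (hv : v ∉ c) (ha : a ∈ c) : ∃ b ∈ B₀, b v = v * a := by
  have hinj : Function.Injective (fun b : B₀ => (⟨(b : MulAut W) v * v⁻¹, (D.un b.2).2 v⟩ : c)) := by
    intro b b' e
    have e1 : (b : MulAut W) v = (b' : MulAut W) v := by
      have := congrArg Subtype.val e
      exact mul_right_cancel this
    have h1 : ((b' : MulAut W)⁻¹ * b) v = v := by rw [MulAut.mul_apply, e1, MulAut.inv_apply_self]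
    have h2 := D.free _ (mul_mem (inv_mem b'.2) b.2) v hv h1
    exact Subtype.ext (inv_mul_eq_one.1 h2).symm
  have hbij := hinj.bijective_of_nat_card_le (by rw [D.c4, D.cc])
  obtain ⟨b, hb⟩ := hbij.2 ⟨a, ha⟩
  refine ⟨b, b.2, ?_⟩
  have := congrArg Subtype.val hb
  simp only at this
  rw [mul_inv_eq_iff_eq_mul] at this
  rw [this, mul_comm]

theorem fpc : Fp c h := ⟨D.sq, D.cc, fun v hv => (D.hc v).2 hv, D.hf⟩

theorem dec [Finite W] {x : MulAut W} (hti : ∀ v ∈ c, x v ∈ c → v = 1) (w : W) :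
    ∃ a ∈ c, ∃ m ∈ c, w = a * x m := by
  have hinj : Function.Injective (fun p : c × c => (p.1 : W) * x p.2) := by
    rintro ⟨a, m⟩ ⟨a', m'⟩ e
    simp only at e
    have h1 : x ((m : W) * (m' : W)⁻¹) = (a : W)⁻¹ * a' := by
      rw [map_mul, map_inv, mul_inv_eq_iff_eq_mul, mul_assoc, ← e, inv_mul_cancel_left]
    have h2 : (m : W) * (m' : W)⁻¹ = 1 :=
      hti _ (mul_mem m.2 (inv_mem m'.2)) (by rw [h1]; exact mul_mem (inv_mem a.2) a'.2)
    have h3 : (m : W) = m' := mul_inv_eq_one.1 h2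
    rw [h3] at e
    exact Prod.ext (Subtype.ext (mul_right_cancel e)) (Subtype.ext h3)
  have hb := hinj.bijective_of_nat_card_le (by rw [Nat.card_prod, D.cc, D.cW])
  obtain ⟨⟨a, m⟩, e⟩ := hb.2 w
  exact ⟨a, a.2, m, m.2, e.symm⟩

theorem ti' {x : MulAut W} (hx : x ∈ K) (hn : x ∉ St c) : ∀ v ∈ c, x v ∈ c → v = 1 := (D.ti x hx).resolve_left hn

theorem lines [Finite W] {x x' : MulAut W} (hx : x ∈ K) (hn : x ∉ St c) (hx' : x' ∈ K) (hn' : x' ∉ St c) :
    ∃ b ∈ B₀, x'⁻¹ * b * x ∈ St c := by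
  obtain ⟨a, ha, w, hw, e⟩ := D.dec (D.ti' hx hn) (x' z)
  have hw1 : w ≠ 1 := by
    rintro rfl
    rw [map_one, mul_one] at e
    exact D.z1 (D.ti' hx' hn' z D.zc (by rw [e]; exact ha))
  have hxw : x w ∉ c := fun h => hw1 (D.ti' hx hn w hw h)
  obtain ⟨b, hb, hbe⟩ := D.orb hxw ha
  refine ⟨b, hb, ?_⟩
  rcases D.ti (x'⁻¹ * b * x) (mul_mem (mul_mem (inv_mem hx') (D.B₀K hb)) hx) with h1 | h1
  · exact h1
  · exfalso
    apply hw1
    apply h1 w hw
    show x'⁻¹ (b (x w)) ∈ c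
    rw [hbe, mul_comm, ← e, MulAut.inv_apply_self]
    exact D.zc

theorem free' {x b : MulAut W} (hx : x ∈ K) (hn : x ∉ St c) (hb : b ∈ B₀) (hs : x⁻¹ * b * x ∈ St c) : b = 1 := by
  have h1 : (x⁻¹ * b * x) z ∈ c := (hs z).2 D.zc
  have h2 : x z ∉ c := fun h => D.z1 (D.ti' hx hn z D.zc h)
  refine D.free b hb (x z) h2 ?_
  have h3 := (D.un hb).2 (x z)
  have e : b (x z) * (x z)⁻¹ = x ((x⁻¹ * b * x) z * z⁻¹) := by
    rw [map_mul, map_inv]
    congr 1
    show b (x z) = x (x⁻¹ (b (x z)))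
    rw [MulAut.apply_inv_self]
  rw [e] at h3
  have h4 := D.ti' hx hn _ (mul_mem h1 (inv_mem D.zc)) h3
  rw [h4, map_one] at e
  exact mul_inv_eq_one.1 e

/-- an `h`-invariant line `≠ c` -/
theorem exists_line [Finite W] : ∃ x ∈ K, x ∉ St c ∧ x⁻¹ * h * x ∈ St c := by
  obtain ⟨x, hx, hn⟩ := D.mv
  obtain ⟨b, hb, hs⟩ := D.lines hx hn (mul_mem D.hK hx) fun h1 => hn (by
    have := mul_mem (inv_mem D.hc) h1
    rwa [inv_mul_cancel_left] at this)
  have hb2 := Un_sq D.sq (D.un hb)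
  have eb : b⁻¹ = b := (eq_inv_of_mul_eq_one_left hb2).symm
  have h1 : x⁻¹ * (b * h) * x ∈ St c := by
    have := inv_mem hs
    have e : ((h * x)⁻¹ * b * x)⁻¹ = x⁻¹ * (b⁻¹ * h) * x := by group
    rwa [e, eb] at this
  have h2 : x⁻¹ * (b * h) ^ 3 * x ∈ St c := by
    have := pow_mem h1 3
    have e : (x⁻¹ * (b * h) * x) ^ 3 = x⁻¹ * (b * h) ^ 3 * x := by
      rw [p3, p3]; group
    rwa [e] at this
  have h3 : (b * h) ^ 3 = b * (h * b * h⁻¹) * (h * (h * b * h⁻¹) * h⁻¹) * h ^ 3 := by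
    rw [p3, p3]; group
  have h4 := D.KN D.hK D.hc hb
  have h5 := D.KN D.hK D.hc h4
  have h6 : (b * h) ^ 3 = 1 := by
    refine D.free' hx hn ?_ h2
    rw [h3, D.h3, mul_one]
    exact mul_mem (mul_mem hb h4) h5
  have h7 := idA hb2 D.h3 h6
  refine ⟨h * b * h⁻¹ * x, mul_mem (D.B₀K h4) hx, fun h8 => hn ?_, ?_⟩
  · have := mul_mem (inv_mem (Un_St c (D.un h4))) h8
    rwa [inv_mul_cancel_left] at this
  · have e : (h * b * h⁻¹ * x)⁻¹ * h * (h * b * h⁻¹ * x) = x⁻¹ * ((h * b * h⁻¹)⁻¹ * h * (h * b * h⁻¹)) * x := by group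
    rw [e, h7]
    exact h1

/-- an element of `K` which swaps two `h`-invariant lines -/
theorem exists_swap [Finite W] : ∃ x ∈ K, x ∉ St c ∧ x * x ∈ St c ∧ x⁻¹ * h * x ∈ St c := by
  obtain ⟨x, hx, hn, hh⟩ := D.exists_line
  obtain ⟨b, hb, hs⟩ := D.lines hx hn (inv_mem hx) fun h1 => hn (by simpa using inv_mem h1)
  have hbS := Un_St c (D.un hb)
  rw [inv_inv] at hs
  refine ⟨x * b, mul_mem hx (D.B₀K hb), fun h8 => hn ?_, ?_, ?_⟩
  · have := mul_mem h8 (inv_mem hbS)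
    rwa [mul_inv_cancel_right] at this
  · have e : x * b * (x * b) = x * b * x * b := by group
    rw [e]
    exact mul_mem hs hbS
  · have e : (x * b)⁻¹ * h * (x * b) = b⁻¹ * (x⁻¹ * h * x) * b := by group
    rw [e]
    exact mul_mem (mul_mem (inv_mem hbS) hh) hbS

/-- `N_K(c)` induces a group of odd order on `c` -/
theorem odd_c [Finite W] {g : MulAut W} (hg : g ∈ K) (hs : g ∈ St c) (h2 : ∀ v ∈ c, g (g v) = v) :
    ∀ v ∈ c, g v = v := by
  obtain ⟨a, m, hm, e⟩ := Nat.exists_eq_two_pow_mul_odd (n := orderOf g) (orderOf_pos g).ne'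
  have h3 : (g ^ m) ^ (2 ^ a) = 1 := by
    rw [← pow_mul, mul_comm, ← e, pow_orderOf_eq_one]
  have hgm : g ^ m ∈ K := pow_mem hg m
  have hgs : g ^ m ∈ St c := pow_mem hs m
  have hp : IsPGroup 2 (zpowers (g ^ m)) := by
    rw [IsPGroup.iff_card]
    obtain ⟨k, -, hk⟩ := (Nat.dvd_prime_pow Nat.prime_two).1 (orderOf_dvd_of_pow_eq_one h3)
    exact ⟨k, by rw [Nat.card_zpowers, hk]⟩
  have hn : zpowers (g ^ m) ≤ normalizer (B₀ : Set (MulAut W)) := by
    have h5 : zpowers (g ^ m) ≤ K ⊓ St c := by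
      rw [zpowers_le]
      exact ⟨hgm, hgs⟩
    exact norm_of fun x hx y hy => D.KN (h5 hx).1 (h5 hx).2 hy
  have hp' : IsPGroup 2 (zpowers (g ^ m) ⊔ B₀ : Subgroup (MulAut W)) :=
    IsPGroup.to_sup_of_normal_right' hp (D.Un_p D.un) hn
  have h6 : g ^ m ∈ B₀ := D.sylK _ le_sup_right (sup_le (by rw [zpowers_le]; exact hgm) D.B₀K) hp'
    (mem_sup_left (mem_zpowers _))
  intro v hv
  have h7 := (D.un h6).1 v hv
  obtain ⟨k, rfl⟩ := hm
  have h8 : ∀ k : ℕ, (g ^ (2 * k + 1)) v = g v := by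
    intro k
    induction k with
    | zero => simp
    | succ k ih =>
      have e1 : g ^ (2 * (k + 1) + 1) = g * g * g ^ (2 * k + 1) := by
        rw [show 2 * (k + 1) + 1 = 2 + (2 * k + 1) by ring, pow_add, pow_two]
      rw [e1, MulAut.mul_apply, ih, MulAut.mul_apply, h2 _ ((hs v).2 hv)]
  rw [← h8 k]
  exact h7

theorem no_inv [Finite W] {g : MulAut W} (hg : g ∈ K) (hs : g ∈ St c) (hi : ∀ v ∈ c, g (h v) = h (h (g v))) :
    False := by
  have F := D.fpc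
  have hgc : ∀ v ∈ c, g v ∈ c := fun v hv => (hs v).2 hv
  have hz1 : ∀ v ∈ c, v ≠ 1 → h (g v) = h (h (g v)) → False := by
    intro v hv hv1 e
    exact F.ne_one (F.ne_one hv1 g) h (F.fix _ (F.mem _ (hgc v hv)) e.symm)
  have h1 : ∀ v ∈ c, (g * g) (h v) = h ((g * g) v) := by
    intro v hv
    show g (g (h v)) = h (g (g v))
    rw [hi v hv, hi _ (F.mem _ (hgc v hv)), hi _ (hgc v hv), F.three (F.mem _ (hgc _ (hgc v hv)))]
  rcases F.cent (g := g * g) (fun v hv => hgc _ (hgc v hv)) h1 with e | e | e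
  · have h2 := D.odd_c hg hs e
    have h3 := hi z D.zc
    rw [h2 z D.zc, h2 _ (F.mem z D.zc)] at h3
    exact F.ne_one D.z1 h (F.fix _ (F.mem z D.zc) h3.symm)
  · refine hz1 z D.zc D.z1 ?_
    rw [← hi z D.zc, ← e z D.zc]
    exact (e _ (hgc z D.zc)).symm
  · refine hz1 z D.zc D.z1 ?_
    have h4 : g (g (g z)) = h (h (g z)) := e _ (hgc z D.zc)
    have h5 : g (g (g z)) = g (h (h z)) := congrArg g (e z D.zc)
    rw [← h4, h5, hi _ (F.mem z D.zc), hi z D.zc, F.three (F.mem _ (hgc z D.zc))]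

theorem eps [Finite W] {x : MulAut W} (hx : x ∈ K) (hn : x ∉ St c) (hxx : x * x ∈ St c)
    (hh : x⁻¹ * h * x ∈ St c) : x * h = h * x ∨ x * h * x⁻¹ = h * h := by
  have F := D.fpc
  have hti := D.ti' hx hn
  have hh' : x * h * x⁻¹ ∈ St c := by
    have h1 := mul_mem (mul_mem hxx hh) (inv_mem hxx)
    have e : x * x * (x⁻¹ * h * x) * (x * x)⁻¹ = x * h * x⁻¹ := by group
    rwa [e] at h1
  have F1 : Fp c (x * h * x⁻¹) := ⟨D.sq, D.cc, fun v hv => (hh' v).2 hv, fun v hv e => by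
    have e1 : h (x⁻¹ v) = x⁻¹ v := by
      have h1 : x (h (x⁻¹ v)) = v := e
      have h2 := congrArg (x⁻¹ : MulAut W) h1
      rwa [MulAut.inv_apply_self] at h2
    have h3 : x⁻¹ v ∈ c := D.hq _ (by rw [e1, mul_inv_cancel]; exact one_mem _)
    have h4 := hti _ h3 (by rw [MulAut.apply_inv_self]; exact hv)
    have h5 := congrArg (x : MulAut W) h4
    rwa [MulAut.apply_inv_self, map_one] at h5⟩
  have F2 : Fp c (x⁻¹ * h * x) := ⟨D.sq, D.cc, fun v hv => (hh v).2 hv, fun v hv e => by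
    have e1 : h (x v) = x v := by
      have h1 : x⁻¹ (h (x v)) = v := e
      have h2 := congrArg (x : MulAut W) h1
      rwa [MulAut.apply_inv_self] at h2
    exact hti v hv (D.hq _ (by rw [e1, mul_inv_cancel]; exact one_mem _))⟩
  have hg : ∀ v, (x * x) ((x⁻¹ * h * x) v) = (x * h * x⁻¹) ((x * x) v) := by
    intro v
    show x (x (x⁻¹ (h (x v)))) = x (h (x⁻¹ (x (x v))))
    rw [MulAut.apply_inv_self, MulAut.inv_apply_self]
  have hgc : ∀ v ∈ c, (x * x) v ∈ c := fun v hv => (hxx v).2 hv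
  have hk : ∀ v, h (x v) = x ((x⁻¹ * h * x) v) := by
    intro v
    show h (x v) = x (x⁻¹ (h (x v)))
    rw [MulAut.apply_inv_self]
  rcases F.eq_or F1 with e1 | e1 <;> rcases F.eq_or F2 with e2 | e2
  · left
    ext w
    obtain ⟨a, ha, m, hm, rfl⟩ := D.dec hti w
    show x (h (a * x m)) = h (x (a * x m))
    rw [map_mul, map_mul, map_mul, map_mul, hk a, e2 a ha]
    congr 1
    have h1 := e1 _ (hgc m hm)
    have h2 : (x * h * x⁻¹) ((x * x) m) = x (h (x m)) := by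
      show x (h (x⁻¹ (x (x m)))) = _
      rw [MulAut.inv_apply_self]
    rw [h2] at h1
    exact h1
  · exfalso
    refine D.no_inv (mul_mem hx hx) hxx fun v hv => ?_
    have h1 := hg (h v)
    rw [e2 _ (F.mem v hv), F.three hv, e1 _ (hgc _ (F.mem v hv))] at h1
    rw [h1, F.three (hgc _ (F.mem v hv))]
  · exfalso
    refine D.no_inv (mul_mem hx hx) hxx fun v hv => ?_
    have h1 := hg v
    rwa [e2 v hv, e1 _ (hgc v hv)] at h1
  · right
    ext w
    obtain ⟨a, ha, m, hm, rfl⟩ := D.dec hti w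
    rw [map_mul, map_mul, e1 a ha]
    congr 1
    show x (h (x⁻¹ (x m))) = h (h (x m))
    rw [MulAut.inv_apply_self, hk m, hk, e2 m hm, e2 _ (F.mem _ (F.mem m hm)), F.three (F.mem m hm)]

theorem exists_y_of [Finite W] {x w : MulAut W} (hti : ∀ v ∈ c, x v ∈ c → v = 1) (hwY : w ∈ Y)
    (hwh : w * h = h * w) (hw2 : w * w ∈ St c) (hwx : w⁻¹ * x ∈ St c) :
    ∃ y ∈ Y, y * y = 1 ∧ y * h = h * y ∧ y ∉ St c := by
  have F := D.fpc
  have hwn : w ∉ St c := by
    intro h1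
    have h2 := mul_mem h1 hwx
    rw [mul_inv_cancel_left] at h2
    exact D.z1 (hti z D.zc ((h2 z).2 D.zc))
  have hc : ∀ v, w (h v) = h (w v) := fun v => by
    have := congrArg (fun g : MulAut W => g v) hwh
    exact this
  have h3 : ∀ v ∈ c, (w * w) ((w * w) ((w * w) v)) = v := by
    intro v hv
    refine F.cent_three (g := w * w) (fun v hv => (hw2 v).2 hv) (fun v hv => ?_) hv
    show w (w (h v)) = h (w (w v))
    rw [hc, hc]
  refine ⟨w * w * w, mul_mem (mul_mem hwY hwY) hwY, ?_, ?_, fun h1 => hwn ?_⟩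
  · ext v
    obtain ⟨a, ha, m, hm, rfl⟩ := D.dec hti v
    have e1 : w * w * w * (w * w * w) = w * w * (w * w) * (w * w) := by group
    rw [e1, map_mul]
    have e2 : x m = w ((w⁻¹ * x) m) := by
      show x m = w (w⁻¹ (x m))
      rw [MulAut.apply_inv_self]
    rw [MulAut.one_apply]
    congr 1
    · exact h3 a ha
    · rw [e2]
      have h4 := h3 _ ((hwx m).2 hm)
      show w (w (w (w (w (w (w ((w⁻¹ * x) m))))))) = w ((w⁻¹ * x) m)
      have h5 : w (w (w (w (w (w ((w⁻¹ * x) m)))))) = (w⁻¹ * x) m := h4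
      rw [h5]
  · rw [mul_assoc, hwh, ← mul_assoc, mul_assoc w w h, hwh, ← mul_assoc, hwh]
    group
  · have := mul_mem (inv_mem hw2) h1
    rwa [inv_mul_cancel_left] at this

theorem t_q [Finite W] : ∃ v, t v * v⁻¹ ∉ c := by
  by_contra hcon
  push Not at hcon
  have key : ∀ v, v ∉ c → ∃ b ∈ B₀, b v = v * z ∧ ∀ w, t (b w) = b (t w) := by
    intro v hv
    obtain ⟨b, hb, hbe⟩ := D.orb hv D.zc
    have h1 := D.BB D.tB hb
    have h3 : (t * b * t⁻¹) v = b v := by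
      have e1 : (t * b * t⁻¹) (t v) = t v * z := by
        show t (b (t⁻¹ (t v))) = _
        rw [MulAut.inv_apply_self, hbe, map_mul, D.tz]
      have e2 : (t * b * t⁻¹) (t v * v⁻¹) = t v * v⁻¹ := (D.un h1).1 _ (hcon v)
      rw [map_mul, e1, map_inv, mul_assoc] at e2
      have e3 := mul_left_cancel e2
      rw [mul_inv_eq_iff_eq_mul, eq_inv_mul_iff_mul_eq] at e3
      rw [hbe, e3]
    have h4 : b⁻¹ * (t * b * t⁻¹) = 1 := by
      refine D.free _ (mul_mem (inv_mem hb) h1) v hv ?_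
      rw [MulAut.mul_apply, h3, MulAut.inv_apply_self]
    have h5 : t * b * t⁻¹ = b := (inv_mul_eq_one.1 h4).symm
    refine ⟨b, hb, hbe, fun w => ?_⟩
    have h6 : t * b = b * t := by rw [mul_inv_eq_iff_eq_mul] at h5; exact h5
    exact congrArg (fun g : MulAut W => g w) h6
  obtain ⟨x, hx, hn⟩ := D.mv
  have hti := D.ti' hx hn
  have F := D.fpc
  have hv : x z ∉ c := fun h1 => D.z1 (hti z D.zc h1)
  have hv' : x (h z) ∉ c := fun h1 => F.ne_one D.z1 h (hti _ (F.mem z D.zc) h1)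
  have hvv : x z * x (h z) ∉ c := by
    rw [← map_mul]
    intro h1
    have h2 := hti _ (mul_mem D.zc (F.mem z D.zc)) h1
    have h3 := eq_inv_of_mul_eq_one_right h2
    rw [inv_eq D.sq] at h3
    exact D.z1 (F.fix z D.zc h3)
  obtain ⟨b, hb, hbe, -⟩ := key _ hv
  obtain ⟨b', hb', hbe', hbt'⟩ := key _ hv'
  have hac := (D.un hb').2 (x z)
  have hz : ∀ v : W, v * z ≠ v := fun v e => D.z1 (by simpa using e)
  have ha1 : b' (x z) * (x z)⁻¹ ≠ 1 := by
    intro e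
    have h1 := D.free b' hb' _ hv (mul_inv_eq_one.1 e)
    rw [h1] at hbe'
    exact hz _ hbe'.symm
  have haz : z ≠ b' (x z) * (x z)⁻¹ := by
    intro e
    rw [eq_mul_inv_iff_mul_eq, mul_comm, ← hbe] at e
    have h1 : b'⁻¹ * b = 1 := by
      refine D.free _ (mul_mem (inv_mem hb') hb) _ hv ?_
      rw [MulAut.mul_apply, e, MulAut.inv_apply_self]
    have h2 : b' = b := inv_mul_eq_one.1 h1
    subst h2
    have h3 : b' (x z * x (h z)) = x z * x (h z) := by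
      rw [map_mul, hbe, hbe', mul_mul_mul_comm, D.sq z, mul_one]
    have h4 := D.free b' hb' _ hvv h3
    rw [h4] at hbe'
    exact hz _ hbe'.symm
  have hta : t (b' (x z) * (x z)⁻¹) = b' (x z) * (x z)⁻¹ := by
    have h1 := (D.un hb').1 _ (hcon (x z))
    rw [map_mul, map_inv, mul_inv_eq_iff_eq_mul] at h1
    have e : ∀ p q r : W, p * q * r * p⁻¹ = r * q := fun p q r => by
      rw [mul_comm p q, mul_assoc q p r, mul_comm p r, mul_assoc q, mul_assoc r, mul_inv_cancel, mul_one, mul_comm]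
    rw [map_mul, map_inv, hbt', h1, e]
  obtain ⟨v, hv, hne⟩ := D.tn
  apply hne
  rcases four D.cc D.sq D.zc hac D.z1 ha1 haz hv with rfl | rfl | rfl | rfl
  · rw [map_one]
  · exact D.tz
  · exact hta
  · rw [map_mul, D.tz, hta]

/-- `h` acts fixed point freely on `W / c` -/
theorem fpq [Finite W] : Fp (⊤ : Subgroup (W ⧸ c)) (quo h D.hc) where
  sq := fun v => by
    induction v using QuotientGroup.induction_on with
    | H v => rw [← QuotientGroup.mk_mul, D.sq]; rfl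
  card := by
    rw [Subgroup.card_top]
    have h1 := Subgroup.card_eq_card_quotient_mul_card_subgroup c
    rw [D.cW, D.cc] at h1
    omega
  mem := fun _ _ => mem_top _
  fix := fun v _ e => by
    induction v using QuotientGroup.induction_on with
    | H v =>
      rw [quo_mk, mk_eq] at e
      exact (QuotientGroup.eq_one_iff v).2 (D.hq v e)

/-- an element of `B` which inverts `h` -/
theorem exists_t [Finite W] : ∃ t' ∈ B, t' * h * t'⁻¹ = h⁻¹ := by
  have tS := D.Bc D.tB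
  have F := D.fpc
  have ei : h⁻¹ = h * h := by
    have h1 : h * h * h = 1 := by rw [← p3]; exact D.h3
    exact (eq_inv_of_mul_eq_one_left h1).symm
  have hthS : t * h * t⁻¹ ∈ St c := mul_mem (mul_mem tS D.hc) (inv_mem tS)
  have F1 : Fp c (t * h * t⁻¹) := ⟨D.sq, D.cc, fun v hv => (hthS v).2 hv, fun v hv e => by
    have e1 : h (t⁻¹ v) = t⁻¹ v := by
      have h1 : t (h (t⁻¹ v)) = v := e
      have h2 := congrArg (t⁻¹ : MulAut W) h1
      rwa [MulAut.inv_apply_self] at h2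
    have h4 := D.hf _ ((inv_mem tS v).2 hv) e1
    have h5 := congrArg (t : MulAut W) h4
    rwa [MulAut.apply_inv_self, map_one] at h5⟩
  have e1 := F.of_t F1 tS ⟨z, D.zc, D.z1, D.tz⟩ D.tn
  -- the quotient
  have FQ := D.fpq
  have hmul : ∀ v : W ⧸ c, quo (t * h * t⁻¹) hthS v = (quo t tS * quo h D.hc * (quo t tS)⁻¹) v := by
    intro v
    have h1 : quo (t * h * t⁻¹) hthS * quo t tS = quo t tS * quo h D.hc := by
      ext w
      induction w using QuotientGroup.induction_on with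
      | H w =>
        show (QuotientGroup.mk (t (h (t⁻¹ (t w)))) : W ⧸ c) = QuotientGroup.mk (t (h w))
        rw [MulAut.inv_apply_self]
    rw [← h1, mul_inv_cancel_right]
  have F2 : Fp (⊤ : Subgroup (W ⧸ c)) (quo t tS * quo h D.hc * (quo t tS)⁻¹) := by
    refine ⟨FQ.sq, FQ.card, fun _ _ => mem_top _, fun v hv e => ?_⟩
    have e2 : quo h D.hc ((quo t tS)⁻¹ v) = (quo t tS)⁻¹ v := by
      have h1 : quo t tS (quo h D.hc ((quo t tS)⁻¹ v)) = v := e
      have h2 := congrArg ((quo t tS)⁻¹ : MulAut (W ⧸ c)) h1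
      rwa [MulAut.inv_apply_self] at h2
    have h4 := FQ.fix _ (mem_top _) e2
    have h5 := congrArg (quo t tS : MulAut (W ⧸ c)) h4
    rwa [MulAut.apply_inv_self, map_one] at h5
  have hfix : ∃ v ∈ (⊤ : Subgroup (W ⧸ c)), v ≠ 1 ∧ quo t tS v = v := by
    obtain ⟨k, hk⟩ := D.pB ⟨t, D.tB⟩
    have hk' : t ^ (2 ^ k) = 1 := congrArg Subtype.val hk
    obtain ⟨x, hx, hn⟩ := D.mv
    obtain ⟨v, hv, hv2⟩ := exists_fix D.sq hk' ⟨x z, fun h1 => D.z1 (D.ti' hx hn z D.zc h1)⟩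
    exact ⟨QuotientGroup.mk v, mem_top _, fun e => hv ((QuotientGroup.eq_one_iff v).1 e), by
      rw [quo_mk, mk_eq]; exact hv2⟩
  have hne : ∃ v ∈ (⊤ : Subgroup (W ⧸ c)), quo t tS v ≠ v := by
    obtain ⟨v, hv⟩ := D.t_q
    exact ⟨QuotientGroup.mk v, mem_top _, fun e => hv (by rwa [quo_mk, mk_eq] at e)⟩
  have e2 := FQ.of_t F2 (fun v => ⟨fun _ => mem_top _, fun _ => mem_top _⟩) hfix hne
  -- `g`
  have hgU : t * h * t⁻¹ * h ∈ Un c := by
    refine ⟨fun v hv => ?_, fun v => ?_⟩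
    · show (t * h * t⁻¹) (h v) = v
      rw [e1 _ (F.mem v hv), F.three hv]
    · have h1 := e2 (QuotientGroup.mk (h v)) (mem_top _)
      rw [← hmul, quo_mk, quo_mk, quo_mk, mk_eq] at h1
      have h2 : h (h (h v)) = v := by
        have := congrArg (fun g : MulAut W => g v) D.h3
        simp only [p3] at this
        exact this
      rwa [h2] at h1
  have hthK : t * h * t⁻¹ ∈ K := D.BK t D.tB h D.hK
  have hgB : t * h * t⁻¹ * h ∈ B₀ := D.KUn (mul_mem hthK D.hK) hgU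
  set g := t * h * t⁻¹ * h with hg
  have eg : t * h * t⁻¹ = g * h⁻¹ := by rw [hg]; group
  have h3i : (h⁻¹) ^ 3 = 1 := by rw [inv_pow, D.h3, inv_one]
  have h3g : (g * h⁻¹) ^ 3 = 1 := by
    rw [← eg]
    have : (t * h * t⁻¹) ^ 3 = t * h ^ 3 * t⁻¹ := by rw [p3, p3]; group
    rw [this, D.h3]; group
  have h4 := idA (Un_sq D.sq hgU) h3i h3g
  have h5 : h⁻¹ * g * h⁻¹⁻¹ ∈ B₀ := D.KN (inv_mem D.hK) (inv_mem D.hc) hgB
  refine ⟨h⁻¹ * g * h⁻¹⁻¹ * t, mul_mem (D.B₀B h5) D.tB, ?_⟩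
  have e3 : h⁻¹ * g * h⁻¹⁻¹ * t * h * (h⁻¹ * g * h⁻¹⁻¹ * t)⁻¹ =
      h⁻¹ * g * h⁻¹⁻¹ * (t * h * t⁻¹) * (h⁻¹ * g * h⁻¹⁻¹)⁻¹ := by
    rw [mul_inv_rev]; simp only [mul_assoc]
  rw [e3, eg, ← h4]
  generalize h⁻¹ * g * h⁻¹⁻¹ = w
  group

theorem exists_y [Finite W] : ∃ y ∈ Y, y * y = 1 ∧ y * h = h * y ∧ y ∉ St c := by
  obtain ⟨x, hx, hn, hxx, hh⟩ := D.exists_swap
  have hti := D.ti' hx hn
  rcases D.eps hx hn hxx hh with e | e
  · exact D.exists_y_of hti (D.KY hx) e hxx (by rw [inv_mul_cancel]; exact one_mem _)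
  have e4 : h * h * (h * h) = h := by
    have h1 : h * h * h = 1 := by rw [← p3]; exact D.h3
    rw [← mul_assoc, h1, one_mul]
  by_cases hb : ∃ b ∈ B₀, b ≠ 1 ∧ b * h = h * b
  · obtain ⟨b, hb, hb1, hbh⟩ := hb
    have hxi : x⁻¹ ∉ St c := fun h1 => hn (by simpa using inv_mem h1)
    refine ⟨x * b * x⁻¹, D.KY (mul_mem (mul_mem hx (D.B₀K hb)) (inv_mem hx)), ?_, ?_, fun h1 => hb1 ?_⟩
    · have e1 : x * b * x⁻¹ * (x * b * x⁻¹) = x * (b * b) * x⁻¹ := by group
      rw [e1, Un_sq D.sq (D.un hb)]; group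
    · have e1 : x * (h * h) * x⁻¹ = h := by
        have e5 : x * (h * h) * x⁻¹ = x * h * x⁻¹ * (x * h * x⁻¹) := by group
        rw [e5, e, e4]
      have e6 : x * b * x⁻¹ * (x * (h * h) * x⁻¹) = x * (h * h) * x⁻¹ * (x * b * x⁻¹) := by
        have e7 : b * (h * h) = h * h * b := by rw [← mul_assoc, hbh, mul_assoc, hbh, ← mul_assoc]
        have e8 : x * b * x⁻¹ * (x * (h * h) * x⁻¹) = x * (b * (h * h)) * x⁻¹ := by group
        rw [e8, e7]; group
      rwa [e1] at e6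
    · exact D.free' (x := x⁻¹) (inv_mem hx) hxi hb (by rwa [inv_inv])
  · push Not at hb
    obtain ⟨t', ht', hth⟩ := D.exists_t
    have htS := D.Bc ht'
    have hxx' : t' * x * t'⁻¹ ∈ K := D.BK t' ht' x hx
    have hxn' : t' * x * t'⁻¹ ∉ St c := by
      intro h1
      apply hn
      have h2 := mul_mem (mul_mem (inv_mem htS) h1) htS
      have e1 : t'⁻¹ * (t' * x * t'⁻¹) * t' = x := by group
      rwa [e1] at h2
    obtain ⟨b, hbB, hbs⟩ := D.lines hx hn hxx' hxn'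
    have hm : x⁻¹ * (t'⁻¹ * b) * x ∈ St c := by
      have h2 := mul_mem (inv_mem htS) hbs
      have e1 : t'⁻¹ * ((t' * x * t'⁻¹)⁻¹ * b * x) = x⁻¹ * (t'⁻¹ * b) * x := by group
      rwa [e1] at h2
    have hb1 : b⁻¹ * (h * b * h⁻¹) = 1 := by
      refine D.free' hx hn (mul_mem (inv_mem hbB) (D.KN D.hK D.hc hbB)) ?_
      have h2 : x⁻¹ * (b⁻¹ * h * b) * x ∈ St c := by
        have h3 := mul_mem (mul_mem (inv_mem hm) (inv_mem hh)) hm
        have e1 : (x⁻¹ * (t'⁻¹ * b) * x)⁻¹ * (x⁻¹ * h * x)⁻¹ * (x⁻¹ * (t'⁻¹ * b) * x) =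
            x⁻¹ * (b⁻¹ * (t' * h * t'⁻¹)⁻¹ * b) * x := by group
        rwa [e1, hth, inv_inv] at h3
      have h3 := mul_mem h2 (inv_mem hh)
      have e1 : x⁻¹ * (b⁻¹ * h * b) * x * (x⁻¹ * h * x)⁻¹ = x⁻¹ * (b⁻¹ * (h * b * h⁻¹)) * x := by group
      rwa [e1] at h3
    have hbe : b = 1 := by
      by_contra hne
      refine hb b hbB hne ?_
      rw [inv_mul_eq_one, eq_mul_inv_iff_mul_eq] at hb1
      exact hb1
    rw [hbe, mul_one] at hm
    have hm' : x⁻¹ * t' * x ∈ St c := by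
      have h2 := inv_mem hm
      have e1 : (x⁻¹ * t'⁻¹ * x)⁻¹ = x⁻¹ * t' * x := by group
      rwa [e1] at h2
    refine D.exists_y_of (w := x * t') hti (mul_mem (D.KY hx) (D.BY ht')) ?_ ?_ ?_
    · have e1 : t' * h = h⁻¹ * t' := by rw [← hth]; group
      have e2 : x * h⁻¹ = h * x := by
        have e3 : x * h⁻¹ * x⁻¹ = h := by
          have e5 : x * h⁻¹ * x⁻¹ = (x * h * x⁻¹)⁻¹ := by group
          rw [e5, e]
          exact inv_eq_of_mul_eq_one_left (by rw [← mul_assoc, ← p3]; exact D.h3)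
        rw [mul_inv_eq_iff_eq_mul] at e3
        exact e3
      rw [mul_assoc, e1, ← mul_assoc, e2, mul_assoc]
    · have e1 : x * t' * (x * t') = x * x * (x⁻¹ * t' * x) * t' := by group
      rw [e1]
      exact mul_mem (mul_mem hxx hm') htS
    · have e1 : (x * t')⁻¹ * x = t'⁻¹ := by group
      rw [e1]
      exact inv_mem htS

theorem fixc [Finite W] {u : MulAut W} (hu : u ∈ Un c) (hh : u * h = h * u) (hu1 : u ≠ 1) {v : W} (hv : u v = v) :
    v ∈ c := by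
  by_contra hn
  apply hu1
  have hc : ∀ v, u (h v) = h (u v) := fun v => congrArg (fun g : MulAut W => g v) hh
  have key : ∀ m w : W, u m = m → (QuotientGroup.mk w : W ⧸ c) = QuotientGroup.mk m → u w = w := by
    intro m w hm e
    rw [mk_eq] at e
    have h1 := hu.1 _ e
    rw [map_mul, map_inv, hm] at h1
    exact mul_right_cancel h1
  ext w
  rw [MulAut.one_apply]
  have hv' : (QuotientGroup.mk v : W ⧸ c) ≠ 1 := fun e => hn ((QuotientGroup.eq_one_iff v).1 e)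
  rcases D.fpq.cases (mem_top _) hv' (mem_top (QuotientGroup.mk w)) with e | e | e | e
  · exact hu.1 w ((QuotientGroup.eq_one_iff w).1 e)
  · exact key v w hv e
  · exact key (h v) w (by rw [hc, hv]) e
  · exact key (v * h v) w (by rw [map_mul, hc, hv]) e

theorem main_h [Finite W] {u : MulAut W} (hu : u ∈ Un c) (hh : u * h = h * u) (huY : ∀ y ∈ Y, u * y * u⁻¹ ∈ Y) :
    u ∈ Y := by
  by_cases hu1 : u = 1
  · rw [hu1]; exact one_mem _
  have F := D.fpc
  obtain ⟨y, hy, hy2, hyh, hyn⟩ := D.exists_y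
  have hu2 := Un_sq D.sq hu
  have eu : u⁻¹ = u := (eq_inv_of_mul_eq_one_left hu2).symm
  have ey : y⁻¹ = y := (eq_inv_of_mul_eq_one_left hy2).symm
  have hyc' : ∀ v, y (h v) = h (y v) := fun v => congrArg (fun g : MulAut W => g v) hyh
  have hyy : ∀ v, y (y v) = v := fun v => congrArg (fun g : MulAut W => g v) hy2
  have hyc : ∀ v ∈ c, y v ∈ c → v = 1 := by
    intro v hv hyv
    by_contra hv1
    apply hyn
    have h1 : ∀ w ∈ c, y w ∈ c := by
      intro w hw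
      rcases F.cases hv hv1 hw with rfl | rfl | rfl | rfl
      · rw [map_one]; exact one_mem _
      · exact hyv
      · rw [hyc']; exact F.mem _ hyv
      · rw [map_mul, hyc']; exact mul_mem hyv (F.mem _ hyv)
    intro w
    refine ⟨fun h2 => ?_, h1 w⟩
    have h3 := h1 _ h2
    rwa [hyy] at h3
  have euy : (u * y)⁻¹ = y * u := by rw [mul_inv_rev, eu, ey]
  have hodd : Odd (orderOf (u * y)) := by
    by_contra hev
    rw [Nat.not_odd_iff_even] at hev
    obtain ⟨m, hm⟩ := hev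
    have hpos : 0 < orderOf (u * y) := orderOf_pos _
    obtain ⟨w, hw⟩ : ∃ w, w = (u * y) ^ m := ⟨_, rfl⟩
    have hw1 : w ≠ 1 := by
      intro e
      rw [hw] at e
      have h1 := Nat.le_of_dvd (by omega) (orderOf_dvd_of_pow_eq_one e)
      omega
    have hw2 : w * w = 1 := by rw [hw, ← pow_add, ← hm, pow_orderOf_eq_one]
    have ew : w⁻¹ = w := (eq_inv_of_mul_eq_one_left hw2).symm
    have hwu : u * w * u⁻¹ = w := by
      have h1 : u * (u * y) * u⁻¹ = (u * y)⁻¹ := by rw [euy, ← mul_assoc, hu2, one_mul, eu]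
      have h2 : u * w * u⁻¹ = (u * (u * y) * u⁻¹) ^ m := by rw [hw, conj_pow]
      rw [h2, h1, inv_pow, ← hw, ew]
    have hwy : y * w * y⁻¹ = w := by
      have h1 : y * (u * y) * y⁻¹ = (u * y)⁻¹ := by rw [euy]; group
      have h2 : y * w * y⁻¹ = (y * (u * y) * y⁻¹) ^ m := by rw [hw, conj_pow]
      rw [h2, h1, inv_pow, ← hw, ew]
    have hwh : h * w * h⁻¹ = w := by
      have h1 : h * (u * y) * h⁻¹ = u * y := by
        rw [← mul_assoc, ← hh, mul_assoc u h y, ← hyh]; group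
      have h2 : h * w * h⁻¹ = (h * (u * y) * h⁻¹) ^ m := by rw [hw, conj_pow]
      rw [h2, h1, ← hw]
    rw [mul_inv_eq_iff_eq_mul] at hwu hwy hwh
    have hwu' : ∀ v, u (w v) = w (u v) := fun v => congrArg (fun g : MulAut W => g v) hwu
    have hwy' : ∀ v, y (w v) = w (y v) := fun v => congrArg (fun g : MulAut W => g v) hwy
    have hwh' : ∀ v, h (w v) = w (h v) := fun v => congrArg (fun g : MulAut W => g v) hwh
    have hww : ∀ v, w (w v) = v := fun v => congrArg (fun g : MulAut W => g v) hw2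
    have hwc : ∀ v ∈ c, w v ∈ c := fun v hv => D.fixc hu hh hu1 (by rw [hwu', hu.1 v hv])
    have hwt : ∀ v ∈ c, w v = v := fun v hv =>
      F.cent_two hwc (fun v _ => (hwh' v).symm) (fun v _ => hww v) hv
    apply hw1
    ext v
    obtain ⟨a, ha, m', hm', rfl⟩ := D.dec hyc v
    rw [MulAut.one_apply, map_mul, hwt a ha, ← hwy', hwt m' hm']
  obtain ⟨k, hk⟩ := hodd
  have h1 : (u * y) * (u * y) ∈ Y := by
    have e1 : (u * y) * (u * y) = u * y * u⁻¹ * y := by rw [eu]; group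
    rw [e1]
    exact mul_mem (huY y hy) hy
  have h2 : u * y ∈ Y := by
    have h3 := pow_mem h1 (k + 1)
    have e1 : (u * y * (u * y)) ^ (k + 1) = u * y := by
      rw [← pow_two, ← pow_mul, show 2 * (k + 1) = (2 * k + 1) + 1 by ring, pow_succ, ← hk, pow_orderOf_eq_one,
        one_mul]
    rwa [e1] at h3
  have h3 := mul_mem h2 (inv_mem hy)
  rwa [mul_inv_cancel_right] at h3

/-- an element which is trivial on `c` -/
theorem main_un [Finite W] {s : MulAut W} (hs : s ∈ St c) (hc : ∀ v ∈ c, s v = v)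
    (hsY : ∀ y ∈ Y, s * y * s⁻¹ ∈ Y) {n : ℕ} (hn : s ^ (2 ^ n) = 1) : s ∈ B₀ := by
  have hBY : B₀ ≤ Y := D.B₀K.trans D.KY
  have hsB : ∀ b ∈ B₀, s * b * s⁻¹ ∈ B₀ := fun b hb => D.YUn (hsY b (hBY hb)) (Un_norm hs (D.un hb))
  obtain ⟨x, hx, hxn⟩ := D.mv
  obtain ⟨m, hm, hm2⟩ := exists_fix D.sq hn ⟨x z, fun h1 => D.z1 (D.ti' hx hxn z D.zc h1)⟩
  have hcomm : ∀ b ∈ B₀, s * b * s⁻¹ = b := by
    intro b hb
    have h1 := hsB b hb
    have e1 : (s * b * s⁻¹) (s m) = b m * m⁻¹ * s m := by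
      show s (b (s⁻¹ (s m))) = _
      rw [MulAut.inv_apply_self]
      have h2 := hc _ ((D.un hb).2 m)
      rw [map_mul, map_inv, mul_inv_eq_iff_eq_mul] at h2
      exact h2
    have e2 : (s * b * s⁻¹) (s m * m⁻¹) = s m * m⁻¹ := (D.un h1).1 _ hm2
    rw [map_mul, e1, map_inv, mul_inv_eq_iff_eq_mul, mul_comm (b m * m⁻¹)] at e2
    have e3 : (s * b * s⁻¹) m = b m := by
      have e4 : s m * (b m * m⁻¹) = s m * (m⁻¹ * (s * b * s⁻¹) m) := by rw [e2, mul_assoc]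
      have e5 := mul_left_cancel e4
      rw [mul_comm (b m)] at e5
      exact (mul_left_cancel e5).symm
    have h4 : b⁻¹ * (s * b * s⁻¹) = 1 := by
      refine D.free _ (mul_mem (inv_mem hb) h1) m hm ?_
      rw [MulAut.mul_apply, e3, MulAut.inv_apply_self]
    exact (inv_mul_eq_one.1 h4).symm
  have hsU : s ∈ Un c := by
    refine ⟨hc, fun v => ?_⟩
    obtain ⟨b, hb, hbe⟩ := D.orb hm D.zc
    have hb1 : b ≠ 1 := by
      rintro rfl
      rw [MulAut.one_apply] at hbe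
      exact D.z1 (by simpa using hbe.symm)
    by_contra hv
    apply hb1
    refine D.free b hb _ hv ?_
    have h1 := hcomm b hb
    rw [mul_inv_eq_iff_eq_mul] at h1
    have h2 : s (b v) = b (s v) := congrArg (fun g : MulAut W => g v) h1
    have h3 := hc _ ((D.un hb).2 v)
    rw [map_mul, map_inv, h2, mul_inv_eq_iff_eq_mul] at h3
    rw [map_mul, map_inv, h3, mul_comm (b v * v⁻¹), mul_assoc, mul_assoc, mul_comm v⁻¹, ← mul_assoc (b v),
      mul_inv_cancel, one_mul]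
  -- `[s, h]`
  have hg : s * h * s⁻¹ * h⁻¹ ∈ B₀ := by
    refine D.YUn (mul_mem (hsY h (D.KY D.hK)) (inv_mem (D.KY D.hK))) ?_
    have e : s * h * s⁻¹ * h⁻¹ = s * (h * s⁻¹ * h⁻¹) := by group
    rw [e]
    exact mul_mem hsU (Un_norm D.hc (inv_mem hsU))
  obtain ⟨g, hgd⟩ : ∃ g, g = s * h * s⁻¹ * h⁻¹ := ⟨_, rfl⟩
  rw [← hgd] at hg
  have eg : g * h = s * h * s⁻¹ := by rw [hgd]; group
  have h3g : (g * h) ^ 3 = 1 := by
    rw [eg]
    have : (s * h * s⁻¹) ^ 3 = s * h ^ 3 * s⁻¹ := by rw [p3, p3]; group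
    rw [this, D.h3]; group
  have h4 := idA (Un_sq D.sq (D.un hg)) D.h3 h3g
  have h5 := D.KN D.hK D.hc hg
  obtain ⟨b, hbd⟩ : ∃ b, b = h * g * h⁻¹ := ⟨_, rfl⟩
  rw [← hbd] at h4 h5
  have hbY : b ∈ Y := hBY h5
  have hu : b * s ∈ Un c := mul_mem (D.un h5) hsU
  have hcm : b * s * h = h * (b * s) := by
    have e1 : b * (s * h * s⁻¹) = h * b := by
      rw [← eg, ← h4]; group
    calc b * s * h = b * (s * h * s⁻¹) * s := by group
      _ = h * (b * s) := by rw [e1, mul_assoc]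
  have h6 : b * s ∈ Y := D.main_h hu hcm fun y hy => by
    have e1 : b * s * y * (b * s)⁻¹ = b * (s * y * s⁻¹) * b⁻¹ := by group
    rw [e1]
    exact mul_mem (mul_mem hbY (hsY y hy)) (inv_mem hbY)
  have h7 := D.YUn h6 hu
  have h8 := mul_mem (inv_mem h5) h7
  rwa [inv_mul_cancel_left] at h8

/-- **(Sig)** = LEMMA U. -/
theorem main [Finite W] {s : MulAut W} (hs : s ∈ St c) (sz : s z = z)
    (hsY : ∀ y ∈ Y, s * y * s⁻¹ ∈ Y) (hp : IsPGroup 2 (B ⊔ zpowers s : Subgroup (MulAut W))) : s ∈ B := by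
  have key : ∀ g : MulAut W, g ∈ (B ⊔ zpowers s : Subgroup (MulAut W)) → ∃ n : ℕ, g ^ (2 ^ n) = 1 := by
    intro g hg
    obtain ⟨n, hn⟩ := hp ⟨g, hg⟩
    exact ⟨n, congrArg Subtype.val hn⟩
  by_cases hc : ∀ v ∈ c, s v = v
  · obtain ⟨n, hn⟩ := key s (mem_sup_right (mem_zpowers s))
    exact D.B₀B (D.main_un hs hc hsY hn)
  push Not at hc
  obtain ⟨a, ha, hne⟩ := hc
  have ha1 : a ≠ 1 := by
    rintro rfl
    exact hne (map_one _)
  have haz : z ≠ a := by
    rintro rfl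
    exact hne sz
  have tS := D.Bc D.tB
  have F := D.fpc
  -- both map `a` to `z a`
  have h1 : ∀ g : MulAut W, g ∈ St c → g z = z → g a ≠ a → g a = z * a := by
    intro g hg hgz hga
    rcases four D.cc D.sq D.zc ha D.z1 ha1 haz ((hg a).2 ha) with e | e | e | e
    · exact absurd e (F.ne_one ha1 g)
    · exfalso
      rw [← hgz] at e
      exact haz (g.injective e).symm
    · exact absurd e hga
    · exact e
  have hta : t a ≠ a := by
    intro e
    obtain ⟨v, hv, hvne⟩ := D.tn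
    apply hvne
    rcases four D.cc D.sq D.zc ha D.z1 ha1 haz hv with rfl | rfl | rfl | rfl
    · rw [map_one]
    · exact D.tz
    · exact e
    · rw [map_mul, D.tz, e]
  have e1 := h1 s hs sz hne
  have e2 := h1 t tS D.tz hta
  have e3 : ∀ v ∈ c, (t⁻¹ * s) v = v := by
    intro v hv
    have h2 : s v = t v := by
      rcases four D.cc D.sq D.zc ha D.z1 ha1 haz hv with rfl | rfl | rfl | rfl
      · rw [map_one, map_one]
      · rw [sz, D.tz]
      · rw [e1, e2]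
      · rw [map_mul, map_mul, sz, D.tz, e1, e2]
    rw [MulAut.mul_apply, h2, MulAut.inv_apply_self]
  have htY := D.BY D.tB
  obtain ⟨n, hn⟩ := key (t⁻¹ * s) (mul_mem (inv_mem (mem_sup_left D.tB)) (mem_sup_right (mem_zpowers s)))
  have h2 := D.main_un (mul_mem (inv_mem tS) hs) e3 (fun y hy => by
    have e4 : t⁻¹ * s * y * (t⁻¹ * s)⁻¹ = t⁻¹ * (s * y * s⁻¹) * t := by group
    rw [e4]
    exact mul_mem (mul_mem (inv_mem htY) (hsY y hy)) htY) hn
  have h3 := mul_mem D.tB (D.B₀B h2)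
  rwa [mul_inv_cancel_left] at h3

end Dt

end abs

end Cfsg.Agent.Omega.OM.Lev.Low.TorusK.SigU
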