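import Cfsg.Agent.Omega.OM.Lev.Low.TorusK.UniCl

/-!
# TORUS: (S) SPLIT (helper607 #23961, with f1 of helper743 #24820)

* `comm_le` : two blocks `(L, V)`, `(L', V')` over `(B, X)` with `[V', B]` not centralised by `L`: `[V', B] ≤ [V, B]`;
* `cj_comm_le` : `V' = V^τ`, `τ ∈ N(B)`: `[V, B]` is `τ`-invariant;
* `comp_le` : a `τ`-invariant group `D` which is centralised by `t` has trivial `c`-components;
* `split` : **`[V, B] ∩ C(L) = 1`**.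
-/

set_option autoImplicit false
set_option linter.unusedSectionVars false

namespace Cfsg.Agent.Omega.OM.Lev.Low.TorusK

open Subgroup Cfsg Cfsg.Agent.ZN Cfsg.Agent.ZN.ChoiceBase
open Cfsg.Agent.Omega.NO3S.Level.Claim (Fm Bl cB mem_cB cB_le)
open scoped commutatorElement

universe u

variable {G : Type u} [Group G]

section blocks

variable {S U H B X L V L' V' : Subgroup G} {AA : Set (Subgroup G)}

/-- `[b, v'] = [b, v]` for some `v ∈ V` -/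
theorem exists_comm [Finite G] (f : Fm S U H B X AA) (k : Bl S U H B X AA L V) (k' : Bl S U H B X AA L' V')
    (hm : ∃ b ∈ B, ∃ v ∈ V', b * v * b⁻¹ * v⁻¹ ∉ centralizer (L : Set G)) {v' : G} (hv' : v' ∈ V') :
    ∃ v ∈ V, ∀ b ∈ B, b * v' * b⁻¹ * v'⁻¹ = b * v * b⁻¹ * v⁻¹ := by
  have hU := f.Yc
  have h1 : V' ≤ V ⊔ X := uni f k k' hm
  obtain ⟨v, hv, x, hx, rfl⟩ := Cfsg.Agent.Omega.SQ1.Bau.mem_sup_comm
    (fun a ha b hb => hU a (k.VY ha) b (f.ZY hb)) (h1 hv')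
  refine ⟨v, hv, fun b hb => ?_⟩
  have e1 := f.BZ b hb x hx
  calc b * (v * x) * b⁻¹ * (v * x)⁻¹ = b * v * (x * b⁻¹) * x⁻¹ * v⁻¹ := by group
    _ = b * v * (b⁻¹ * x) * x⁻¹ * v⁻¹ := by
        have : x * b⁻¹ = b⁻¹ * x := by
          calc x * b⁻¹ = b⁻¹ * (b * x) * b⁻¹ := by group
            _ = b⁻¹ * (x * b) * b⁻¹ := by rw [e1]
            _ = b⁻¹ * x := by group
        rw [this]
    _ = b * v * b⁻¹ * v⁻¹ := by group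

theorem comm_le [Finite G] (f : Fm S U H B X AA) (k : Bl S U H B X AA L V) (k' : Bl S U H B X AA L' V')
    (hm : ∃ b ∈ B, ∃ v ∈ V', b * v * b⁻¹ * v⁻¹ ∉ centralizer (L : Set G)) : ⁅V', B⁆ ≤ ⁅V, B⁆ := by
  rw [commutator_comm V' B, commutator_comm V B]
  refine commutator_le.2 fun b hb v' hv' => ?_
  obtain ⟨v, hv, h1⟩ := exists_comm f k k' hm hv'
  have h2 := h1 b hb
  rw [commutatorElement_def, h2, ← commutatorElement_def]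
  exact commutator_mem_commutator hb hv

/-- `[V, B]` is `τ`-invariant. -/
theorem cj_comm_le [Finite G] (f : Fm S U H B X AA) (k : Bl S U H B X AA L V) {τ : G}
    (hτ : τ ∈ normalizer (B : Set G)) (k' : Bl S U H B X AA L' (cj τ V))
    (hm : ∃ b ∈ B, ∃ v ∈ cj τ V, b * v * b⁻¹ * v⁻¹ ∉ centralizer (L : Set G)) :
    ∀ d ∈ ⁅V, B⁆, τ * d * τ⁻¹ ∈ ⁅V, B⁆ := by
  have h1 := comm_le f k k' hm
  have h2 : cj τ ⁅V, B⁆ ≤ ⁅V, B⁆ := by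
    have e : cj τ ⁅V, B⁆ = ⁅cj τ V, B⁆ := by
      conv_rhs => rw [← cj_eq_of_mem_normalizer hτ]
      exact map_commutator _ _ _
    rw [e]
    exact h1
  exact fun d hd => h2 ⟨d, hd, rfl⟩

end blocks

/-- A `τ`-invariant group `D` which is centralised by `t` has trivial `c`-components. -/
theorem comp_le {D c N : Subgroup G} {τ t : G} (hdec : ∀ d ∈ D, ∃ a ∈ c, ∃ n ∈ N, d = a * n) (hcN : c ⊓ N = ⊥)
    (hτc : ∀ a ∈ c, τ * a * τ⁻¹ ∈ c) (hτN : ∀ n ∈ N, τ * n * τ⁻¹ = n) (hτD : ∀ d ∈ D, τ * d * τ⁻¹ ∈ D)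
    (htc : ∀ a ∈ c, t * a * t⁻¹ ∈ c) (htN : ∀ n ∈ N, t * n * t⁻¹ ∈ N) (htD : ∀ d ∈ D, t * d * t⁻¹ = d)
    (hfix : ∀ a ∈ c, t * a * t⁻¹ = a → t * (τ * a * τ⁻¹) * t⁻¹ = τ * a * τ⁻¹ → a = 1) : D ≤ N := by
  have key : ∀ d ∈ D, ∀ a ∈ c, ∀ n ∈ N, d = a * n → t * a * t⁻¹ = a := by
    rintro d hd a ha n hn rfl
    have h1 := htD _ hd
    have h2 : a⁻¹ * (t * a * t⁻¹) = n * (t * n * t⁻¹)⁻¹ := by
      have e1 : t * (a * n) * t⁻¹ = (t * a * t⁻¹) * (t * n * t⁻¹) := by group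
      rw [e1] at h1
      calc a⁻¹ * (t * a * t⁻¹) = a⁻¹ * ((t * a * t⁻¹) * (t * n * t⁻¹)) * (t * n * t⁻¹)⁻¹ := by group
        _ = a⁻¹ * (a * n) * (t * n * t⁻¹)⁻¹ := by rw [h1]
        _ = _ := by group
    have h3 : a⁻¹ * (t * a * t⁻¹) ∈ c ⊓ N :=
      mem_inf.2 ⟨c.mul_mem (c.inv_mem ha) (htc a ha), by rw [h2]; exact N.mul_mem hn (N.inv_mem (htN n hn))⟩
    rw [hcN, mem_bot] at h3
    exact (inv_mul_eq_one.1 h3).symm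
  intro d hd
  obtain ⟨a, ha, n, hn, e⟩ := hdec d hd
  have h1 := key d hd a ha n hn e
  have h2 := key _ (hτD d hd) (τ * a * τ⁻¹) (hτc a ha) n hn (by
    calc τ * d * τ⁻¹ = (τ * a * τ⁻¹) * (τ * n * τ⁻¹) := by rw [e]; group
      _ = _ := by rw [hτN n hn])
  have h3 := hfix a ha h1 h2
  rw [e, h3, one_mul]
  exact hn

/-- **(S) SPLIT.** `c i` the lines, `N i` the complements in `X`, `D = [V, B] ≤ X` for a block `(L, V)` with line `c l`. -/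
theorem split {ι : Type*} {D L X : Subgroup G} {c N : ι → Subgroup G} {l : ι} {τ t : ι → G} (hDX : D ≤ X)
    (hX : ∀ i, ∀ x ∈ X, ∃ a ∈ c i, ∃ n ∈ N i, x = a * n) (hcN : ∀ i, c i ⊓ N i = ⊥)
    (hint : X ⊓ (⨅ i, N i) = ⊥) (hL : ∀ x ∈ X, x ∈ centralizer (L : Set G) → x ∈ N l)
    (hτc : ∀ i, i ≠ l → ∀ a ∈ c i, τ i * a * (τ i)⁻¹ ∈ c i) (hτN : ∀ i, i ≠ l → ∀ n ∈ N i, τ i * n * (τ i)⁻¹ = n)
    (hτD : ∀ i, i ≠ l → ∀ d ∈ D, τ i * d * (τ i)⁻¹ ∈ D)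
    (htc : ∀ i, i ≠ l → ∀ a ∈ c i, t i * a * (t i)⁻¹ ∈ c i) (htN : ∀ i, i ≠ l → ∀ n ∈ N i, t i * n * (t i)⁻¹ ∈ N i)
    (htD : ∀ i, i ≠ l → ∀ d ∈ D, t i * d * (t i)⁻¹ = d)
    (hfix : ∀ i, i ≠ l → ∀ a ∈ c i, t i * a * (t i)⁻¹ = a →
      t i * (τ i * a * (τ i)⁻¹) * (t i)⁻¹ = τ i * a * (τ i)⁻¹ → a = 1) :
    D ⊓ centralizer (L : Set G) = ⊥ := by
  rw [eq_bot_iff, ← hint]
  refine fun d hd => ⟨hDX hd.1, mem_iInf.2 fun i => ?_⟩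
  by_cases hi : i = l
  · subst hi
    exact hL d (hDX hd.1) hd.2
  · exact comp_le (fun x hx => hX i x (hDX hx)) (hcN i) (hτc i hi) (hτN i hi) (hτD i hi) (htc i hi) (htN i hi)
      (htD i hi) (hfix i hi) hd.1

end Cfsg.Agent.Omega.OM.Lev.Low.TorusK
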