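import Cfsg.Agent.Omega.OM.Lev.Low.TorusK.SplitOne

/-!
# TORUS, `k ≥ 4`: (SPLIT), second half

* `BK.cjt` : the conjugates of a block over `W l` with a torus element of a block over `W p`, `p ≠ l`;
* `BK.ch_cen` : **`[[N, K], B₀] ∩ C(K) = 1`**.
-/

set_option autoImplicit false
set_option linter.unusedSectionVars false

namespace Cfsg.Agent.Omega.OM.Lev.Low.TorusK

open Subgroup Cfsg Cfsg.Agent.ZN Cfsg.Agent.ZN.ChoiceBase
open Cfsg.Agent.Omega.SQ1.Bau (mem_sup_comm card_sup_comm elem_comm elem_sq)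
open Cfsg.Agent.Omega.NO3S.Level.Claim (Fm Bl cB mem_cB cB_le)
open Cfsg.Agent.Omega.OM.Lev.Uni (FrL)
open Cfsg.Agent.Omega.OM.Lev.Low.TorusK.PBC
open scoped commutatorElement

universe u

variable {G : Type u} [Group G] {ι : Type} {S B Q V Xn ZJ B0 X M0 Y0 : Subgroup G} {L W Z C A : ι → Subgroup G} {z : G}
  {l : ι} {K N N1 N0 : Subgroup G}

theorem comm_cjj (g : G) (N K : Subgroup G) : ⁅ChoiceBase.cj g N, ChoiceBase.cj g K⁆ = ChoiceBase.cj g ⁅N, K⁆ :=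
  (Subgroup.map_commutator _ _ _).symm

/-- `X = W l C_X(K)` -/
theorem BK.splitX [Finite G] (h : TK S B Q V Xn ZJ B0 X M0 Y0 L W Z C A z) (k : BK B B0 X M0 Y0 W l K N N1 N0) {x : G}
    (hx : x ∈ X) : ∃ w ∈ W l, ∃ c ∈ X, (∀ g ∈ K, g * c = c * g) ∧ x = w * c := by
  have hx' := hx
  rw [← h.zB] at hx'
  obtain ⟨c, hc, hcK, n, hn, rfl⟩ := k.pb.Z_split hx'
  rw [h.zB] at hc
  obtain ⟨w, hw, n0, hn0, rfl⟩ := k.split1 h hn
  have hn0X := k.N0X h hn0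
  refine ⟨w, hw, c * n0, mul_mem hc hn0X.1, fun g hg => ?_, ?_⟩
  · have c1 : Commute g c := hcK g hg
    have c2 : Commute g n0 := k.pb.N0c g hg n0 hn0
    exact (c1.mul_right c2).eq
  · have h1 : c * w = w * c := h.Xc hc (h.WX l hw)
    calc c * (w * n0) = (c * w) * n0 := by group
      _ = (w * c) * n0 := by rw [h1]
      _ = _ := by group

theorem BK.W_inf [Finite G] (h : TK S B Q V Xn ZJ B0 X M0 Y0 L W Z C A z) (k : BK B B0 X M0 Y0 W l K N N1 N0) {p : ι}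
    (hp : p ≠ l) : W p ≤ X ⊓ centralizer (K : Set G) := fun w hw =>
  mem_inf.2 ⟨h.WX p hw, mem_centralizer_iff.2 fun g hg => k.cW p hp w hw g hg⟩

/-- conjugates with a torus element of another block -/
theorem BK.cjt [Finite G] (h : TK S B Q V Xn ZJ B0 X M0 Y0 L W Z C A z) (k : BK B B0 X M0 Y0 W l K N N1 N0) {p : ι}
    (hp : p ≠ l) {K' N' N1' N0' : Subgroup G} (k' : BK B B0 X M0 Y0 W p K' N' N1' N0') {t : G} (ht : t ∈ K')
    (htB : t ∈ normalizer (B0 : Set G)) (htW : ∀ w ∈ W p, t * w * t⁻¹ ∈ W p) :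
    BK B B0 X M0 Y0 W l (ChoiceBase.cj t K) (ChoiceBase.cj t N) (ChoiceBase.cj t N1) (ChoiceBase.cj t N0) ∧
      ChoiceBase.cj t (X ⊓ centralizer (K : Set G)) = X ⊓ centralizer (K : Set G) := by
  have htl : ∀ w ∈ W l, t * w = w * t := fun w hw => k'.cW l (Ne.symm hp) w hw t ht
  have hWl : ChoiceBase.cj t (W l) = W l := cj_eq_of_mem_normalizer (mem_normalizer_of_cj_le (by
    rintro _ ⟨w, hw, rfl⟩
    show t * w * t⁻¹ ∈ W l
    rw [htl w hw, mul_inv_cancel_right]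
    exact hw))
  have hXt : ChoiceBase.cj t X = X := by
    rw [← h.zB, ← zc_cj', cj_eq_of_mem_normalizer htB]
  have hXK : t ∈ normalizer ((X ⊓ centralizer (K : Set G) : Subgroup G) : Set G) := by
    refine mem_normalizer_of_cj_le ?_
    rintro _ ⟨x, hx, rfl⟩
    show t * x * t⁻¹ ∈ X ⊓ centralizer (K : Set G)
    obtain ⟨w, hw, c, hc, hcK, rfl⟩ := k'.splitX h hx.1
    have h1 := k.W_inf h hp
    have h2 : t * (w * c) * t⁻¹ = (t * w * t⁻¹) * w⁻¹ * (w * c) := by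
      have h3 := hcK t ht
      calc t * (w * c) * t⁻¹ = t * w * (c * t⁻¹) := by group
        _ = t * w * (t⁻¹ * (t * c) * t⁻¹) := by group
        _ = t * w * (t⁻¹ * (c * t) * t⁻¹) := by rw [h3]
        _ = _ := by group
    rw [h2]
    exact mul_mem (mul_mem (h1 (htW w hw)) (inv_mem (h1 hw))) hx
  have hXK' := cj_eq_of_mem_normalizer hXK
  have hXKt : X ⊓ centralizer (ChoiceBase.cj t K : Set G) = X ⊓ centralizer (K : Set G) := by
    rw [← hXK', cj_inf, cj_centralizer, hXt]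
  refine ⟨?_, hXK'⟩
  constructor
  · have h1 := pb_cj k.pb t
    rwa [cj_eq_of_mem_normalizer htB] at h1
  · have h1 := cj_mono t k.NY
    rwa [cj_eq_of_mem_normalizer (h.MY (k'.KM ht))] at h1
  · have h1 := cj_mono t k.KM
    rwa [cj_eq_of_mem_normalizer (le_normalizer (k'.KM ht))] at h1
  · rw [← hWl]; exact cj_mono t k.WN
  · rw [← hWl, ← cj_inf, k.WN0]
    exact Subgroup.map_bot _
  · intro q hq w hw x hx
    have h1 : w ∈ X ⊓ centralizer (ChoiceBase.cj t K : Set G) := by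
      rw [hXKt]
      exact k.W_inf h hq hw
    exact mem_centralizer_iff.1 h1.2 x hx
  · rw [hXKt]; exact k.BX
  · obtain ⟨x, hx, hxB, hxW, hxf⟩ := k.tor
    refine ⟨_, cj_mem hx, mul_mem (mul_mem htB hxB) (inv_mem htB), ?_, ?_⟩
    · intro w hw0
      rw [← hWl] at hw0 ⊢
      obtain ⟨w, hw, rfl⟩ := ex_cj hw0
      have e : t * x * t⁻¹ * (t * w * t⁻¹) * (t * x * t⁻¹)⁻¹ = t * (x * w * x⁻¹) * t⁻¹ := by group
      rw [e]
      exact cj_mem (hxW w hw)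
    · intro w hw0 he
      rw [← hWl] at hw0
      obtain ⟨w, hw, rfl⟩ := ex_cj hw0
      have e : t * x * t⁻¹ * (t * w * t⁻¹) * (t * x * t⁻¹)⁻¹ = t * (x * w * x⁻¹) * t⁻¹ := by group
      rw [e] at he
      have h1 := hxf w hw (mul_left_cancel (mul_right_cancel he))
      rw [h1]; group

theorem BK.ch_le [Finite G] (k : BK B B0 X M0 Y0 W l K N N1 N0) : ⁅⁅N, K⁆, B0⁆ ≤ N1 := by
  rw [Subgroup.commutator_le]
  intro v hv b hb
  have h1 := k.pb.quad b hb v (k.pb.VN hv)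
  have e : ⁅v, b⁆ = (b * v * b⁻¹ * v⁻¹)⁻¹ := by rw [commutatorElement_def]; group
  rw [e]
  exact inv_mem h1

theorem BK.ch_B [Finite G] (h : TK S B Q V Xn ZJ B0 X M0 Y0 L W Z C A z) (k : BK B B0 X M0 Y0 W l K N N1 N0) :
    B ≤ normalizer ((⁅⁅N, K⁆, B0⁆ : Subgroup G) : Set G) := by
  intro b hb
  have k' := k.cj h (h.BS hb) (h.BW hb l)
  have h1 := ch_eq h k k'
  rw [comm_cjj] at h1
  have e : ⁅ChoiceBase.cj b ⁅N, K⁆, B0⁆ = ChoiceBase.cj b ⁅⁅N, K⁆, B0⁆ := by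
    rw [← comm_cjj b ⁅N, K⁆ B0, cj_eq_of_mem_normalizer (h.BB0 hb)]
  rw [e] at h1
  rw [mem_normalizer_iff_cj]
  exact h1.symm

/-- **(SPLIT)** -/
theorem BK.ch_cen [Finite G] [Finite ι] (h : TK S B Q V Xn ZJ B0 X M0 Y0 L W Z C A z)
    (k : BK B B0 X M0 Y0 W l K N N1 N0) : ⁅⁅N, K⁆, B0⁆ ⊓ centralizer (K : Set G) = ⊥ := by
  by_contra hne
  set D : Subgroup G := ⁅⁅N, K⁆, B0⁆ ⊓ (X ⊓ centralizer (K : Set G)) with hD
  have hDX : (⁅⁅N, K⁆, B0⁆ : Subgroup G) ≤ X := fun x hx => (k.N1X h (k.pb.N1N (k.ch_le hx))).1 (k.ch_le hx)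
  have hDne : D ≠ ⊥ := fun e => hne (by
    rw [eq_bot_iff, ← e]
    exact le_inf inf_le_left (le_inf (inf_le_left.trans hDX) inf_le_right))
  have hDB : B ≤ normalizer (D : Set G) := fun b hb => by
    rw [mem_normalizer_iff_cj, hD, cj_inf, cj_eq_of_mem_normalizer (k.ch_B h hb), cj_eq_of_mem_normalizer (k.BX hb)]
  have hD2 : IsPGroup 2 D := h.twoB.to_le ((inf_le_left.trans hDX).trans (h.XB0.trans h.B0B))
  have h5 := PLocal.OffenderStep.inf_centralizer_ne_bot D B hD2 h.twoB hDB hDne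
  obtain ⟨⟨c, hc⟩, hc1⟩ := (Subgroup.ne_bot_iff_exists_ne_one).1 h5
  obtain ⟨⟨hcc, hcX, hcK⟩, hcB⟩ := mem_inf.1 hc
  replace hc1 : c ≠ 1 := fun e => hc1 (Subtype.ext e)
  have hcJ : c ∈ ZJ := h.mem_ZJ_of hcX fun b hb => mem_centralizer_iff.1 hcB b hb
  have h1 : ¬ ∀ i, c ∈ C i := fun hall => hc1 (h.fr.C0 c (h.fr.ZJV hcJ) hall)
  push Not at h1
  obtain ⟨p, hp⟩ := h1
  obtain ⟨w, hw, d, hd, hdJ, ec⟩ := h.fr.split_ZJ p hcJ
  have hw1 : w ≠ 1 := fun e => hp (by rw [ec, e, one_mul]; exact hd)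
  have hpl : p ≠ l := by
    rintro rfl
    refine hw1 (k.W_cen (h.ZW p hw) fun g hg => ?_)
    have h2 : d ∈ centralizer (K : Set G) := h.mem_of_C (H := centralizer (K : Set G)) (fun q hq => fun x hx =>
      mem_centralizer_iff.2 fun g hg => k.cW q hq x (h.ZW q hx) g hg) hdJ hd
    have h3 : w = c * d⁻¹ := by rw [ec]; group
    have h4 : w ∈ centralizer (K : Set G) := by rw [h3]; exact mul_mem hcK (inv_mem h2)
    exact mem_centralizer_iff.1 h4 g hg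
  -- the block over `W p`
  obtain ⟨s, hs, hsW⟩ := h.tr l p
  have kp := k.cj h hs hsW
  obtain ⟨t, ht, htB, htW, htf⟩ := kp.tor
  obtain ⟨kt, -⟩ := k.cjt h hpl kp ht htB htW
  -- `t` normalises `[[N, K], B₀]`
  have htn : ChoiceBase.cj t ⁅⁅N, K⁆, B0⁆ = ⁅⁅N, K⁆, B0⁆ := by
    have h2 := ch_eq h k kt
    rw [comm_cjj] at h2
    have e : ⁅ChoiceBase.cj t ⁅N, K⁆, B0⁆ = ChoiceBase.cj t ⁅⁅N, K⁆, B0⁆ := by
      rw [← comm_cjj t ⁅N, K⁆ B0, cj_eq_of_mem_normalizer htB]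
    rw [e] at h2
    exact h2.symm
  have hdK : ∀ g ∈ ChoiceBase.cj s K, g * d = d * g := by
    have h2 : d ∈ centralizer (ChoiceBase.cj s K : Set G) :=
      h.mem_of_C (H := centralizer (ChoiceBase.cj s K : Set G)) (fun q hq => fun x hx =>
        mem_centralizer_iff.2 fun g hg => kp.cW q hq x (h.ZW q hx) g hg) hdJ hd
    exact fun g hg => mem_centralizer_iff.1 h2 g hg
  -- `w₁ = [t, w]`
  have hwW := h.ZW p hw
  have hmem : ∀ {x : G}, x ∈ (⁅⁅N, K⁆, B0⁆ : Subgroup G) → t * x * t⁻¹ ∈ (⁅⁅N, K⁆, B0⁆ : Subgroup G) := fun {x} hx => by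
    have h3 := cj_mem (g := t) hx
    rwa [htn] at h3
  have hw1c : t * w * t⁻¹ * w⁻¹ ∈ (⁅⁅N, K⁆, B0⁆ : Subgroup G) := by
    have h2 := mul_mem (hmem hcc) (inv_mem hcc)
    have h3 := hdK t ht
    have e : t * c * t⁻¹ * c⁻¹ = t * w * t⁻¹ * w⁻¹ := by
      rw [ec]
      calc t * (w * d) * t⁻¹ * (w * d)⁻¹ = t * w * (t⁻¹ * (t * d) * t⁻¹) * d⁻¹ * w⁻¹ := by group
        _ = t * w * (t⁻¹ * (d * t) * t⁻¹) * d⁻¹ * w⁻¹ := by rw [h3]
        _ = _ := by group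
    rwa [e] at h2
  set w1 := t * w * t⁻¹ * w⁻¹ with hw1d
  have hw1W : w1 ∈ W p := mul_mem (htW w hwW) (inv_mem hwW)
  have hw11 : w1 ≠ 1 := fun e => hw1 (htf w hwW (mul_inv_eq_one.1 e))
  -- the transvection
  obtain ⟨b, hb, hbC, u, hu, hbu⟩ := h.exists_t p
  have hbl : ∀ x ∈ W l, b * x = x * b := fun x hx => hbC x (h.fr.WjC p l hpl hx)
  have hcen := k.cen_ch h hb hbl
  have hne' : ¬ ∀ u ∈ W p, b * u = u * b := fun h2 => hbu (h2 u hu)
  have hZ1 : w1 ∈ Z p := (h.fr.blk p).mem_Z hb hne' hw1W (hcen w1 hw1c)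
  have hZ2 : t * w1 * t⁻¹ ∈ Z p := (h.fr.blk p).mem_Z hb hne' (htW w1 hw1W) (hcen _ (hmem hw1c))
  have hne2 : t * w1 * t⁻¹ ≠ 1 := fun e => hw11 (by
    have h3 : w1 = t⁻¹ * (t * w1 * t⁻¹) * t := by group
    rw [h3, e]; group)
  exact hw11 (htf w1 hw1W (h.Z_two p hZ2 hZ1 hne2 hw11))

end Cfsg.Agent.Omega.OM.Lev.Low.TorusK
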